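import Mathlib

/-!
# Field automorphisms in the closings of type `L₃(q)`, `Sp₄(q)`: the Sylow 2-subgroup

`S₀ = Q₀Q₁ ⊴ S`, `Q_i` elementary abelian and normal in `S`, `D = Q₀ ∩ Q₁`, elements of `Q₀ - D` and
`Q₁ - D` do not commute, `S / S₀` has at most one involution, and the elements `f ∈ S - S₀` with
`f² ∈ S₀` act freely on `Q_i / D` and on `D`.
-/

set_option autoImplicit false

namespace Cfsg.Agent.Omega.CloseA

variable {G : Type*} [Group G]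

/-- The situation inside the Sylow 2-subgroup. -/
structure Amb (S S0 D : Subgroup G) (Q : Bool → Subgroup G) : Prop where
  QS : ∀ i, Q i ≤ S
  Qn : ∀ i, ∀ s ∈ S, ∀ a ∈ Q i, s * a * s⁻¹ ∈ Q i
  sq : ∀ i, ∀ a ∈ Q i, a * a = 1
  inf : ∀ x, x ∈ D ↔ ∀ i, x ∈ Q i
  sup : ∀ x, x ∈ S0 ↔ ∃ a ∈ Q false, ∃ b ∈ Q true, x = a * b
  cen : ∀ a ∈ Q false, ∀ b ∈ Q true, a * b = b * a → a ∈ D ∨ b ∈ D
  faith : ∀ i, ∀ s ∈ S, (∀ a ∈ Q i, s * a * s⁻¹ * a ∈ D) → s ∈ S0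
  cyc : ∀ s ∈ S, ∀ t ∈ S, s * s ∈ S0 → t * t ∈ S0 → s ∉ S0 → t ∉ S0 → s * t ∈ S0
  frD : ∀ f ∈ S, f * f ∈ S0 → f ∉ S0 → ∀ d ∈ D, f * d * f⁻¹ = d → ∃ e ∈ D, f * e * f⁻¹ * e = d
  frQ : ∀ f ∈ S, f * f ∈ S0 → f ∉ S0 → ∀ i, ∀ a ∈ Q i, f * a * f⁻¹ * a ∈ D →
    ∃ e ∈ Q i, f * e * f⁻¹ * e * a ∈ D
  fixQ : ∀ f ∈ S, f * f ∈ S0 → f ∉ S0 → ∀ i, ∃ a ∈ Q i, a ∉ D ∧ f * a * f⁻¹ * a ∈ D
  card : Nat.card (Q false) = Nat.card (Q true)

namespace Amb

variable {S S0 D : Subgroup G} {Q : Bool → Subgroup G}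

theorem D_le (h : Amb S S0 D Q) (i : Bool) : D ≤ Q i := fun x hx => (h.inf x).1 hx i

theorem D_leS (h : Amb S S0 D Q) : D ≤ S := (h.D_le false).trans (h.QS false)

theorem memD (h : Amb S S0 D Q) {i : Bool} {x : G} (h1 : x ∈ Q i) (h2 : x ∈ Q (!i)) : x ∈ D := by
  rw [h.inf]
  intro j
  cases i <;> cases j <;> first | exact h1 | exact h2

theorem inv_eq (h : Amb S S0 D Q) {i : Bool} {a : G} (ha : a ∈ Q i) : a⁻¹ = a :=
  inv_eq_of_mul_eq_one_right (h.sq i a ha)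

theorem inv_eqD (h : Amb S S0 D Q) {a : G} (ha : a ∈ D) : a⁻¹ = a := h.inv_eq (h.D_le false ha)

theorem comm (h : Amb S S0 D Q) {i : Bool} {a b : G} (ha : a ∈ Q i) (hb : b ∈ Q i) :
    a * b = b * a := by
  have h1 := h.inv_eq (mul_mem ha hb)
  rw [mul_inv_rev, h.inv_eq ha, h.inv_eq hb] at h1
  exact h1.symm

theorem mulD (h : Amb S S0 D Q) {i : Bool} {a d : G} (ha : a ∈ Q i) (hd : d ∈ D) :
    a * d = d * a := h.comm ha (h.D_le i hd)

theorem Q_le (h : Amb S S0 D Q) (i : Bool) : Q i ≤ S0 := by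
  intro x hx
  rw [h.sup]
  cases i
  · exact ⟨x, hx, 1, one_mem _, by simp⟩
  · exact ⟨1, one_mem _, x, hx, by simp⟩

theorem D_le0 (h : Amb S S0 D Q) : D ≤ S0 := (h.D_le false).trans (h.Q_le false)

theorem S0_le (h : Amb S S0 D Q) : S0 ≤ S := by
  intro x hx
  obtain ⟨a, ha, b, hb, rfl⟩ := (h.sup x).1 hx
  exact mul_mem (h.QS _ ha) (h.QS _ hb)

theorem S0n (h : Amb S S0 D Q) {s x : G} (hs : s ∈ S) (hx : x ∈ S0) : s * x * s⁻¹ ∈ S0 := by
  obtain ⟨a, ha, b, hb, rfl⟩ := (h.sup x).1 hx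
  rw [h.sup]
  exact ⟨_, h.Qn _ s hs a ha, _, h.Qn _ s hs b hb, by group⟩

theorem Dn (h : Amb S S0 D Q) {s x : G} (hs : s ∈ S) (hx : x ∈ D) : s * x * s⁻¹ ∈ D := by
  rw [h.inf] at hx ⊢
  exact fun i => h.Qn i s hs x (hx i)

/-- Decomposition with the factors in either order. -/
theorem dec (h : Amb S S0 D Q) (i : Bool) {x : G} (hx : x ∈ S0) :
    ∃ a ∈ Q i, ∃ b ∈ Q (!i), x = a * b := by
  obtain ⟨a, ha, b, hb, rfl⟩ := (h.sup x).1 hx
  cases i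
  · exact ⟨a, ha, b, hb, rfl⟩
  · refine ⟨a * b * a⁻¹, h.Qn _ a (h.QS _ ha) b hb, a, ha, by group⟩

/-- Elements of `Q_i - D` and `Q_{1-i} - D` do not commute. -/
theorem cen' (h : Amb S S0 D Q) {i : Bool} {a b : G} (ha : a ∈ Q i) (hb : b ∈ Q (!i))
    (hab : a * b = b * a) : a ∈ D ∨ b ∈ D := by
  cases i
  · exact h.cen a ha b hb hab
  · exact (h.cen b hb a ha hab.symm).symm

/-- `D` is central in `S₀`. -/
theorem central (h : Amb S S0 D Q) {x d : G} (hx : x ∈ S0) (hd : d ∈ D) : x * d = d * x := by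
  obtain ⟨a, ha, b, hb, rfl⟩ := (h.sup x).1 hx
  rw [mul_assoc, h.mulD hb hd, ← mul_assoc, h.mulD ha hd, mul_assoc]

/-- Commutators of `Q₀` and `Q₁` lie in `D`. -/
theorem comm_mem (h : Amb S S0 D Q) {i : Bool} {a b : G} (ha : a ∈ Q i) (hb : b ∈ Q (!i)) :
    a * b * a⁻¹ * b⁻¹ ∈ D := by
  refine h.memD (i := i) ?_ ?_
  · have : a * b * a⁻¹ * b⁻¹ = a * (b * a⁻¹ * b⁻¹) := by group
    rw [this]
    exact mul_mem ha (h.Qn _ b (h.QS _ hb) _ (inv_mem ha))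
  · exact mul_mem (h.Qn _ a (h.QS _ ha) _ hb) (inv_mem hb)

/-- Commutators of `S₀` lie in `D`. -/
theorem comm_mem0 (h : Amb S S0 D Q) {x y : G} (hx : x ∈ S0) (hy : y ∈ S0) :
    x * y * x⁻¹ * y⁻¹ ∈ D := by
  -- commutators with one factor in some `Q_i`
  have key : ∀ i, ∀ a ∈ Q i, ∀ y ∈ S0, a * y * a⁻¹ * y⁻¹ ∈ D := by
    intro i a ha y hy
    obtain ⟨b, hb, c, hc, rfl⟩ := h.dec i hy
    have h1 := h.comm_mem ha hc
    have h2 : a * b = b * a := h.comm ha hb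
    have e : a * (b * c) * a⁻¹ * (b * c)⁻¹ = b * (a * c * a⁻¹ * c⁻¹) * b⁻¹ := by
      calc a * (b * c) * a⁻¹ * (b * c)⁻¹ = (a * b) * c * a⁻¹ * c⁻¹ * b⁻¹ := by group
        _ = _ := by rw [h2]; group
    rw [e]
    exact h.Dn (h.QS _ hb) h1
  obtain ⟨a, ha, b, hb, rfl⟩ := (h.sup x).1 hx
  have h1 := key _ b hb y hy
  have h2 := key _ a ha y hy
  have e : a * b * y * (a * b)⁻¹ * y⁻¹ =
      (a * (b * y * b⁻¹ * y⁻¹) * a⁻¹) * (a * y * a⁻¹ * y⁻¹) := by group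
  rw [e]
  exact mul_mem (h.Dn (h.QS _ ha) h1) h2

/-- `C_{S₀}(a) = Q_i` for `a ∈ Q_i - D`. -/
theorem mem_of_comm (h : Amb S S0 D Q) {i : Bool} {a x : G} (ha : a ∈ Q i) (haD : a ∉ D)
    (hx : x ∈ S0) (hax : a * x = x * a) : x ∈ Q i := by
  obtain ⟨b, hb, c, hc, rfl⟩ := h.dec i hx
  have h1 : a * c = c * a := by
    have h2 : b * (a * c) = b * (c * a) := by
      rw [← mul_assoc, ← h.comm ha hb, mul_assoc, hax, mul_assoc]
    exact mul_left_cancel h2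
  rcases h.cen' ha hc h1 with h2 | h2
  · exact absurd h2 haD
  · exact mul_mem hb (h.D_le _ h2)

/-- Involutions of `S₀` lie in `Q₀ ∪ Q₁`. -/
theorem mem_or (h : Amb S S0 D Q) {x : G} (hx : x ∈ S0) (h2 : x * x = 1) :
    x ∈ Q false ∨ x ∈ Q true := by
  obtain ⟨a, ha, b, hb, rfl⟩ := (h.sup x).1 hx
  have h1 : a * b = b * a := by
    have h3 : (a * b)⁻¹ = a * b := inv_eq_of_mul_eq_one_right h2
    rw [mul_inv_rev, h.inv_eq ha, h.inv_eq hb] at h3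
    exact h3.symm
  rcases h.cen a ha b hb h1 with h3 | h3
  · exact Or.inr (mul_mem (h.D_le _ h3) hb)
  · exact Or.inl (mul_mem ha (h.D_le _ h3))

theorem mem_D_of_central (h : Amb S S0 D Q) (hne : ∀ i, ∃ a ∈ Q i, a ∉ D) {x : G} (hx : x ∈ S0)
    (hc : ∀ y ∈ S0, x * y = y * x) : x ∈ D := by
  rw [h.inf]
  intro i
  obtain ⟨a, ha, haD⟩ := hne i
  exact h.mem_of_comm ha haD hx (hc a (h.Q_le _ ha)).symm

/-! ### Elements `f ∈ S - S₀` with `f² ∈ S₀` -/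

/-- `f ∈ S - S₀` with `f² ∈ S₀`. -/
structure Fld (S S0 : Subgroup G) (f : G) : Prop where
  mem : f ∈ S
  sq : f * f ∈ S0
  not : f ∉ S0

theorem Fld.mul (h : Amb S S0 D Q) {f a : G} (hf : Fld S S0 f) (ha : a ∈ S0) :
    Fld S S0 (f * a) := by
  refine ⟨mul_mem hf.mem (h.S0_le ha), ?_, fun hc => hf.not ?_⟩
  · have e : f * a * (f * a) = (f * a * f⁻¹) * (f * f) * a := by group
    rw [e]
    exact mul_mem (mul_mem (h.S0n hf.mem ha) hf.sq) ha
  · exact (S0.mul_mem_cancel_right ha).1 hc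

theorem Fld.conj (h : Amb S S0 D Q) {f s : G} (hf : Fld S S0 f) (hs : s ∈ S) :
    Fld S S0 (s * f * s⁻¹) := by
  refine ⟨mul_mem (mul_mem hs hf.mem) (inv_mem hs), ?_, fun hc => hf.not ?_⟩
  · have e : s * f * s⁻¹ * (s * f * s⁻¹) = s * (f * f) * s⁻¹ := by group
    rw [e]
    exact h.S0n hs hf.sq
  · have := h.S0n (inv_mem hs) hc
    rw [inv_inv] at this
    have e : s⁻¹ * (s * f * s⁻¹) * s = f := by group
    rwa [e] at this

/-- A fixed element outside `D` in `Q_i / D` and a moved one. -/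
theorem exists_move (h : Amb S S0 D Q) {f : G} (hf : Fld S S0 f) (i : Bool) :
    ∃ a ∈ Q i, f * a * f⁻¹ * a ∉ D := by
  by_contra hc
  push Not at hc
  exact hf.not (h.faith i f hf.mem hc)

/-- Some element of `D` is moved. -/
theorem exists_moveD (h : Amb S S0 D Q) {f : G} (hf : Fld S S0 f) :
    ∃ d ∈ D, f * d * f⁻¹ ≠ d := by
  by_contra hc
  push Not at hc
  have hD : ∀ d ∈ D, d = 1 := by
    intro d hd
    obtain ⟨e, he, hed⟩ := h.frD f hf.mem hf.sq hf.not d hd (hc d hd)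
    rw [← hed, hc e he, h.sq false e (h.D_le _ he)]
  obtain ⟨a, ha, haD, -⟩ := h.fixQ f hf.mem hf.sq hf.not false
  obtain ⟨b, hb, hbD, -⟩ := h.fixQ f hf.mem hf.sq hf.not true
  have h1 := hD _ (h.comm_mem ha (i := false) hb)
  have h2 : a * b = b * a := by
    rw [mul_inv_eq_one, mul_inv_eq_iff_eq_mul] at h1
    exact h1
  rcases h.cen a ha b hb h2 with h3 | h3
  · exact haD h3
  · exact hbD h3

/-- There is an involution in the coset `f S₀`. -/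
theorem exists_inv (h : Amb S S0 D Q) {f : G} (hf : Fld S S0 f) :
    ∃ y, Fld S S0 y ∧ y * y = 1 := by
  -- step 1: `(f e)² ∈ Q₀`
  obtain ⟨g, hg, hgQ⟩ : ∃ g, Fld S S0 g ∧ g * g ∈ Q false := by
    obtain ⟨a, ha, b, hb, hab⟩ := (h.sup _).1 hf.sq
    have h1 : f * b * f⁻¹ * b ∈ D := by
      refine h.memD (i := false) ?_ (mul_mem (h.Qn _ f hf.mem b hb) hb)
      have e1 : f * (a * b) * f⁻¹ = a * b := by rw [← hab]; group
      have e2 : f * b * f⁻¹ = (f * a * f⁻¹)⁻¹ * (a * b) := by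
        calc f * b * f⁻¹ = (f * a * f⁻¹)⁻¹ * (f * (a * b) * f⁻¹) := by group
          _ = _ := by rw [e1]
      rw [e2]
      have e3 : (f * a * f⁻¹)⁻¹ * (a * b) * b = (f * a * f⁻¹)⁻¹ * a * (b * b) := by group
      rw [e3, h.sq _ b hb, mul_one]
      exact mul_mem (inv_mem (h.Qn _ f hf.mem a ha)) ha
    obtain ⟨e, he, heb⟩ := h.frQ f hf.mem hf.sq hf.not true b hb h1
    refine ⟨f * e, hf.mul h (h.Q_le _ he), ?_⟩
    have e1 : f * e * (f * e) = (f * e * f⁻¹) * a * (f * e * f⁻¹)⁻¹ * (f * e * f⁻¹ * e * b) := by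
      have h2 : b * e = e * b := h.comm hb he
      calc f * e * (f * e) = (f * e * f⁻¹) * (f * f) * e := by group
        _ = (f * e * f⁻¹) * (a * b) * e := by rw [hab]
        _ = (f * e * f⁻¹) * a * (b * e) := by group
        _ = (f * e * f⁻¹) * a * (e * b) := by rw [h2]
        _ = _ := by group
    rw [e1]
    have h3 : f * e * f⁻¹ ∈ S := mul_mem (mul_mem hf.mem (h.QS _ he)) (inv_mem hf.mem)
    exact mul_mem (h.Qn _ _ h3 a ha) (h.D_le _ heb)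
  -- step 2: `(g e)² ∈ D`
  obtain ⟨k, hk, hkD⟩ : ∃ k, Fld S S0 k ∧ k * k ∈ D := by
    have h1 : g * (g * g) * g⁻¹ * (g * g) ∈ D := by
      have e : g * (g * g) * g⁻¹ = g * g := by group
      rw [e, h.sq _ _ hgQ]
      exact one_mem _
    obtain ⟨e, he, heb⟩ := h.frQ g hg.mem hg.sq hg.not false _ hgQ h1
    refine ⟨g * e, hg.mul h (h.Q_le _ he), ?_⟩
    have e1 : g * e * (g * e) = g * e * g⁻¹ * e * (g * g) := by
      have h2 : g * g * e = e * (g * g) := h.comm hgQ he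
      calc g * e * (g * e) = g * e * g⁻¹ * (g * g * e) := by group
        _ = _ := by rw [h2]; group
    rw [e1]
    exact heb
  -- step 3
  obtain ⟨e, he, hed⟩ := h.frD k hk.mem hk.sq hk.not _ hkD (by group)
  refine ⟨k * e, hk.mul h (h.D_le0 he), ?_⟩
  have h2 : k * k * e = e * (k * k) := h.comm (h.D_le false hkD) (h.D_le false he)
  calc k * e * (k * e) = k * e * k⁻¹ * (k * k * e) := by group
    _ = (k * e * k⁻¹ * e) * (k * k) := by rw [h2]; group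
    _ = 1 := by rw [hed]; exact h.sq false _ (h.D_le _ hkD)

/-- Involutions of `S - S₀` are `S₀`-conjugate. -/
theorem conj_inv (h : Amb S S0 D Q) {y y' : G} (hy : Fld S S0 y) (hy1 : y * y = 1)
    (hy' : Fld S S0 y') (hy1' : y' * y' = 1) : ∃ s ∈ S0, s * y * s⁻¹ = y' := by
  have hi : ∀ {t : G}, t * t = 1 → t⁻¹ = t := fun ht => inv_eq_of_mul_eq_one_right ht
  have hg : y⁻¹ * y' ∈ S0 := by
    rw [hi hy1]
    exact h.cyc y hy.mem y' hy'.mem hy.sq hy'.sq hy.not hy'.not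
  -- step 1
  obtain ⟨s1, hs1, hQ⟩ : ∃ s ∈ S0, (s * y * s⁻¹)⁻¹ * y' ∈ Q false := by
    obtain ⟨a, ha, b, hb, hab⟩ := (h.sup _).1 hg
    have hy'e : y' = y * (a * b) := by rw [← hab]; group
    have h1 : y * b * y⁻¹ * b ∈ D := by
      refine h.memD (i := false) ?_ (mul_mem (h.Qn _ y hy.mem b hb) hb)
      have e0 : y * (a * b) * y⁻¹ * (a * b) = 1 := by
        rw [hi hy1]
        calc y * (a * b) * y * (a * b) = (y * (a * b)) * (y * (a * b)) := by group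
          _ = 1 := by rw [← hy'e]; exact hy1'
      have e2 : y * b * y⁻¹ * b = (y * a * y⁻¹)⁻¹ * (y * (a * b) * y⁻¹ * (a * b)) *
          ((a * b)⁻¹ * b) := by group
      have e3 : (a * b)⁻¹ * b = b⁻¹ * a⁻¹ * b := by group
      rw [e2, e0, mul_one, e3]
      have h5 := h.Qn _ b⁻¹ (inv_mem (h.QS _ hb)) _ (inv_mem ha)
      rw [inv_inv] at h5
      exact mul_mem (inv_mem (h.Qn _ y hy.mem a ha)) h5
    obtain ⟨e, he, heb⟩ := h.frQ y hy.mem hy.sq hy.not true b hb h1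
    refine ⟨e, h.Q_le _ he, ?_⟩
    set w := y * e * y⁻¹ * e with hw
    have hwQ : w ∈ Q true := mul_mem (h.Qn _ y hy.mem e he) he
    have e1 : e * y * e⁻¹ = y * w := by
      rw [hw, h.inv_eq he, hi hy1]
      calc e * y * e = (y * y) * (e * y * e) := by rw [hy1, one_mul]
        _ = _ := by group
    rw [e1, hy'e]
    have e2 : (y * w)⁻¹ * (y * (a * b)) = w⁻¹ * a * w * (w⁻¹ * b) := by group
    rw [e2, h.inv_eq hwQ]
    have h5 := h.Qn _ w (h.QS _ hwQ) _ ha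
    rw [h.inv_eq hwQ] at h5
    exact mul_mem h5 (h.D_le _ heb)
  have hy2 := hy.conj h (h.S0_le hs1)
  set y2 := s1 * y * s1⁻¹ with hy2e
  have hy21 : y2 * y2 = 1 := by
    rw [hy2e]
    calc s1 * y * s1⁻¹ * (s1 * y * s1⁻¹) = s1 * (y * y) * s1⁻¹ := by group
      _ = 1 := by rw [hy1]; group
  -- step 2
  obtain ⟨s2, hs2, hQ2⟩ : ∃ s ∈ S0, (s * y2 * s⁻¹)⁻¹ * y' ∈ D := by
    set a := y2⁻¹ * y' with ha
    have hy'e : y' = y2 * a := by rw [ha]; group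
    have h1 : y2 * a * y2⁻¹ * a ∈ D := by
      have e0 : y2 * a * y2⁻¹ * a = 1 := by
        rw [hi hy21]
        calc y2 * a * y2 * a = (y2 * a) * (y2 * a) := by group
          _ = 1 := by rw [← hy'e]; exact hy1'
      rw [e0]
      exact one_mem _
    obtain ⟨e, he, heb⟩ := h.frQ y2 hy2.mem hy2.sq hy2.not false a hQ h1
    refine ⟨e, h.Q_le _ he, ?_⟩
    set w := y2 * e * y2⁻¹ * e with hw
    have hwQ : w ∈ Q false := mul_mem (h.Qn _ y2 hy2.mem e he) he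
    have e1 : e * y2 * e⁻¹ = y2 * w := by
      rw [hw, h.inv_eq he, hi hy21]
      calc e * y2 * e = (y2 * y2) * (e * y2 * e) := by rw [hy21, one_mul]
        _ = _ := by group
    rw [e1, hy'e]
    have e2 : (y2 * w)⁻¹ * (y2 * a) = w⁻¹ * a := by group
    rw [e2, h.inv_eq hwQ]
    exact heb
  have hy3 := hy2.conj h (h.S0_le hs2)
  set y3 := s2 * y2 * s2⁻¹ with hy3e
  have hy31 : y3 * y3 = 1 := by
    rw [hy3e]
    calc s2 * y2 * s2⁻¹ * (s2 * y2 * s2⁻¹) = s2 * (y2 * y2) * s2⁻¹ := by group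
      _ = 1 := by rw [hy21]; group
  -- step 3
  obtain ⟨s3, hs3, hQ3⟩ : ∃ s ∈ S0, s * y3 * s⁻¹ = y' := by
    set d := y3⁻¹ * y' with hd
    have hy'e : y' = y3 * d := by rw [hd]; group
    have h1 : y3 * d * y3⁻¹ = d := by
      have e0 : y3 * d * y3⁻¹ * d = 1 := by
        rw [hi hy31]
        calc y3 * d * y3 * d = (y3 * d) * (y3 * d) := by group
          _ = 1 := by rw [← hy'e]; exact hy1'
      rw [eq_inv_of_mul_eq_one_left e0, h.inv_eqD hQ2]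
    obtain ⟨e, he, hed⟩ := h.frD y3 hy3.mem hy3.sq hy3.not d hQ2 h1
    refine ⟨e, h.D_le0 he, ?_⟩
    rw [hy'e, ← hed, h.inv_eqD he, hi hy31]
    calc e * y3 * e = (y3 * y3) * (e * y3 * e) := by rw [hy31, one_mul]
      _ = _ := by group
  refine ⟨s3 * s2 * s1, mul_mem (mul_mem hs3 hs2) hs1, ?_⟩
  rw [← hQ3, hy3e, hy2e]
  group

/-- Fixed elements of `Q_i / D` lift to fixed elements. -/
theorem lift_fix (h : Amb S S0 D Q) {y : G} (hy : Fld S S0 y) (hy1 : y * y = 1) {i : Bool} {a : G}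
    (ha : a ∈ Q i) (hf : y * a * y⁻¹ * a ∈ D) : ∃ d ∈ D, y * (a * d) = a * d * y := by
  set c := y * a * y⁻¹ * a with hc
  have hi : y⁻¹ = y := inv_eq_of_mul_eq_one_right hy1
  have h1 : y * a * y⁻¹ = c * a := by
    rw [hc, mul_assoc (y * a * y⁻¹), h.sq i a ha, mul_one]
  have h2 : y * c * y⁻¹ = c := by
    have e : y * c * y⁻¹ = (y * y) * a * (y * y)⁻¹ * (y * a * y⁻¹) := by rw [hc]; group
    rw [e, hy1, h1, one_mul, inv_one, mul_one]
    calc a * (c * a) = (c * a) * a := by rw [← mul_assoc, h.mulD ha hf]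
      _ = c := by rw [mul_assoc, h.sq i a ha, mul_one]
  obtain ⟨e, he, hec⟩ := h.frD y hy.mem hy.sq hy.not c hf h2
  refine ⟨e, he, ?_⟩
  have h3 : y * e * y⁻¹ = c * e := by
    rw [← hec, mul_assoc (y * e * y⁻¹), h.sq false e (h.D_le _ he), mul_one]
  have h4 : y * (a * e) * y⁻¹ = a * e := by
    calc y * (a * e) * y⁻¹ = (y * a * y⁻¹) * (y * e * y⁻¹) := by group
      _ = c * a * (c * e) := by rw [h1, h3]
      _ = c * (a * c) * e := by group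
      _ = c * (c * a) * e := by rw [h.mulD ha hf]
      _ = (c * c) * (a * e) := by group
      _ = a * e := by rw [h.sq false c (h.D_le _ hf), one_mul]
  rw [mul_inv_eq_iff_eq_mul] at h4
  exact h4

/-- `C_{Q_i}(y)` is not contained in `D`. -/
theorem exists_fix (h : Amb S S0 D Q) {y : G} (hy : Fld S S0 y) (hy1 : y * y = 1) (i : Bool) :
    ∃ a ∈ Q i, a ∉ D ∧ y * a = a * y := by
  obtain ⟨a, ha, haD, hf⟩ := h.fixQ y hy.mem hy.sq hy.not i
  obtain ⟨d, hd, e⟩ := h.lift_fix hy hy1 ha hf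
  exact ⟨a * d, mul_mem ha (h.D_le _ hd), fun hc => haD ((D.mul_mem_cancel_right hd).1 hc), e⟩

end Amb

end Cfsg.Agent.Omega.CloseA
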