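import Mathlib

/-!
# Closings of type `L₃(q)`, `Sp₄(q)`: the input

`Co3`, `Co4`: coordinates on `S₀ = Q₁Q₂`; `Lin`: the parabolic subgroup `P` on `Q` (lines `D^p`);
`CT y R`: `R = O₂(C_G(y)) ≥ C_{C_G(y)}(R)`.
-/

set_option autoImplicit false

namespace Cfsg.Agent.Omega.CloseA

variable {G : Type*} [Group G]

/-- `Q₁Q₂` is a Sylow 2-subgroup of `L₃(F)`: `D = Q₁ ∩ Q₂`, `[u,v] ↔ x(u) y(v)`. -/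
structure Co3 {F : Type*} [Field F] (Q₁ Q₂ D : Subgroup G) (x y z : G → F) : Prop where
  sq₁ : ∀ u ∈ Q₁, u * u = 1
  sq₂ : ∀ u ∈ Q₂, u * u = 1
  inf : ∀ u, u ∈ D ↔ u ∈ Q₁ ∧ u ∈ Q₂
  x_mul : ∀ u ∈ Q₁, ∀ v ∈ Q₁, x (u * v) = x u + x v
  x_surj : ∀ a, ∃ u ∈ Q₁, x u = a
  x_ker : ∀ u ∈ Q₁, x u = 0 ↔ u ∈ D
  y_mul : ∀ u ∈ Q₂, ∀ v ∈ Q₂, y (u * v) = y u + y v
  y_surj : ∀ a, ∃ u ∈ Q₂, y u = a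
  y_ker : ∀ u ∈ Q₂, y u = 0 ↔ u ∈ D
  z_mul : ∀ u ∈ D, ∀ v ∈ D, z (u * v) = z u + z v
  z_surj : ∀ a, ∃ u ∈ D, z u = a
  z_inj : ∀ u ∈ D, z u = 0 → u = 1
  mem : ∀ u ∈ Q₁, ∀ v ∈ Q₂, u * v * u⁻¹ * v⁻¹ ∈ D
  com : ∀ u ∈ Q₁, ∀ v ∈ Q₂, z (u * v * u⁻¹ * v⁻¹) = x u * y v

/-- `Q₁Q₂` is a Sylow 2-subgroup of `Sp₄(F)`: `D = Q₁ ∩ Q₂`, `[u,v] ↔ (x(u) y(v), x(u)² y(v))`. -/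
structure Co4 {F : Type*} [Field F] (Q₁ Q₂ D C₁ C₂ : Subgroup G) (x y z z' : G → F) : Prop where
  sq₁ : ∀ u ∈ Q₁, u * u = 1
  sq₂ : ∀ u ∈ Q₂, u * u = 1
  inf : ∀ u, u ∈ D ↔ u ∈ Q₁ ∧ u ∈ Q₂
  x_mul : ∀ u ∈ Q₁, ∀ v ∈ Q₁, x (u * v) = x u + x v
  x_surj : ∀ a, ∃ u ∈ Q₁, x u = a
  x_ker : ∀ u ∈ Q₁, x u = 0 ↔ u ∈ D
  y_mul : ∀ u ∈ Q₂, ∀ v ∈ Q₂, y (u * v) = y u + y v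
  y_surj : ∀ a, ∃ u ∈ Q₂, y u = a
  y_ker : ∀ u ∈ Q₂, y u = 0 ↔ u ∈ D
  z_mul : ∀ u ∈ D, ∀ v ∈ D, z (u * v) = z u + z v
  z'_mul : ∀ u ∈ D, ∀ v ∈ D, z' (u * v) = z' u + z' v
  z_surj : ∀ a a', ∃ u ∈ D, z u = a ∧ z' u = a'
  z_inj : ∀ u ∈ D, z u = 0 → z' u = 0 → u = 1
  z_ker : ∀ u ∈ D, z u = 0 ↔ u ∈ C₁
  z'_ker : ∀ u ∈ D, z' u = 0 ↔ u ∈ C₂
  mem : ∀ u ∈ Q₁, ∀ v ∈ Q₂, u * v * u⁻¹ * v⁻¹ ∈ D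
  com : ∀ u ∈ Q₁, ∀ v ∈ Q₂, z (u * v * u⁻¹ * v⁻¹) = x u * y v
  com' : ∀ u ∈ Q₁, ∀ v ∈ Q₂, z' (u * v * u⁻¹ * v⁻¹) = x u * x u * y v

/-- The parabolic subgroup `P ≤ N_G(Q)`: `L ⊴ P` with `L ∩ S = S₀`, `Q` is the union of the lines
`D^p`, two lines meet in `C`. -/
structure Lin (S S0 D Q P L C : Subgroup G) : Prop where
  SP : S ≤ P
  PQ : ∀ p ∈ P, ∀ a ∈ Q, p * a * p⁻¹ ∈ Q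
  PL : ∀ p ∈ P, ∀ l ∈ L, p * l * p⁻¹ ∈ L
  PC : ∀ p ∈ P, ∀ c ∈ C, p * c * p⁻¹ ∈ C
  CD : C ≤ D
  LS : ∀ s ∈ S, s ∈ L ↔ s ∈ S0
  cov : ∀ a ∈ Q, ∃ p ∈ P, p * a * p⁻¹ ∈ D
  line : ∀ p ∈ P, (∃ d ∈ D, p * d * p⁻¹ ∉ D) → ∀ d ∈ D, p * d * p⁻¹ ∈ D → d ∈ C
  cen : ∀ g : G, (∀ a ∈ Q, g * a = a * g) → g ∈ Q

/-- `R = O₂(C_G(y))` contains its centralizer in `C_G(y)`. -/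
structure CT (y : G) (R : Subgroup G) : Prop where
  le : ∀ r ∈ R, r * y = y * r
  nrm : ∀ g, g * y = y * g → ∀ r ∈ R, g * r * g⁻¹ ∈ R
  two : IsPGroup 2 R
  cen : ∀ g, g * y = y * g → (∀ r ∈ R, g * r = r * g) → g ∈ R
  max : ∀ K : Subgroup G, (∀ k ∈ K, k * y = y * k) → (∀ g, g * y = y * g → ∀ k ∈ K, g * k * g⁻¹ ∈ K) →
    IsPGroup 2 K → K ≤ R

end Cfsg.Agent.Omega.CloseA
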