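import Mathlib
import Cfsg.Agent.Omega.CloseA.Amb
import Cfsg.Agent.Omega.CloseA.Coord

/-!
# Field automorphisms in the closings of type `L₃(q)`, `Sp₄(q)`: weak closure, `O₂(C_G(y)) ∩ S₀ = 1`
-/

set_option autoImplicit false

namespace Cfsg.Agent.Omega.CloseA

variable {G : Type*} [Group G]

/-- `C_S(u)` contains a conjugate in `C_G(u)` of every 2-subgroup of `C_G(u)`. -/
def Extr (S : Subgroup G) (u : G) : Prop :=
  ∀ K : Subgroup G, IsPGroup 2 K → (∀ k ∈ K, k * u = u * k) →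
    ∃ c, c * u = u * c ∧ ∀ k ∈ K, c * k * c⁻¹ ∈ S

theorem isPGroup_map' {T : Subgroup G} (hT : IsPGroup 2 T) (g : G) :
    IsPGroup 2 (T.map (MulAut.conj g).toMonoidHom : Subgroup G) :=
  hT.map _

theorem mem_map_conj {T : Subgroup G} {g x : G} :
    x ∈ T.map (MulAut.conj g).toMonoidHom ↔ g⁻¹ * x * g ∈ T := by
  constructor
  · rintro ⟨t, ht, rfl⟩
    have e : g⁻¹ * (MulAut.conj g).toMonoidHom t * g = t := by
      show g⁻¹ * (g * t * g⁻¹) * g = t
      group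
    rw [e]
    exact ht
  · intro h
    refine ⟨_, h, ?_⟩
    show g * (g⁻¹ * x * g) * g⁻¹ = x
    group

/-- A 2-subgroup of `H ≥ S` is conjugate in `H` into `S`. -/
theorem exists_conj_le [Finite G] (S : Sylow 2 G) {H T : Subgroup G} (hS : (S : Subgroup G) ≤ H)
    (hT : T ≤ H) (h2 : IsPGroup 2 T) : ∃ g ∈ H, ∀ t ∈ T, g * t * g⁻¹ ∈ (S : Subgroup G) := by
  have h3 : IsPGroup 2 (T.subgroupOf H) := h2.comap_subtype
  obtain ⟨P, hP⟩ := h3.exists_le_sylow
  obtain ⟨g, hg⟩ := MulAction.exists_smul_eq H P (S.subtype hS)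
  refine ⟨g, g.2, fun t ht => ?_⟩
  have h1 : (⟨t, hT ht⟩ : H) ∈ P := hP (Subgroup.mem_subgroupOf.2 ht)
  have h4 : g * (⟨t, hT ht⟩ : H) * g⁻¹ ∈ (S.subtype hS : Subgroup H) := by
    rw [← hg]
    exact Subgroup.smul_mem_pointwise_smul _ (MulAut.conj g) _ h1
  exact h4

/-- Existence of extremal conjugates. -/
theorem exists_extr [Finite G] (S : Sylow 2 G) {y : G} {T : Subgroup G} (hT : IsPGroup 2 T)
    (hTy : ∀ t ∈ T, t * y = y * t) :
    ∃ g : G, (∀ t ∈ T, g * t * g⁻¹ ∈ (S : Subgroup G)) ∧ Extr (S : Subgroup G) (g * y * g⁻¹) := by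
  set C := Subgroup.centralizer ({y} : Set G) with hC
  have hmem : ∀ {x : G}, x ∈ C ↔ x * y = y * x := by
    intro x
    rw [hC, Subgroup.mem_centralizer_singleton_iff]
  have hTC : T ≤ C := fun t ht => hmem.2 (hTy t ht)
  have h3 : IsPGroup 2 (T.subgroupOf C) := hT.comap_subtype
  obtain ⟨P, hP⟩ := h3.exists_le_sylow
  have hP2 : IsPGroup 2 ((P : Subgroup C).map C.subtype) := P.isPGroup'.map _
  obtain ⟨g, -, hg⟩ := exists_conj_le S (H := ⊤) le_top le_top hP2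
  refine ⟨g, fun t ht => hg t ⟨⟨t, hTC ht⟩, hP (Subgroup.mem_subgroupOf.2 ht), rfl⟩, ?_⟩
  intro K hK hKu
  have hK' : IsPGroup 2 (K.map (MulAut.conj g⁻¹).toMonoidHom : Subgroup G) := isPGroup_map' hK _
  set K' := K.map (MulAut.conj g⁻¹).toMonoidHom with hK'e
  have hK'C : K' ≤ C := by
    rintro _ ⟨k, hk, rfl⟩
    rw [hmem]
    show g⁻¹ * k * g⁻¹⁻¹ * y = y * (g⁻¹ * k * g⁻¹⁻¹)
    have := hKu k hk
    calc g⁻¹ * k * g⁻¹⁻¹ * y = g⁻¹ * (k * (g * y * g⁻¹)) * g := by group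
      _ = g⁻¹ * (g * y * g⁻¹ * k) * g := by rw [this]
      _ = _ := by group
  have h5 : IsPGroup 2 (K'.subgroupOf C) := hK'.comap_subtype
  obtain ⟨P', hP'⟩ := h5.exists_le_sylow
  obtain ⟨c, hc⟩ := MulAction.exists_smul_eq C P' P
  refine ⟨g * c * g⁻¹, ?_, fun k hk => ?_⟩
  · have := hmem.1 c.2
    calc g * c * g⁻¹ * (g * y * g⁻¹) = g * (c * y) * g⁻¹ := by group
      _ = g * (y * c) * g⁻¹ := by rw [this]
      _ = _ := by group
  · have hkK : g⁻¹ * k * g ∈ K' := by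
      rw [hK'e, mem_map_conj]
      have e : g⁻¹⁻¹ * (g⁻¹ * k * g) * g⁻¹ = k := by group
      rwa [e]
    have h1 : (⟨_, hK'C hkK⟩ : C) ∈ P' := hP' (Subgroup.mem_subgroupOf.2 hkK)
    have h4 : c * (⟨_, hK'C hkK⟩ : C) * c⁻¹ ∈ (P : Subgroup C) := by
      rw [← hc]
      exact Subgroup.smul_mem_pointwise_smul _ (MulAut.conj c) _ h1
    have h6 := hg _ ⟨_, h4, rfl⟩
    have e : g * c * g⁻¹ * k * (g * c * g⁻¹)⁻¹ = g * ((c : G) * (g⁻¹ * k * g) * (c : G)⁻¹) * g⁻¹ := by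
      group
    rw [e]
    exact h6

namespace Amb

variable {S S0 D : Subgroup G} {Q : Bool → Subgroup G}

theorem card' (h : Amb S S0 D Q) (i j : Bool) : Nat.card (Q i) = Nat.card (Q j) := by
  have := h.card
  cases i <;> cases j <;> simp_all

/-- Elementary abelian subgroups of `S₀` lie in `Q₀` or `Q₁`. -/
theorem le_or (h : Amb S S0 D Q) {A : Subgroup G} (hA : A ≤ S0) (h2 : ∀ a ∈ A, a * a = 1) :
    ∃ j, A ≤ Q j := by
  by_contra hc
  push Not at hc
  obtain ⟨a, ha, haQ⟩ := SetLike.not_le_iff_exists.1 (hc false)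
  obtain ⟨b, hb, hbQ⟩ := SetLike.not_le_iff_exists.1 (hc true)
  have ha' : a ∈ Q true := (h.mem_or (hA ha) (h2 a ha)).resolve_left haQ
  have hb' : b ∈ Q false := (h.mem_or (hA hb) (h2 b hb)).resolve_right hbQ
  have hab : b * a = a * b := by
    have hi : ∀ {t : G}, t * t = 1 → t⁻¹ = t := fun ht => inv_eq_of_mul_eq_one_right ht
    have h3 := hi (h2 _ (mul_mem ha hb))
    rw [mul_inv_rev, hi (h2 _ ha), hi (h2 _ hb)] at h3
    exact h3
  rcases h.cen b hb' a ha' hab with h3 | h3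
  · exact hbQ (h.D_le _ h3)
  · exact haQ (h.D_le _ h3)

/-- An elementary abelian subgroup of `S` of the order of `Q_i` is one of the `Q_j`. -/
theorem eq_of_card [Finite G] (h : Amb S S0 D Q) {A : Subgroup G} (hA : A ≤ S)
    (h2 : ∀ a ∈ A, a * a = 1) (i : Bool) (hc : Nat.card A = Nat.card (Q i)) : ∃ j, A = Q j := by
  by_cases hA0 : A ≤ S0
  · obtain ⟨j, hj⟩ := h.le_or hA0 h2
    exact ⟨j, Subgroup.eq_of_le_of_card_ge hj (by rw [hc, h.card' i j])⟩
  · exfalso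
    obtain ⟨y, hy, hy0⟩ := SetLike.not_le_iff_exists.1 hA0
    have hyS := hA hy
    have hyy := h2 y hy
    have hF : Fld S S0 y := ⟨hyS, by rw [hyy]; exact one_mem _, hy0⟩
    set B := A ⊓ S0 with hB
    obtain ⟨j, hj⟩ := h.le_or (A := B) inf_le_right (fun a ha => h2 a ha.1)
    have hi : ∀ {t : G}, t * t = 1 → t⁻¹ = t := fun ht => inv_eq_of_mul_eq_one_right ht
    have hBy : ∀ b ∈ B, y * b * y⁻¹ = b := by
      intro b hb
      have h3 := hi (h2 _ (mul_mem hy hb.1))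
      rw [mul_inv_rev, hi hyy, hi (h2 _ hb.1)] at h3
      rw [← h3, mul_assoc, mul_inv_cancel, mul_one]
    -- the index of `B` in `A` is at most two
    have h3 : B.relIndex A ≤ 2 := by
      rw [Subgroup.relIndex]
      by_contra hlt
      push Not at hlt
      -- pigeonhole
      have h4 : ∀ a ∈ A, ∀ b ∈ A, a ∉ S0 → b ∉ S0 → a * b ∈ S0 := fun a ha b hb ha0 hb0 =>
        h.cyc a (hA ha) b (hA hb) (by rw [h2 a ha]; exact one_mem _) (by rw [h2 b hb]; exact one_mem _)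
          ha0 hb0
      have h5 : (B.subgroupOf A).index ∣ 2 ∨ (B.subgroupOf A).index = 2 := by
        right
        rw [Subgroup.index_eq_two_iff]
        refine ⟨⟨y, hy⟩, fun b => ?_⟩
        by_cases hb : (b : G) ∈ S0
        · right
          refine ⟨Subgroup.mem_subgroupOf.2 ⟨b.2, hb⟩, fun hc => ?_⟩
          have h6 := (Subgroup.mem_subgroupOf.1 hc).2
          exact hy0 ((S0.mul_mem_cancel_left hb).1 h6)
        · left
          refine ⟨Subgroup.mem_subgroupOf.2 ⟨mul_mem b.2 hy, h4 _ b.2 _ hy hb hy0⟩, fun hc => ?_⟩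
          exact hb (Subgroup.mem_subgroupOf.1 hc).2
      rcases h5 with h5 | h5
      · exact absurd (Nat.le_of_dvd (by norm_num) h5) (by omega)
      · omega
    have hrel : ∀ {X Y : Subgroup G}, X ≤ Y → X.relIndex Y * Nat.card X = Nat.card Y := by
      intro X Y hXY
      rw [Subgroup.relIndex, ← Nat.card_congr (Subgroup.subgroupOfEquivOfLe hXY).toEquiv]
      exact Subgroup.index_mul_card _
    have h4 : B.relIndex A * Nat.card B = Nat.card A := hrel inf_le_left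
    have h5 : B.relIndex (Q j) * Nat.card B = Nat.card (Q j) := hrel hj
    have h6 : B.relIndex (Q j) = B.relIndex A := by
      rw [h.card' j i, ← hc, ← h4] at h5
      exact Nat.eq_of_mul_eq_mul_right Nat.card_pos h5
    obtain ⟨d, hd, hdy⟩ := h.exists_moveD hF
    obtain ⟨a, ha, hay⟩ := h.exists_move hF j
    have hdQ := h.D_le j hd
    have hdB : d ∉ B := fun hc => hdy (hBy d hc)
    have haB : a ∉ B := by
      intro hc
      apply hay
      rw [hBy a hc, h.sq j a ha]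
      exact one_mem _
    have h7 : B.relIndex (Q j) ≠ 0 := by
      rw [Subgroup.relIndex]
      exact Subgroup.index_ne_zero_of_finite
    have h8 : B.relIndex (Q j) = 1 ∨ B.relIndex (Q j) = 2 := by omega
    rcases h8 with h8 | h8
    · exact hdB ((Subgroup.relIndex_eq_one.1 h8) hdQ)
    · rw [Subgroup.relIndex] at h8
      have h9 := (Subgroup.mul_mem_iff_of_index_two h8 (a := ⟨d, hdQ⟩) (b := ⟨a, ha⟩)).2 (by
        rw [Subgroup.mem_subgroupOf, Subgroup.mem_subgroupOf]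
        exact iff_of_false hdB haB)
      have h10 : d * a ∈ B := Subgroup.mem_subgroupOf.1 h9
      have h11 := hBy _ h10
      apply hay
      have h12 : y * a * y⁻¹ = (y * d * y⁻¹)⁻¹ * (d * a) := by
        calc y * a * y⁻¹ = (y * d * y⁻¹)⁻¹ * (y * (d * a) * y⁻¹) := by group
          _ = _ := by rw [h11]
      rw [h12]
      have h13 : (y * d * y⁻¹)⁻¹ * (d * a) * a = (y * d * y⁻¹)⁻¹ * d * (a * a) := by group
      rw [h13, h.sq j a ha, mul_one]
      exact mul_mem (inv_mem (h.Dn hyS hd)) hd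

/-- **Weak closure of `S₀`.** -/
theorem weak [Finite G] (h : Amb S S0 D Q) (hne : ∀ i, ∃ a ∈ Q i, a ∉ D) {g : G}
    (hg : ∀ x ∈ S0, g * x * g⁻¹ ∈ S) :
    (∀ d ∈ D, g * d * g⁻¹ ∈ D) ∧ ∀ x ∈ S0, g * x * g⁻¹ ∈ S0 := by
  have key : ∀ i, ∃ j, (Q i).map (MulAut.conj g).toMonoidHom = Q j := by
    intro i
    refine h.eq_of_card ?_ ?_ i ?_
    · rintro _ ⟨x, hx, rfl⟩
      exact hg x (h.Q_le i hx)
    · rintro _ ⟨x, hx, rfl⟩
      show g * x * g⁻¹ * (g * x * g⁻¹) = 1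
      calc g * x * g⁻¹ * (g * x * g⁻¹) = g * (x * x) * g⁻¹ := by group
        _ = 1 := by rw [h.sq i x hx]; group
    · exact (Nat.card_congr ((Q i).equivMapOfInjective (MulAut.conj g).toMonoidHom
        (MulAut.conj g).injective).toEquiv).symm
  obtain ⟨j0, hj0⟩ := key false
  obtain ⟨j1, hj1⟩ := key true
  have hm0 : ∀ x ∈ Q false, g * x * g⁻¹ ∈ Q j0 := fun x hx => hj0 ▸ ⟨x, hx, rfl⟩
  have hm1 : ∀ x ∈ Q true, g * x * g⁻¹ ∈ Q j1 := fun x hx => hj1 ▸ ⟨x, hx, rfl⟩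
  have hne' : j1 = !j0 := by
    by_contra hc
    have hcc : j1 = j0 := by cases j0 <;> cases j1 <;> simp_all
    rw [hcc, ← hj0] at hj1
    have h1 : Q true = Q false :=
      Subgroup.map_injective (MulAut.conj g).injective hj1
    obtain ⟨a, ha, haD⟩ := hne false
    exact haD (h.memD (i := false) ha (by show a ∈ Q true; rw [h1]; exact ha))
  subst hne'
  refine ⟨fun d hd => h.memD (hm0 d (h.D_le _ hd)) (hm1 d (h.D_le _ hd)), fun x hx => ?_⟩
  obtain ⟨a, ha, b, hb, rfl⟩ := (h.sup x).1 hx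
  have e : g * (a * b) * g⁻¹ = (g * a * g⁻¹) * (g * b * g⁻¹) := by group
  rw [e]
  exact mul_mem (h.Q_le _ (hm0 a ha)) (h.Q_le _ (hm1 b hb))

end Amb

/-! ### `O₂(C_G(y)) ∩ S₀ = 1` -/

section Lines

variable {S S0 D : Subgroup G} {Q : Bool → Subgroup G}

/-- `N_P(D)` normalises `S₀`: `S₀ = {g : [Q,g] ≤ D, [D,g] = 1}`. -/
theorem Lin.char [Finite G] {S : Sylow 2 G} {i : Bool} {P L C : Subgroup G}
    (h : Amb (S : Subgroup G) S0 D Q) (l : Lin (S : Subgroup G) S0 D (Q i) P L C) {g : G} :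
    g ∈ S0 ↔ (∀ a ∈ Q i, g * a * g⁻¹ * a ∈ D) ∧ ∀ d ∈ D, g * d = d * g := by
  -- the group on the right
  let K : Subgroup G :=
    { carrier := {g | (∀ a ∈ Q i, g * a * g⁻¹ * a ∈ D) ∧ ∀ d ∈ D, g * d = d * g}
      one_mem' := ⟨fun a ha => by simp [h.sq i a ha], fun d _ => by simp⟩
      mul_mem' := by
        rintro x y ⟨hx, hx'⟩ ⟨hy, hy'⟩
        refine ⟨fun a ha => ?_, fun d hd => ?_⟩
        · have h1 := hy a ha
          have h2 : y * a * y⁻¹ = (y * a * y⁻¹ * a) * a := by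
            rw [mul_assoc (y * a * y⁻¹), h.sq i a ha, mul_one]
          have e : x * y * a * (x * y)⁻¹ * a =
              x * (y * a * y⁻¹ * a) * x⁻¹ * (x * a * x⁻¹ * a) := by
            calc x * y * a * (x * y)⁻¹ * a = x * (y * a * y⁻¹) * x⁻¹ * a := by group
              _ = x * ((y * a * y⁻¹ * a) * a) * x⁻¹ * a := by rw [← h2]
              _ = _ := by group
          rw [e]
          refine mul_mem ?_ (hx a ha)
          rw [hx' _ h1, mul_assoc, mul_inv_cancel, mul_one]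
          exact h1
        · rw [mul_assoc, hy' d hd, ← mul_assoc, hx' d hd, mul_assoc]
      inv_mem' := by
        rintro x ⟨hx, hx'⟩
        refine ⟨fun a ha => ?_, fun d hd => ?_⟩
        · have h1 := hx a ha
          have h2 : x⁻¹ * (x * a * x⁻¹ * a) * x = a * (x⁻¹ * a * x) := by group
          have h3 : x⁻¹ * (x * a * x⁻¹ * a) * x = x * a * x⁻¹ * a := by
            have := hx' _ h1
            calc x⁻¹ * (x * a * x⁻¹ * a) * x = x⁻¹ * ((x * a * x⁻¹ * a) * x) := by group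
              _ = x⁻¹ * (x * (x * a * x⁻¹ * a)) := by rw [this]
              _ = _ := by group
          rw [h3] at h2
          have h4 : x⁻¹ * a * x⁻¹⁻¹ * a = a⁻¹ * (x * a * x⁻¹ * a) * a := by
            rw [h2]; group
          rw [h4, h.inv_eq ha]
          have := h.Dn (h.QS i ha) h1
          rwa [h.inv_eq ha] at this
        · have := hx' d hd
          calc x⁻¹ * d = x⁻¹ * (d * x) * x⁻¹ := by group
            _ = x⁻¹ * (x * d) * x⁻¹ := by rw [this]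
            _ = d * x⁻¹ := by group }
  have hKmem : ∀ {g : G}, g ∈ K ↔ (∀ a ∈ Q i, g * a * g⁻¹ * a ∈ D) ∧ ∀ d ∈ D, g * d = d * g :=
    Iff.rfl
  -- `K` is a 2-group
  have hK2 : IsPGroup 2 K := by
    rintro ⟨g, hg⟩
    refine ⟨2, Subtype.ext ?_⟩
    show g ^ 4 = 1
    have h1 : ∀ a ∈ Q i, g * g * a = a * (g * g) := by
      intro a ha
      have h2 := hg.1 a ha
      have h3 := hg.2 _ h2
      set c := g * a * g⁻¹ * a with hc
      have h4 : g * a * g⁻¹ = c * a := by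
        rw [hc, mul_assoc (g * a * g⁻¹), h.sq i a ha, mul_one]
      have h5 : g * g * a * (g * g)⁻¹ = a := by
        calc g * g * a * (g * g)⁻¹ = g * (g * a * g⁻¹) * g⁻¹ := by group
          _ = (g * c) * a * g⁻¹ := by rw [h4]; group
          _ = c * (g * a * g⁻¹) := by rw [h3]; group
          _ = (c * c) * a := by rw [h4]; group
          _ = a := by rw [h.sq false c (h.D_le _ h2), one_mul]
      rwa [mul_inv_eq_iff_eq_mul] at h5
    have h2 := h.sq i _ (l.cen _ h1)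
    have e : g ^ 4 = g * g * (g * g) := by
      rw [← pow_two, ← pow_two, ← pow_mul]
    rw [e]
    exact h2
  have hSK : (S : Subgroup G) ≤ Subgroup.normalizer (K : Set G) := by
    have h1 : ∀ s ∈ (S : Subgroup G), ∀ k ∈ K, s * k * s⁻¹ ∈ K := by
      intro s hs k hk
      have hs' := inv_mem hs
      refine ⟨fun a ha => ?_, fun d hd => ?_⟩
      · have h2 := h.Qn i _ hs' a ha
        rw [inv_inv] at h2
        have h3 := hk.1 _ h2
        have e : s * k * s⁻¹ * a * (s * k * s⁻¹)⁻¹ * a =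
            s * (k * (s⁻¹ * a * s) * k⁻¹ * (s⁻¹ * a * s)) * s⁻¹ := by group
        rw [e]
        exact h.Dn hs h3
      · have h2 := h.Dn hs' hd
        rw [inv_inv] at h2
        have h3 := hk.2 _ h2
        calc s * k * s⁻¹ * d = s * (k * (s⁻¹ * d * s)) * s⁻¹ := by group
          _ = s * ((s⁻¹ * d * s) * k) * s⁻¹ := by rw [h3]
          _ = _ := by group
    intro s hs
    rw [Subgroup.mem_normalizer_iff]
    intro k
    refine ⟨h1 s hs k, fun hk => ?_⟩
    have := h1 _ (inv_mem hs) _ hk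
    have e : s⁻¹ * (s * k * s⁻¹) * s⁻¹⁻¹ = k := by group
    rwa [e] at this
  have hKS : K ≤ (S : Subgroup G) := by
    have h1 : IsPGroup 2 ((S : Subgroup G) ⊔ K : Subgroup G) :=
      IsPGroup.to_sup_of_normal_right' S.isPGroup' hK2 hSK
    have h2 := S.is_maximal' h1 le_sup_left
    exact le_sup_right.trans h2.le
  constructor
  · intro hg
    refine ⟨fun a ha => ?_, fun d hd => h.central hg hd⟩
    have h1 := h.comm_mem0 hg (h.Q_le i ha)
    rwa [h.inv_eq ha] at h1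
  · intro hg
    exact h.faith i g (hKS (hKmem.2 hg)) hg.1

variable [Finite G] {S : Sylow 2 G}

theorem Lin.conj_S0 {i : Bool} {P L C : Subgroup G}
    (h : Amb (S : Subgroup G) S0 D Q) (l : Lin (S : Subgroup G) S0 D (Q i) P L C) {g x : G}
    (hg : g ∈ P) (hgD : ∀ d, g * d * g⁻¹ ∈ D ↔ d ∈ D) (hx : x ∈ S0) : g * x * g⁻¹ ∈ S0 := by
  rw [l.char h] at hx ⊢
  have hgi : ∀ a ∈ Q i, g⁻¹ * a * g ∈ Q i := by
    intro a ha
    have := l.PQ _ (inv_mem hg) a ha
    rwa [inv_inv] at this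
  have hgi' : ∀ d ∈ D, g⁻¹ * d * g ∈ D := by
    intro d hd
    rw [← hgD]
    have e : g * (g⁻¹ * d * g) * g⁻¹ = d := by group
    rwa [e]
  refine ⟨fun a ha => ?_, fun d hd => ?_⟩
  · have h3 := hx.1 _ (hgi a ha)
    have e : g * x * g⁻¹ * a * (g * x * g⁻¹)⁻¹ * a =
        g * (x * (g⁻¹ * a * g) * x⁻¹ * (g⁻¹ * a * g)) * g⁻¹ := by group
    rw [e]
    exact (hgD _).2 h3
  · have h3 := hx.2 _ (hgi' d hd)
    calc g * x * g⁻¹ * d = g * (x * (g⁻¹ * d * g)) * g⁻¹ := by group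
      _ = g * ((g⁻¹ * d * g) * x) * g⁻¹ := by rw [h3]
      _ = _ := by group

/-- The normaliser condition from one direction. -/
theorem norm_iff {D : Subgroup G} {g : G} (h : ∀ d ∈ D, g * d * g⁻¹ ∈ D) (d : G) :
    g * d * g⁻¹ ∈ D ↔ d ∈ D := by
  refine ⟨fun hd => ?_, h d⟩
  have h1 : D.map (MulAut.conj g).toMonoidHom ≤ D := by
    rintro _ ⟨v, hv, rfl⟩
    exact h v hv
  have h2 : D.map (MulAut.conj g).toMonoidHom = D := by
    refine Subgroup.eq_of_le_of_card_ge h1 (le_of_eq ?_)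
    exact (Nat.card_congr
      (D.equivMapOfInjective (MulAut.conj g).toMonoidHom (MulAut.conj g).injective).toEquiv)
  rw [← h2, mem_map_conj] at hd
  have e : g⁻¹ * (g * d * g⁻¹) * g = d := by group
  rwa [e] at hd

omit [Finite G] in
/-- If `e, geg⁻¹ ∈ S₀ - Q` with `g ∈ P` then `g` normalises `D`. -/
theorem Lin.norm_of_mem {i : Bool} {P L C : Subgroup G}
    (h : Amb (S : Subgroup G) S0 D Q) (l : Lin (S : Subgroup G) S0 D (Q i) P L C) {g e : G}
    (hg : g ∈ P) (he : e ∈ S0) (he' : e ∉ Q i) (hge : g * e * g⁻¹ ∈ S0) :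
    ∀ d ∈ D, g * d * g⁻¹ ∈ D := by
  intro d hd
  have h1 : g * d * g⁻¹ ∈ Q i := l.PQ g hg d (h.D_le i hd)
  by_contra hc
  have h2 := h.central he hd
  have h3 : (g * d * g⁻¹) * (g * e * g⁻¹) = (g * e * g⁻¹) * (g * d * g⁻¹) := by
    calc (g * d * g⁻¹) * (g * e * g⁻¹) = g * (d * e) * g⁻¹ := by group
      _ = g * (e * d) * g⁻¹ := by rw [h2]
      _ = _ := by group
  have h4 := h.mem_of_comm h1 hc hge h3
  apply he'
  have := l.PQ _ (inv_mem hg) _ h4
  have e2 : g⁻¹ * (g * e * g⁻¹) * g⁻¹⁻¹ = e := by group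
  rwa [e2] at this

/-- Some element of `C_P(y)` moves `D`. -/
theorem Lin.exists_move {i : Bool} {P L C : Subgroup G}
    (h : Amb (S : Subgroup G) S0 D Q) (l : Lin (S : Subgroup G) S0 D (Q i) P L C) {y : G}
    (hy : Amb.Fld (S : Subgroup G) S0 y) (hy1 : y * y = 1) :
    ∃ c ∈ P, c * y = y * c ∧ ∃ d ∈ D, c * d * c⁻¹ ∉ D := by
  obtain ⟨v, hv, hvD, hyv⟩ := h.exists_fix hy hy1 i
  obtain ⟨p, hp, hpv⟩ := l.cov v hv
  have hyP := l.SP hy.mem
  set k := p * y * p⁻¹ with hk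
  have hkP : k ∈ P := mul_mem (mul_mem hp hyP) (inv_mem hp)
  have hkk : k * k = 1 := by
    rw [hk]
    calc p * y * p⁻¹ * (p * y * p⁻¹) = p * (y * y) * p⁻¹ := by group
      _ = 1 := by rw [hy1]; group
  -- `k` normalises `D`
  have hkD : ∀ d ∈ D, k * d * k⁻¹ ∈ D := by
    by_contra hc
    push Not at hc
    have h1 : k * (p * v * p⁻¹) * k⁻¹ = p * v * p⁻¹ := by
      rw [hk]
      calc p * y * p⁻¹ * (p * v * p⁻¹) * (p * y * p⁻¹)⁻¹ = p * (y * v) * y⁻¹ * p⁻¹ := by group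
        _ = p * (v * y) * y⁻¹ * p⁻¹ := by rw [hyv]
        _ = _ := by group
    have h2 := l.line k hkP hc _ hpv (by rw [h1]; exact hpv)
    have h3 := l.PC _ (inv_mem hp) _ h2
    have e : p⁻¹ * (p * v * p⁻¹) * p⁻¹⁻¹ = v := by group
    rw [e] at h3
    exact hvD (l.CD h3)
  -- conjugate `k` into `S` inside `N_P(D)`
  let B : Subgroup G := P ⊓ Subgroup.normalizer (D : Set G)
  have hSB : (S : Subgroup G) ≤ B := by
    intro s hs
    refine ⟨l.SP hs, Subgroup.mem_normalizer_iff.2 ?_⟩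
    exact fun d => (norm_iff (fun d hd => h.Dn hs hd) d).symm
  have hk2 : IsPGroup 2 (Subgroup.zpowers k) := by
    rintro ⟨g, n, rfl⟩
    refine ⟨1, Subtype.ext ?_⟩
    show (k ^ n) ^ 2 ^ 1 = 1
    rw [pow_one, ← zpow_natCast, ← zpow_mul, mul_comm, zpow_mul]
    have : k ^ ((2 : ℕ) : ℤ) = 1 := by
      rw [zpow_natCast, pow_two, hkk]
    rw [this, one_zpow]
  have hkB : Subgroup.zpowers k ≤ B := by
    rw [Subgroup.zpowers_le]
    refine ⟨hkP, Subgroup.mem_normalizer_iff.2 ?_⟩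
    exact fun d => (norm_iff hkD d).symm
  obtain ⟨g, hg, hgk⟩ := exists_conj_le S hSB hkB hk2
  have hgk' := hgk k (Subgroup.mem_zpowers k)
  have hgP : g ∈ P := hg.1
  have hgD : ∀ d, g * d * g⁻¹ ∈ D ↔ d ∈ D := fun d => ((Subgroup.mem_normalizer_iff.1 hg.2) d).symm
  set m := g * p with hm
  have hmP : m ∈ P := mul_mem hgP hp
  have hme : g * k * g⁻¹ = m * y * m⁻¹ := by rw [hk, hm]; group
  rw [hme] at hgk'
  have hmF : Amb.Fld (S : Subgroup G) S0 (m * y * m⁻¹) := by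
    have hsq : m * y * m⁻¹ * (m * y * m⁻¹) = 1 := by
      calc m * y * m⁻¹ * (m * y * m⁻¹) = m * (y * y) * m⁻¹ := by group
        _ = 1 := by rw [hy1]; group
    refine ⟨hgk', by rw [hsq]; exact one_mem _, fun hc => hy.not ?_⟩
    have h1 := (l.LS _ hgk').2 hc
    have h2 := l.PL _ (inv_mem hmP) _ h1
    have e : m⁻¹ * (m * y * m⁻¹) * m⁻¹⁻¹ = y := by group
    rw [e] at h2
    exact (l.LS _ hy.mem).1 h2
  obtain ⟨s, hs, hsy⟩ := h.conj_inv hmF (by
    calc m * y * m⁻¹ * (m * y * m⁻¹) = m * (y * y) * m⁻¹ := by group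
      _ = 1 := by rw [hy1]; group) hy hy1
  have hsS := h.S0_le hs
  refine ⟨s * m, mul_mem (l.SP hsS) hmP, ?_, ?_⟩
  · calc s * m * y = (s * (m * y * m⁻¹) * s⁻¹) * (s * m) := by group
      _ = _ := by rw [hsy]
  · by_contra hc
    push Not at hc
    have h1 := norm_iff hc v
    apply hvD
    rw [← h1, hm]
    have e : s * (g * p) * v * (s * (g * p))⁻¹ = s * (g * (p * v * p⁻¹) * g⁻¹) * s⁻¹ := by group
    rw [e]
    exact h.Dn hsS ((hgD _).2 hpv)

/-- **`O₂(C_G(y)) ∩ S₀ = 1`.** -/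
theorem disj (h : Amb (S : Subgroup G) S0 D Q) {P L C : Bool → Subgroup G}
    (l : ∀ i, Lin (S : Subgroup G) S0 D (Q i) (P i) (L i) (C i))
    (hC : ∀ c, (∀ i, c ∈ C i) → c = 1) {y : G}
    (hy : Amb.Fld (S : Subgroup G) S0 y) (hy1 : y * y = 1) {R : Subgroup G}
    (hRn : ∀ g, g * y = y * g → ∀ r ∈ R, g * r * g⁻¹ ∈ R) (hR2 : IsPGroup 2 R) {e : G}
    (he : e ∈ R) (he0 : e ∈ S0) : e = 1 := by
  -- `R ∩ S₀ ≤ Q_i`
  have key : ∀ i, ∀ e ∈ R, e ∈ S0 → e ∈ Q i := by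
    intro i e he he0
    by_contra heQ
    obtain ⟨c, hcP, hcy, hcD⟩ := (l i).exists_move h hy hy1
    have hcR := hRn c hcy e he
    have heP : e ∈ P i := (l i).SP (h.S0_le he0)
    obtain ⟨g, hg, hgT⟩ := exists_conj_le S (H := P i) (l i).SP (T := R ⊓ P i) inf_le_right
      (hR2.to_le inf_le_left)
    have h1 := hgT e ⟨he, heP⟩
    have h2 := hgT (c * e * c⁻¹) (Subgroup.mem_inf.2 ⟨hcR, mul_mem (mul_mem hcP heP) (inv_mem hcP)⟩)
    have heL : e ∈ L i := ((l i).LS e (h.S0_le he0)).2 he0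
    have h1' : g * e * g⁻¹ ∈ S0 := ((l i).LS _ h1).1 ((l i).PL g hg e heL)
    have h2' : g * (c * e * c⁻¹) * g⁻¹ ∈ S0 :=
      ((l i).LS _ h2).1 ((l i).PL g hg _ ((l i).PL c hcP e heL))
    have h3 := (l i).norm_of_mem h hg he0 heQ h1'
    have h4 : ∀ d ∈ D, (g * c) * d * (g * c)⁻¹ ∈ D := by
      refine (l i).norm_of_mem h (mul_mem hg hcP) he0 heQ ?_
      have e2 : g * c * e * (g * c)⁻¹ = g * (c * e * c⁻¹) * g⁻¹ := by group
      rw [e2]
      exact h2'
    obtain ⟨d, hd, hcd⟩ := hcD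
    apply hcd
    rw [← norm_iff h3]
    have e2 : g * (c * d * c⁻¹) * g⁻¹ = g * c * d * (g * c)⁻¹ := by group
    rw [e2]
    exact h4 d hd
  refine hC e fun i => ?_
  have heD : e ∈ D := h.memD (key false e he he0) (key true e he he0)
  obtain ⟨c, hcP, hcy, hcD⟩ := (l i).exists_move h hy hy1
  refine (l i).line c hcP hcD e heD ?_
  have h1 : c * e * c⁻¹ ∈ S0 := h.Q_le i ((l i).PQ c hcP e (h.D_le i heD))
  have h2 := hRn c hcy e he
  exact h.memD (key false _ h2 h1) (key true _ h2 h1)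

end Lines

end Cfsg.Agent.Omega.CloseA
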