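import Mathlib
import Cfsg.Agent.Omega.CloseA.Weak

/-!
# Field automorphisms in the closings of type `L₃(q)`, `Sp₄(q)`: the contradiction
-/

set_option autoImplicit false

namespace Cfsg.Agent.Omega.CloseA

variable {G : Type*} [Group G]

theorem CT.self {y : G} {R : Subgroup G} (h : CT y R) : y ∈ R :=
  h.cen y rfl fun r hr => (h.le r hr).symm

theorem CT.map {y : G} {R : Subgroup G} (h : CT y R) (g : G) :
    CT (g * y * g⁻¹) (R.map (MulAut.conj g).toMonoidHom) := by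
  have hc : ∀ {x : G}, x * (g * y * g⁻¹) = g * y * g⁻¹ * x →
      g⁻¹ * x * g * y = y * (g⁻¹ * x * g) := by
    intro x hx
    calc g⁻¹ * x * g * y = g⁻¹ * (x * (g * y * g⁻¹)) * g := by group
      _ = g⁻¹ * (g * y * g⁻¹ * x) * g := by rw [hx]
      _ = _ := by group
  have hc' : ∀ {x : G}, x * y = y * x → g * x * g⁻¹ * (g * y * g⁻¹) = g * y * g⁻¹ * (g * x * g⁻¹) := by
    intro x hx
    calc g * x * g⁻¹ * (g * y * g⁻¹) = g * (x * y) * g⁻¹ := by group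
      _ = g * (y * x) * g⁻¹ := by rw [hx]
      _ = _ := by group
  refine ⟨?_, ?_, isPGroup_map' h.two g, ?_, ?_⟩
  · rintro _ ⟨r, hr, rfl⟩
    exact hc' (h.le r hr)
  · intro x hx r hr
    rw [mem_map_conj] at hr ⊢
    have := h.nrm _ (hc hx) _ hr
    have e : g⁻¹ * (x * r * x⁻¹) * g = g⁻¹ * x * g * (g⁻¹ * r * g) * (g⁻¹ * x * g)⁻¹ := by group
    rw [e]
    exact this
  · intro x hx hr
    rw [mem_map_conj]
    refine h.cen _ (hc hx) fun r hr' => ?_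
    have h1 := hr (g * r * g⁻¹) (mem_map_conj.2 (by
      have e : g⁻¹ * (g * r * g⁻¹) * g = r := by group
      rwa [e]))
    calc g⁻¹ * x * g * r = g⁻¹ * (x * (g * r * g⁻¹)) * g := by group
      _ = g⁻¹ * (g * r * g⁻¹ * x) * g := by rw [h1]
      _ = _ := by group
  · intro K hK hKn hK2 k hk
    rw [mem_map_conj]
    refine h.max (K.map (MulAut.conj g⁻¹).toMonoidHom) ?_ ?_ (isPGroup_map' hK2 _) ?_
    · rintro _ ⟨k, hk, rfl⟩
      have := hc (hK k hk)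
      show g⁻¹ * k * g⁻¹⁻¹ * y = y * (g⁻¹ * k * g⁻¹⁻¹)
      rwa [inv_inv]
    · intro x hx t ht
      rw [mem_map_conj, inv_inv] at ht ⊢
      have := hKn _ (hc' hx) _ ht
      have e : g * (x * t * x⁻¹) * g⁻¹ = g * x * g⁻¹ * (g * t * g⁻¹) * (g * x * g⁻¹)⁻¹ := by group
      rw [e]
      exact this
    · rw [mem_map_conj, inv_inv]
      have e : g * (g⁻¹ * k * g) * g⁻¹ = k := by group
      rwa [e]

section

variable [Finite G] {S : Sylow 2 G} {S0 D : Subgroup G} {Q : Bool → Subgroup G}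

/-- The subgroup `C_{S₀}(y)`. -/
def E0 (S0 : Subgroup G) (y : G) : Subgroup G := S0 ⊓ Subgroup.centralizer ({y} : Set G)

omit [Finite G] in
theorem mem_E0 {y x : G} : x ∈ E0 S0 y ↔ x ∈ S0 ∧ x * y = y * x := by
  rw [E0, Subgroup.mem_inf, Subgroup.mem_centralizer_singleton_iff]

theorem isPGroup_sup {y : G} {R T : Subgroup G} (hR : CT y R) (hT : IsPGroup 2 T)
    (hTy : ∀ t ∈ T, t * y = y * t) : IsPGroup 2 (T ⊔ R : Subgroup G) := by
  refine IsPGroup.to_sup_of_normal_right' hT hR.two fun t ht => ?_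
  rw [Subgroup.mem_normalizer_iff]
  exact fun r => (norm_iff (fun r hr => hR.nrm t (hTy t ht) r hr) r).symm

omit [Finite G] in
theorem sup_comm {y : G} {R T : Subgroup G} (hR : CT y R)
    (hTy : ∀ t ∈ T, t * y = y * t) : ∀ t ∈ T ⊔ R, t * y = y * t := by
  have h1 : T ⊔ R ≤ Subgroup.centralizer ({y} : Set G) :=
    sup_le (fun t ht => Subgroup.mem_centralizer_singleton_iff.2 (hTy t ht))
      fun r hr => Subgroup.mem_centralizer_singleton_iff.2 (hR.le r hr)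
  exact fun t ht => Subgroup.mem_centralizer_singleton_iff.1 (h1 ht)

/-- The result of step (2): `u = kyk⁻¹ ∈ D`. -/
structure Ext (S : Subgroup G) (S0 D R : Subgroup G) (y k : G) (R' : Subgroup G) : Prop where
  mem : k * y * k⁻¹ ∈ D
  ct : CT (k * y * k⁻¹) R'
  le : R' ≤ S
  iff : ∀ x, k * x * k⁻¹ ∈ R' ↔ x ∈ R
  fix : ∀ x ∈ S0, x * y = y * x → k * x * k⁻¹ ∈ S
  disj : ∀ x ∈ R, x ∈ S0 → x = 1
  comm : ∀ x ∈ S0, x * (k * y * k⁻¹) = k * y * k⁻¹ * x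
  not_le : ∃ a ∈ R', a ∈ S0 ∧ a ∉ D

theorem exists_ext (h : Amb (S : Subgroup G) S0 D Q) {P L C : Bool → Subgroup G}
    (l : ∀ i, Lin (S : Subgroup G) S0 D (Q i) (P i) (L i) (C i))
    (hC : ∀ c, (∀ i, c ∈ C i) → c = 1) {y : G}
    (hy : Amb.Fld (S : Subgroup G) S0 y) (hy1 : y * y = 1) {R : Subgroup G} (hR : CT y R) :
    ∃ k R', Ext (S : Subgroup G) S0 D R y k R' := by
  have hne : ∀ i, ∃ a ∈ Q i, a ∉ D := fun i => by
    obtain ⟨a, ha, haD, -⟩ := h.exists_fix hy hy1 i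
    exact ⟨a, ha, haD⟩
  have hS02 : IsPGroup 2 S0 := S.isPGroup'.to_le h.S0_le
  have hE2 : IsPGroup 2 (E0 S0 y) := hS02.to_le inf_le_left
  have hEy : ∀ t ∈ E0 S0 y, t * y = y * t := fun t ht => (mem_E0.1 ht).2
  have hdis : ∀ x ∈ R, x ∈ S0 → x = 1 := fun x hx hx0 => disj h l hC hy hy1 hR.nrm hR.two hx hx0
  -- the first conjugate
  obtain ⟨g, hg, -⟩ := exists_extr S hR.two hR.le
  have hR' := hR.map g
  have hR'S : R.map (MulAut.conj g).toMonoidHom ≤ (S : Subgroup G) := by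
    rintro _ ⟨r, hr, rfl⟩
    exact hg r hr
  set u1 := g * y * g⁻¹ with hu1
  set R1 := R.map (MulAut.conj g).toMonoidHom with hR1
  have hu1S : u1 ∈ (S : Subgroup G) := hR'S hR'.self
  have hsq : ∀ x : G, x * y * x⁻¹ * (x * y * x⁻¹) = 1 := by
    intro x
    calc x * y * x⁻¹ * (x * y * x⁻¹) = x * (y * y) * x⁻¹ := by group
      _ = 1 := by rw [hy1]; group
  have hu10 : u1 ∈ S0 := by
    by_contra hc
    have hF : Amb.Fld (S : Subgroup G) S0 u1 := ⟨hu1S, by rw [hu1, hsq]; exact one_mem _, hc⟩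
    have hd1 : ∀ x ∈ R1, x ∈ S0 → x = 1 := fun x hx hx0 =>
      disj h l hC hF (hsq g) hR'.nrm hR'.two hx hx0
    obtain ⟨a, ha, haD, hau⟩ := h.exists_fix hF (hsq g) false
    have ha0 := h.Q_le _ ha
    have haR : a ∈ R1 := by
      refine hR'.cen a hau.symm fun r hr => ?_
      have h1 : a * r * a⁻¹ * r⁻¹ ∈ R1 := mul_mem (hR'.nrm a hau.symm r hr) (inv_mem hr)
      have h2 : a * r * a⁻¹ * r⁻¹ ∈ S0 := by
        have e : a * r * a⁻¹ * r⁻¹ = a * (r * a⁻¹ * r⁻¹) := by group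
        rw [e]
        exact mul_mem ha0 (h.S0n (hR'S hr) (inv_mem ha0))
      have h3 := hd1 _ h1 h2
      rw [mul_inv_eq_one, mul_inv_eq_iff_eq_mul] at h3
      exact h3
    have := hd1 a haR ha0
    exact haD (this ▸ one_mem _)
  -- move it into `D`
  obtain ⟨i, hi⟩ : ∃ i, u1 ∈ Q i := by
    rcases h.mem_or hu10 (hsq g) with h1 | h1
    · exact ⟨_, h1⟩
    · exact ⟨_, h1⟩
  obtain ⟨p, -, hpD⟩ := (l i).cov u1 hi
  have hu2 : p * u1 * p⁻¹ = (p * g) * y * (p * g)⁻¹ := by rw [hu1]; group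
  rw [hu2] at hpD
  have hR2 := hR.map (p * g)
  have hcomm2 : ∀ x ∈ S0, x * ((p * g) * y * (p * g)⁻¹) = (p * g) * y * (p * g)⁻¹ * x :=
    fun x hx => h.central hx hpD
  obtain ⟨g2, hg2, hE2'⟩ := exists_extr S (isPGroup_sup hR2 hS02 hcomm2) (sup_comm hR2 hcomm2)
  obtain ⟨hgD, hgS⟩ := h.weak hne (g := g2) fun x hx => hg2 x (Subgroup.mem_sup_left hx)
  have hu3 : g2 * ((p * g) * y * (p * g)⁻¹) * g2⁻¹ = (g2 * p * g) * y * (g2 * p * g)⁻¹ := by group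
  have huD := hgD _ hpD
  rw [hu3] at hE2' huD
  set k0 := g2 * p * g with hk0
  have hR3 := hR.map k0
  set R3 := R.map (MulAut.conj k0).toMonoidHom with hR3e
  have hR3S : R3 ≤ (S : Subgroup G) := by
    intro r hr
    rw [hR3e, mem_map_conj] at hr
    have h1 : g2⁻¹ * r * g2 ∈ R.map (MulAut.conj (p * g)).toMonoidHom := by
      rw [mem_map_conj]
      have e : (p * g)⁻¹ * (g2⁻¹ * r * g2) * (p * g) = k0⁻¹ * r * k0 := by rw [hk0]; group
      rwa [e]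
    have h2 := hg2 _ (Subgroup.mem_sup_right h1)
    have e : g2 * (g2⁻¹ * r * g2) * g2⁻¹ = r := by group
    rwa [e] at h2
  -- conjugate `C_{S₀}(y)` into `S`
  have hT2 : IsPGroup 2 ((E0 S0 y).map (MulAut.conj k0).toMonoidHom) := isPGroup_map' hE2 _
  have hTu : ∀ t ∈ (E0 S0 y).map (MulAut.conj k0).toMonoidHom,
      t * (k0 * y * k0⁻¹) = k0 * y * k0⁻¹ * t := by
    rintro _ ⟨t, ht, rfl⟩
    show k0 * t * k0⁻¹ * (k0 * y * k0⁻¹) = k0 * y * k0⁻¹ * (k0 * t * k0⁻¹)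
    calc k0 * t * k0⁻¹ * (k0 * y * k0⁻¹) = k0 * (t * y) * k0⁻¹ := by group
      _ = k0 * (y * t) * k0⁻¹ := by rw [hEy t ht]
      _ = _ := by group
  obtain ⟨c, hcu, hcT⟩ := hE2' _ hT2 hTu
  have hcy : (c * k0) * y * (c * k0)⁻¹ = k0 * y * k0⁻¹ := by
    calc (c * k0) * y * (c * k0)⁻¹ = (c * (k0 * y * k0⁻¹)) * c⁻¹ := by group
      _ = _ := by rw [hcu]; group
  have hiff : ∀ x, (c * k0) * x * (c * k0)⁻¹ ∈ R3 ↔ x ∈ R := by
    intro x
    have h1 : c * (k0 * x * k0⁻¹) * c⁻¹ ∈ R3 ↔ k0 * x * k0⁻¹ ∈ R3 :=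
      norm_iff (fun r hr => hR3.nrm c hcu r hr) _
    have e1 : (c * k0) * x * (c * k0)⁻¹ = c * (k0 * x * k0⁻¹) * c⁻¹ := by group
    rw [e1, h1, hR3e, mem_map_conj]
    have e2 : k0⁻¹ * (k0 * x * k0⁻¹) * k0 = x := by group
    rw [e2]
  refine ⟨c * k0, R3, ⟨by rw [hcy]; exact huD, by rw [hcy]; exact hR3, hR3S, hiff, ?_, hdis, ?_, ?_⟩⟩
  · intro x hx hxy
    have := hcT _ ⟨x, mem_E0.2 ⟨hx, hxy⟩, rfl⟩
    have e1 : (c * k0) * x * (c * k0)⁻¹ = c * (k0 * x * k0⁻¹) * c⁻¹ := by group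
    rw [e1]
    exact this
  · intro x hx
    rw [hcy]
    exact h.central hx huD
  · by_contra hc
    push Not at hc
    have hS0u : ∀ x ∈ S0, x * (k0 * y * k0⁻¹) = k0 * y * k0⁻¹ * x := fun x hx => h.central hx huD
    have hRD : R3 ≤ D := by
      intro r hr
      have hr0 : r ∈ S0 := by
        refine h.faith false r (hR3S hr) fun a ha => ?_
        have ha0 := h.Q_le _ ha
        have h1 : r * a * r⁻¹ * a⁻¹ ∈ R3 := by
          have e : r * a * r⁻¹ * a⁻¹ = r * (a * r⁻¹ * a⁻¹) := by group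
          rw [e]
          exact mul_mem hr (hR3.nrm a (hS0u a ha0) _ (inv_mem hr))
        have h2 : r * a * r⁻¹ * a⁻¹ ∈ S0 := mul_mem (h.S0n (hR3S hr) ha0) (inv_mem ha0)
        have h3 := hc _ h1 h2
        rwa [h.inv_eq ha] at h3
      exact hc r hr hr0
    obtain ⟨a, ha, haD⟩ := hne false
    have ha0 := h.Q_le _ ha
    exact haD (hRD (hR3.cen a (hS0u a ha0) fun r hr => h.central ha0 (hRD hr)))

/-- There are two independent fixed elements in `Q_i / D`. -/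
def Big (S S0 D : Subgroup G) (Q : Bool → Subgroup G) : Prop :=
  ∀ f, Amb.Fld S S0 f → ∀ i, ∃ a ∈ Q i, ∃ b ∈ Q i, f * a * f⁻¹ * a ∈ D ∧ f * b * f⁻¹ * b ∈ D ∧
    a ∉ D ∧ b ∉ D ∧ a * b ∉ D

omit [Finite G] in
/-- `D ≤ O₂(C_G(u))` is impossible for `r > 2`. -/
theorem Ext.not_D_le (h : Amb (S : Subgroup G) S0 D Q) {y k : G} {R R' : Subgroup G}
    (hE : Ext (S : Subgroup G) S0 D R y k R') (hy : Amb.Fld (S : Subgroup G) S0 y)
    (hy1 : y * y = 1) (hb : Big (S : Subgroup G) S0 D Q) (hD : D ≤ R') : False := by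
  have key : ∀ i, ∃ a ∈ Q i, a ∉ D ∧ k * a * k⁻¹ ∈ S0 := by
    intro i
    obtain ⟨a0, ha0, b0, hb0, hfa, hfb, haD, hbD, habD⟩ := hb y hy i
    obtain ⟨d, hd, hda⟩ := h.lift_fix hy hy1 ha0 hfa
    obtain ⟨e, he, heb⟩ := h.lift_fix hy hy1 hb0 hfb
    have ha := mul_mem ha0 (h.D_le i hd)
    have hb := mul_mem hb0 (h.D_le i he)
    have haD' : a0 * d ∉ D := fun hc => haD ((D.mul_mem_cancel_right hd).1 hc)
    have hbD' : b0 * e ∉ D := fun hc => hbD ((D.mul_mem_cancel_right he).1 hc)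
    have habD' : a0 * d * (b0 * e) ∉ D := by
      intro hc
      apply habD
      have e1 : a0 * d * (b0 * e) = a0 * b0 * (d * e) := by
        calc a0 * d * (b0 * e) = a0 * (d * b0) * e := by group
          _ = a0 * (b0 * d) * e := by rw [h.mulD hb0 hd]
          _ = _ := by group
      rw [e1] at hc
      exact (D.mul_mem_cancel_right (mul_mem hd he)).1 hc
    set a := a0 * d with hae
    set b := b0 * e with hbe
    have hka := hE.fix a (h.Q_le i ha) hda.symm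
    have hkb := hE.fix b (h.Q_le i hb) heb.symm
    by_cases h1 : k * a * k⁻¹ ∈ S0
    · exact ⟨a, ha, haD', h1⟩
    · by_cases h2 : k * b * k⁻¹ ∈ S0
      · exact ⟨b, hb, hbD', h2⟩
      · refine ⟨a * b, mul_mem ha hb, habD', ?_⟩
        have hsq : ∀ x ∈ Q i, k * x * k⁻¹ * (k * x * k⁻¹) ∈ S0 := by
          intro x hx
          have e1 : k * x * k⁻¹ * (k * x * k⁻¹) = k * (x * x) * k⁻¹ := by group
          rw [e1, h.sq i x hx]
          simp
        have h3 := h.cyc _ hka _ hkb (hsq a ha) (hsq b hb) h1 h2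
        have e1 : k * (a * b) * k⁻¹ = k * a * k⁻¹ * (k * b * k⁻¹) := by group
        rw [e1]
        exact h3
  obtain ⟨a, ha, haD, hka⟩ := key false
  obtain ⟨b, hb, hbD, hkb⟩ := key true
  have h1 := h.comm_mem0 hka hkb
  have h2 : k * (a * b * a⁻¹ * b⁻¹) * k⁻¹ ∈ R' := by
    apply hD
    have e1 : k * (a * b * a⁻¹ * b⁻¹) * k⁻¹ =
        k * a * k⁻¹ * (k * b * k⁻¹) * (k * a * k⁻¹)⁻¹ * (k * b * k⁻¹)⁻¹ := by group
    rw [e1]
    exact h1
  rw [hE.iff] at h2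
  have h3 := hE.disj _ h2 (h.D_le0 (h.comm_mem ha (i := false) hb))
  rw [mul_inv_eq_one, mul_inv_eq_iff_eq_mul] at h3
  rcases h.cen a ha b hb h3 with h4 | h4
  · exact haD h4
  · exact hbD h4

omit [Finite G] in
/-- Type `L₃`: `D ≤ O₂(C_G(u))`. -/
theorem Ext.D_le_three (h : Amb (S : Subgroup G) S0 D Q) {y k : G} {R R' : Subgroup G}
    (hE : Ext (S : Subgroup G) S0 D R y k R')
    (sur : ∀ i, ∀ a ∈ Q i, a ∉ D → ∀ d ∈ D, ∃ b ∈ Q (!i), a * b * a⁻¹ * b⁻¹ = d) : D ≤ R' := by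
  obtain ⟨a, haR, ha0, haD⟩ := hE.not_le
  obtain ⟨i, hai⟩ : ∃ i, a ∉ Q i := by
    by_contra hc
    push Not at hc
    exact haD ((h.inf a).2 hc)
  obtain ⟨b, hb, c, hc, rfl⟩ := h.dec i ha0
  have hcD : c ∉ D := fun hcD => hai (mul_mem hb (h.D_le _ hcD))
  intro d hd
  obtain ⟨e, he, hce⟩ := sur (!i) c hc hcD d hd
  rw [Bool.not_not] at he
  have he0 := h.Q_le _ he
  have h1 : b * c * (e * (b * c)⁻¹ * e⁻¹) ∈ R' :=
    mul_mem haR (hE.ct.nrm e (hE.comm e he0) _ (inv_mem haR))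
  have h2 : b * c * (e * (b * c)⁻¹ * e⁻¹) = d := by
    have h3 : c * e = d * e * c := by
      rw [← hce]; group
    have h4 : b * e = e * b := h.comm hb he
    calc b * c * (e * (b * c)⁻¹ * e⁻¹) = b * (c * e) * c⁻¹ * b⁻¹ * e⁻¹ := by group
      _ = (b * d) * e * b⁻¹ * e⁻¹ := by rw [h3]; group
      _ = d * (b * e) * b⁻¹ * e⁻¹ := by rw [h.mulD hb hd]; group
      _ = d := by rw [h4]; group
  rwa [h2] at h1

omit [Finite G] in
/-- An element of `R' - S₀` gives `f ∈ R' ∩ S - S₀` with `f² ∈ S₀`. -/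
theorem exists_fld {R' : Subgroup G} (hR : R' ≤ (S : Subgroup G))
    (hn : ¬ R' ≤ S0) : ∃ f ∈ R', Amb.Fld (S : Subgroup G) S0 f := by
  obtain ⟨g, hg, hg0⟩ := SetLike.not_le_iff_exists.1 hn
  have h1 : ∃ n : ℕ, g ^ 2 ^ n ∈ S0 := by
    obtain ⟨n, hn⟩ := S.isPGroup' ⟨g, hR hg⟩
    refine ⟨n, ?_⟩
    have : g ^ 2 ^ n = 1 := congrArg Subtype.val hn
    rw [this]
    exact one_mem _
  classical
  have h2 := Nat.find_spec h1
  have h3 : Nat.find h1 ≠ 0 := by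
    intro hc
    rw [hc, pow_zero, pow_one] at h2
    exact hg0 h2
  obtain ⟨m, hm⟩ := Nat.exists_eq_succ_of_ne_zero h3
  have h4 : g ^ 2 ^ m ∉ S0 := Nat.find_min h1 (by omega)
  refine ⟨g ^ 2 ^ m, pow_mem hg _, pow_mem (hR hg) _, ?_, h4⟩
  rw [hm] at h2
  rw [← pow_add, ← two_mul, ← pow_succ']
  exact h2

omit [Finite G] in
/-- Elements of `[f, Q_i]`, `f ∈ R'`, lie in `R'`. -/
theorem Ext.comm_mem {y k : G} {R R' : Subgroup G}
    (hE : Ext (S : Subgroup G) S0 D R y k R') {f x : G} (hf : f ∈ R') (hx : x ∈ S0) :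
    f * x * f⁻¹ * x⁻¹ ∈ R' := by
  have e : f * x * f⁻¹ * x⁻¹ = f * (x * f⁻¹ * x⁻¹) := by group
  rw [e]
  exact mul_mem hf (hE.ct.nrm x (hE.comm x hx) _ (inv_mem hf))

omit [Finite G] in
/-- Fixed elements of `Q_i / D` are represented in `R'` if `R'` contains `f`. -/
theorem Ext.exists_rep (h : Amb (S : Subgroup G) S0 D Q) {y k : G} {R R' : Subgroup G}
    (hE : Ext (S : Subgroup G) S0 D R y k R') {f : G} (hf : f ∈ R')
    (hF : Amb.Fld (S : Subgroup G) S0 f) {i : Bool} {a : G} (ha : a ∈ Q i)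
    (hfa : f * a * f⁻¹ * a ∈ D) : ∃ n ∈ R', n ∈ Q i ∧ n * a ∈ D := by
  obtain ⟨e, he, hea⟩ := h.frQ f hF.mem hF.sq hF.not i a ha hfa
  have h1 := hE.comm_mem hf (h.Q_le i he)
  rw [h.inv_eq he] at h1
  exact ⟨_, h1, mul_mem (h.Qn i f hF.mem e he) he, hea⟩

omit [Finite G] in
/-- Type `Sp₄`, `r > 2`: `D ≤ O₂(C_G(u))`. -/
theorem Ext.D_le_four (h : Amb (S : Subgroup G) S0 D Q) {y k : G} {R R' : Subgroup G}
    (hE : Ext (S : Subgroup G) S0 D R y k R') (hb : Big (S : Subgroup G) S0 D Q)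
    (sp : ∀ a ∈ Q false, ∀ b ∈ Q false, a ∉ D → b ∉ D → a * b ∉ D → ∀ d ∈ D,
      ∃ v ∈ Q true, ∃ w ∈ Q true, (a * v * a⁻¹ * v⁻¹) * (b * w * b⁻¹ * w⁻¹) = d) : D ≤ R' := by
  by_cases hR : R' ≤ S0
  · exact fun d hd => hE.ct.cen d (hE.comm d (h.D_le0 hd)) fun r hr => (h.central (hR hr) hd).symm
  · obtain ⟨f, hf, hF⟩ := exists_fld hE.le hR
    obtain ⟨a, ha, b, hb', hfa, hfb, haD, hbD, habD⟩ := hb f hF false
    obtain ⟨n, hn, hnQ, hna⟩ := hE.exists_rep h hf hF ha hfa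
    obtain ⟨m, hm, hmQ, hmb⟩ := hE.exists_rep h hf hF hb' hfb
    have hnD : n ∉ D := fun hc => haD ((D.mul_mem_cancel_left hc).1 hna)
    have hmD : m ∉ D := fun hc => hbD ((D.mul_mem_cancel_left hc).1 hmb)
    have hnmD : n * m ∉ D := by
      intro hc
      apply habD
      have e1 : n * m * (a * b) = (n * a) * (m * b) := by
        calc n * m * (a * b) = n * (m * a) * b := by group
          _ = n * (a * m) * b := by rw [h.comm hmQ ha]
          _ = _ := by group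
      have h2 : n * m * (a * b) ∈ D := by
        rw [e1]
        exact mul_mem hna hmb
      exact (D.mul_mem_cancel_left hc).1 h2
    intro d hd
    obtain ⟨v, hv, w, hw, e⟩ := sp n hnQ m hmQ hnD hmD hnmD d hd
    rw [← e]
    exact mul_mem (hE.comm_mem hn (h.Q_le _ hv)) (hE.comm_mem hm (h.Q_le _ hw))

/-- Characteristic 2 type at the involutions of `S - S₀`. -/
def CTs (S S0 : Subgroup G) : Prop :=
  ∀ y ∈ S, y ∉ S0 → y * y = 1 → ∃ R, CT y R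

/-- **Type `L₃`, `r > 2`: `S = S₀`.** -/
theorem close_three (h : Amb (S : Subgroup G) S0 D Q) {P L C : Bool → Subgroup G}
    (l : ∀ i, Lin (S : Subgroup G) S0 D (Q i) (P i) (L i) (C i))
    (hC : ∀ c, (∀ i, c ∈ C i) → c = 1) (hct : CTs (S : Subgroup G) S0)
    (hb : Big (S : Subgroup G) S0 D Q)
    (sur : ∀ i, ∀ a ∈ Q i, a ∉ D → ∀ d ∈ D, ∃ b ∈ Q (!i), a * b * a⁻¹ * b⁻¹ = d) :
    (S : Subgroup G) = S0 := by
  by_contra hne
  have hn : ¬ (S : Subgroup G) ≤ S0 := fun hc => hne (le_antisymm hc h.S0_le)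
  obtain ⟨f, -, hF⟩ := exists_fld le_rfl hn
  obtain ⟨y, hy, hy1⟩ := h.exists_inv hF
  obtain ⟨R, hR⟩ := hct y hy.mem hy.not hy1
  obtain ⟨k, R', hE⟩ := exists_ext h l hC hy hy1 hR
  exact hE.not_D_le h hy hy1 hb (hE.D_le_three h sur)

/-- **Type `Sp₄`, `r > 2`: `S = S₀`.** -/
theorem close_four (h : Amb (S : Subgroup G) S0 D Q) {P L C : Bool → Subgroup G}
    (l : ∀ i, Lin (S : Subgroup G) S0 D (Q i) (P i) (L i) (C i))
    (hC : ∀ c, (∀ i, c ∈ C i) → c = 1) (hct : CTs (S : Subgroup G) S0)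
    (hb : Big (S : Subgroup G) S0 D Q)
    (sp : ∀ a ∈ Q false, ∀ b ∈ Q false, a ∉ D → b ∉ D → a * b ∉ D → ∀ d ∈ D,
      ∃ v ∈ Q true, ∃ w ∈ Q true, (a * v * a⁻¹ * v⁻¹) * (b * w * b⁻¹ * w⁻¹) = d) :
    (S : Subgroup G) = S0 := by
  by_contra hne
  have hn : ¬ (S : Subgroup G) ≤ S0 := fun hc => hne (le_antisymm hc h.S0_le)
  obtain ⟨f, -, hF⟩ := exists_fld le_rfl hn
  obtain ⟨y, hy, hy1⟩ := h.exists_inv hF
  obtain ⟨R, hR⟩ := hct y hy.mem hy.not hy1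
  obtain ⟨k, R', hE⟩ := exists_ext h l hC hy hy1 hR
  exact hE.not_D_le h hy hy1 hb (hE.D_le_four h hb sp)

end

end Cfsg.Agent.Omega.CloseA
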