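import Cfsg.Agent.MinSimple.Basic
import Cfsg.Agent.Omega.CloseA.End

/-!
# Closings of type `L₃(q)`, `Sp₄(q)`: groups of characteristic 2 type satisfy `CTs`
-/

set_option autoImplicit false

universe u

namespace Cfsg.Agent.Omega.CloseA

open Subgroup Cfsg Cfsg.Agent.ZN Cfsg.Agent.MinSimple.MinParabolic Cfsg.Agent.MinSimple.VModule
open Cfsg.Agent.MinSimple.Basic

variable {G : Type u} [Group G]

/-- `O₂(C_G(y))` in a group of characteristic 2 type. -/
theorem exists_CT (hG : IsCharacteristicTwoType G) {y : G} (hy : y * y = 1) (hy1 : y ≠ 1) :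
    ∃ R : Subgroup G, CT y R := by
  have hy' : y ^ 2 = 1 := by rw [pow_two, hy]
  set C := centralizer ({y} : Set G) with hC
  have hmem : ∀ {g : G}, g ∈ C ↔ g * y = y * g := fun {g} => mem_centralizer_singleton_iff
  refine ⟨o2 C, fun r hr => hmem.1 (o2_le C hr), ?_, o2_isPGroup C, ?_, ?_⟩
  · intro g hg r hr
    exact (mem_normalizer_iff.1 (le_normalizer_o2 C (hmem.2 hg)) r).1 hr
  · intro g hg hr
    refine char2_centralizer hG hy' hy1 (mem_inf.2 ⟨hmem.2 hg, mem_centralizer_iff.2 ?_⟩)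
    exact fun r hr' => (hr r hr').symm
  · intro K hK hKn hK2
    refine le_o2 (fun k hk => hmem.2 (hK k hk)) hK2 fun g hg => ?_
    have hg' := hmem.1 hg
    have hgi : g⁻¹ * y = y * g⁻¹ := by
      calc g⁻¹ * y = g⁻¹ * (y * g) * g⁻¹ := by group
        _ = g⁻¹ * (g * y) * g⁻¹ := by rw [hg']
        _ = y * g⁻¹ := by group
    rw [mem_normalizer_iff]
    refine fun k => ⟨fun hk => hKn g hg' k hk, fun hk => ?_⟩
    have := hKn g⁻¹ hgi _ hk
    have e : g⁻¹ * (g * k * g⁻¹) * g⁻¹⁻¹ = k := by group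
    rwa [e] at this

/-- Groups of characteristic 2 type satisfy the input `CTs` of `close3`, `close4`. -/
theorem CTs_of (hG : IsCharacteristicTwoType G) (S S0 : Subgroup G) : CTs S S0 := by
  intro y _ hy0 hy
  refine exists_CT hG hy ?_
  rintro rfl
  exact hy0 (one_mem _)

end Cfsg.Agent.Omega.CloseA
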