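import Cfsg.Agent.Omega.CloseA.Close
import Cfsg.Agent.TwoFusion.SectionalRank

/-!
# Closings of type `L₃(q)`: for `q = 4` the sectional 2-rank of `G` is at most 4
-/

set_option autoImplicit false

namespace Cfsg.Agent.Omega.CloseA

open Cfsg.Agent.TwoFusion.SectionalRank

variable {G : Type*} [Group G] [Finite G] {F : Type*} [Field F] [Finite F]
variable {S S0 D Q₁ Q₂ : Subgroup G} {x y z : G → F}

omit [Finite G] [Finite F] in
theorem Co3.card_D (h : Co3 Q₁ Q₂ D x y z) : Nat.card D = Nat.card F := by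
  refine Nat.card_congr (Equiv.ofBijective (fun d : D => z d) ⟨?_, ?_⟩)
  · intro d e hde
    have h1 := (h.hz.eq_iff d.2 e.2).1 hde
    exact Subtype.ext (mul_inv_eq_one.1 (Subgroup.mem_bot.1 h1))
  · intro a
    obtain ⟨u, hu, h1⟩ := h.z_surj a
    exact ⟨⟨u, hu⟩, h1⟩

theorem Co3.card_S0 (h : Co3 Q₁ Q₂ D x y z) (c : Ctx S S0 D Q₁ Q₂) :
    Nat.card S0 ≤ Nat.card Q₁ * Nat.card F := by
  choose v hv hvy using h.y_surj
  rw [← Nat.card_prod]
  refine Nat.card_le_card_of_surjective (fun p : Q₁ × F => (⟨p.1 * v p.2, ?_⟩ : S0)) ?_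
  · exact (c.sup _).2 ⟨p.1, p.1.2, v p.2, hv _, rfl⟩
  · rintro ⟨g, hg⟩
    obtain ⟨a, ha, b, hb, rfl⟩ := (c.sup g).1 hg
    have h3 : b * (v (y b))⁻¹ ∈ D := by
      rw [← h.hy.eq_iff hb (hv _), hvy]
    refine ⟨(⟨a * (b * (v (y b))⁻¹), mul_mem ha (c.D₁ h3)⟩, y b), Subtype.ext ?_⟩
    show a * (b * (v (y b))⁻¹) * v (y b) = a * b
    group

omit [Finite G] in
/-- In type `L₃` a subgroup of index at most two of `S₀` has derived group `D`. -/
theorem Co3.D_le_of_index (h : Co3 Q₁ Q₂ D x y z) (c : Ctx S S0 D Q₁ Q₂)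
    (ha : Amb S S0 D (pr Q₁ Q₂)) {X Y : Subgroup G} (hX : X ≤ S0)
    (hi : ∀ a ∈ S0, ∀ b ∈ S0, a ∉ X → b ∉ X → a * b ∈ X) (hF : 2 < Nat.card F)
    (hXY : ElemSection 2 X Y) : D ≤ Y := by
  have h2 : (2 : F) = 0 := by
    have _ := h.charP
    exact CharTwo.two_eq_zero
  -- commutators with an element of `X ∩ Q₁ - D`
  obtain ⟨a, haX, haQ, haD⟩ : ∃ a ∈ X, a ∈ Q₁ ∧ a ∉ D := by
    by_contra hc
    push Not at hc
    -- every element of `Q₁ - D` is outside `X`
    obtain ⟨u, hu, hu1⟩ := h.x_surj 1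
    obtain ⟨t, ht0, ht1⟩ : ∃ t : F, t ≠ 0 ∧ t ≠ 1 := by
      by_contra hc'
      push Not at hc'
      have _ : Fintype F := Fintype.ofFinite F
      classical
      have h3 : (Finset.univ : Finset F) ⊆ {0, 1} := by
        intro t _
        simp only [Finset.mem_insert, Finset.mem_singleton]
        by_cases h0 : t = 0
        · exact Or.inl h0
        · exact Or.inr (hc' t h0)
      have h4 := Finset.card_le_card h3
      rw [Finset.card_univ, ← Nat.card_eq_fintype_card] at h4
      have h5 := Finset.card_le_two (a := (0 : F)) (b := 1)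
      omega
    obtain ⟨v, hv, hv1⟩ := h.x_surj t
    have huD : u ∉ D := fun hd => by
      rw [← h.x_ker u hu, hu1] at hd; exact one_ne_zero hd
    have hvD : v ∉ D := fun hd => by
      rw [← h.x_ker v hv, hv1] at hd; exact ht0 hd
    have huvD : u * v ∉ D := fun hd => by
      rw [← h.x_ker _ (mul_mem hu hv), h.x_mul u hu v hv, hu1, hv1] at hd
      apply ht1
      linear_combination hd - h2
    have h5 : u ∉ X := fun hX' => huD (hc u hX' hu)
    have h6 : v ∉ X := fun hX' => hvD (hc v hX' hv)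
    have h7 := hi u (ha.Q_le false hu) v (ha.Q_le false hv) h5 h6
    exact huvD (hc _ h7 (mul_mem hu hv))
  intro d hd
  obtain ⟨b, hb, hab⟩ := h.sur c false haQ haD hd
  have hb0 : b ∈ S0 := ha.Q_le true hb
  by_cases hbX : b ∈ X
  · rw [← hab]
    exact hXY.comm a haX b hbX
  · by_cases hQX : Q₁ ≤ X
    · -- use `b' ∈ X - Q₁`
      obtain ⟨w, hwX, hwQ⟩ : ∃ w ∈ X, w ∉ Q₁ := by
        by_contra hc
        push Not at hc
        -- then `X = Q₁`, but `b * b'` for `b, b' ∈ Q₂ - D` independent gives a contradiction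
        obtain ⟨v, hv, hv1⟩ := h.y_surj 1
        obtain ⟨t, ht0, ht1⟩ : ∃ t : F, t ≠ 0 ∧ t ≠ 1 := by
          by_contra hc'
          push Not at hc'
          have _ : Fintype F := Fintype.ofFinite F
          classical
          have h3 : (Finset.univ : Finset F) ⊆ {0, 1} := by
            intro t _
            simp only [Finset.mem_insert, Finset.mem_singleton]
            by_cases h0 : t = 0
            · exact Or.inl h0
            · exact Or.inr (hc' t h0)
          have h4 := Finset.card_le_card h3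
          rw [Finset.card_univ, ← Nat.card_eq_fintype_card] at h4
          have h5 := Finset.card_le_two (a := (0 : F)) (b := 1)
          omega
        obtain ⟨w, hw, hw1⟩ := h.y_surj t
        have hyQ : ∀ u ∈ Q₂, u ∈ Q₁ → y u = 0 := fun u hu hu' =>
          (h.y_ker u hu).2 ((h.inf u).2 ⟨hu', hu⟩)
        have h5 : v ∉ X := fun hX' => by
          have := hyQ v hv (hc v hX'); rw [hv1] at this; exact one_ne_zero this
        have h6 : w ∉ X := fun hX' => by
          have := hyQ w hw (hc w hX'); rw [hw1] at this; exact ht0 this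
        have h7 := hi v (ha.Q_le true hv) w (ha.Q_le true hw) h5 h6
        have h8 := hyQ _ (mul_mem hv hw) (hc _ h7)
        rw [h.y_mul v hv w hw, hv1, hw1] at h8
        apply ht1
        linear_combination h8 - h2
      -- `w = w₁ w₂`, `w₂ ∈ Q₂ - D`
      obtain ⟨w₁, hw₁, w₂, hw₂, rfl⟩ := (c.sup w).1 (hX hwX)
      have hw₂D : w₂ ∉ D := fun hc => hwQ (mul_mem hw₁ (c.D₁ hc))
      obtain ⟨e, he, hwe⟩ := h.sur c true hw₂ hw₂D hd
      have he' : e ∈ Q₁ := he
      have h3 := hXY.comm _ hwX e (hQX he')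
      have h4 : w₁ * w₂ * e * (w₁ * w₂)⁻¹ * e⁻¹ = d := by
        have h5 : w₁ * e = e * w₁ := c.comm₁ hw₁ he'
        calc w₁ * w₂ * e * (w₁ * w₂)⁻¹ * e⁻¹ = w₁ * (w₂ * e * w₂⁻¹ * e⁻¹) * e * w₁⁻¹ * e⁻¹ := by
              group
          _ = (w₁ * d) * e * w₁⁻¹ * e⁻¹ := by rw [hwe]
          _ = d * (w₁ * e) * w₁⁻¹ * e⁻¹ := by rw [c.comm₁ hw₁ (c.D₁ hd)]; group
          _ = d := by rw [h5]; group
      rwa [h4] at h3
    · obtain ⟨e, he, heX⟩ := SetLike.not_le_iff_exists.1 hQX
      have he0 : e ∈ S0 := ha.Q_le false he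
      have h3 := hi b hb0 e he0 hbX heX
      have h4 := hXY.comm a haX _ h3
      have h5 : a * (b * e) * a⁻¹ * (b * e)⁻¹ = d := by
        have h6 : a * e = e * a := c.comm₁ haQ he
        calc a * (b * e) * a⁻¹ * (b * e)⁻¹ = a * b * (e * a⁻¹) * e⁻¹ * b⁻¹ := by group
          _ = a * b * (a⁻¹ * e) * e⁻¹ * b⁻¹ := by
              have h7 : e * a⁻¹ = a⁻¹ * e := by
                calc e * a⁻¹ = a⁻¹ * (a * e) * a⁻¹ := by group
                  _ = a⁻¹ * (e * a) * a⁻¹ := by rw [h6]
                  _ = _ := by group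
              rw [h7]
          _ = a * b * a⁻¹ * b⁻¹ := by group
          _ = d := hab
      rwa [h5] at h4

/-- Elementary sections of `S₀` for `q = 4`. -/
theorem Co3.section_S0 (h : Co3 Q₁ Q₂ D x y z) (c : Ctx S S0 D Q₁ Q₂) (h2 : IsPGroup 2 S)
    (ha : Amb S S0 D (pr Q₁ Q₂)) (hF : Nat.card F = 4) {X Y : Subgroup G} (hX : X ≤ S0)
    (hXY : ElemSection 2 X Y) : Nat.card X ≤ 8 * Nat.card Y ∨
      (∃ i, X = pr Q₁ Q₂ i ∧ Nat.card Y = 1) ∨ (X = S0 ∧ Nat.card Y = 4 ∧ D ≤ Y) := by
  have hcD : Nat.card D = 4 := by rw [h.card_D, hF]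
  have hcQ : ∀ i, Nat.card (pr Q₁ Q₂ i : Subgroup G) = 16 := by
    rintro (_ | _)
    · show Nat.card Q₁ = 16
      rw [Ctx.card_eq c.D₁ h.hx, hF, hcD]
    · show Nat.card Q₂ = 16
      rw [Ctx.card_eq c.D₂ h.hy, hF, hcD]
  have hc0 : Nat.card S0 ≤ 64 := by
    have := h.card_S0 c
    rw [hF, show Nat.card Q₁ = 16 from hcQ false] at this
    exact this
  have hrel := relIndex_mul hX
  have hX2 : IsPGroup 2 X := h2.to_le (hX.trans c.le0)
  by_cases hi : X.relIndex S0 ≤ 2
  · -- index at most two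
    have hD : D ≤ Y := by
      refine h.D_le_of_index c ha hX ?_ (by omega) hXY
      intro a ha0 b hb0 haX hbX
      have h3 : X.relIndex S0 ≠ 1 := fun hc => haX ((Subgroup.relIndex_eq_one.1 hc) ha0)
      have h4 : X.relIndex S0 = 2 := by
        have := relIndex_ne_zero' X S0
        omega
      rw [Subgroup.relIndex] at h4
      have h9 := (Subgroup.mul_mem_iff_of_index_two h4 (a := ⟨a, ha0⟩) (b := ⟨b, hb0⟩)).2 (by
        rw [Subgroup.mem_subgroupOf, Subgroup.mem_subgroupOf]
        exact iff_of_false haX hbX)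
      exact Subgroup.mem_subgroupOf.1 h9
    have hcY : 4 ≤ Nat.card Y := by
      rw [← hcD]
      exact Subgroup.card_le_of_le hD
    have h3 := relIndex_ne_zero' X S0
    have h4 : X.relIndex S0 = 1 ∨ X.relIndex S0 = 2 := by omega
    rcases h4 with h4 | h4
    · have hXS : X = S0 := le_antisymm hX (Subgroup.relIndex_eq_one.1 h4)
      by_cases h5 : Nat.card Y = 4
      · exact Or.inr (Or.inr ⟨hXS, h5, hD⟩)
      · left
        -- `card Y` is a power of two
        obtain ⟨n, hn⟩ := (hX2.to_le hXY.le).exists_card_eq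
        rw [hn] at hcY h5 ⊢
        have h6 : 3 ≤ n := by
          by_contra hlt
          have : n = 0 ∨ n = 1 ∨ n = 2 := by omega
          rcases this with rfl | rfl | rfl <;> simp at hcY h5
        have h7 : 2 ^ 3 ≤ 2 ^ n := Nat.pow_le_pow_right (by norm_num) h6
        rw [hXS]
        omega
    · left
      rw [h4] at hrel
      omega
  · push Not at hi
    -- `card X ≤ 16`
    have h3 : Nat.card X ≤ 16 := by
      obtain ⟨n, hn⟩ := hX2.exists_card_eq
      rw [hn] at hrel ⊢
      have h4 : 3 * 2 ^ n ≤ 64 := by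
        calc 3 * 2 ^ n ≤ X.relIndex S0 * 2 ^ n := Nat.mul_le_mul_right _ hi
          _ ≤ 64 := by rw [hrel]; exact hc0
      have h5 : n ≤ 4 := by
        by_contra hlt
        have h6 : 2 ^ 5 ≤ 2 ^ n := Nat.pow_le_pow_right (by norm_num) (by omega)
        omega
      calc 2 ^ n ≤ 2 ^ 4 := Nat.pow_le_pow_right (by norm_num) h5
        _ = 16 := by norm_num
    by_cases h4 : Nat.card Y = 1
    · have hY : Y = ⊥ := Subgroup.card_eq_one.1 h4
      obtain ⟨j, hj⟩ := ha.le_or hX (fun a haX => by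
        have := hXY.pow a haX
        rw [hY, Subgroup.mem_bot, pow_two] at this
        exact this)
      by_cases h5 : Nat.card X = 16
      · right; left
        exact ⟨j, Subgroup.eq_of_le_of_card_ge hj (by rw [hcQ, h5]), h4⟩
      · left
        obtain ⟨n, hn⟩ := hX2.exists_card_eq
        rw [hn] at h3 h5 ⊢
        have h6 : n ≤ 3 := by
          by_contra hlt
          have h7 : n ≤ 4 := by
            by_contra hlt'
            have h6 : 2 ^ 5 ≤ 2 ^ n := Nat.pow_le_pow_right (by norm_num) (by omega)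
            omega
          have h8 : n = 4 := by omega
          rw [h8] at h5
          norm_num at h5
        have h7 : 2 ^ n ≤ 2 ^ 3 := Nat.pow_le_pow_right (by norm_num) h6
        rw [h4]
        omega
    · left
      have h5 : Nat.card Y ≠ 0 := Nat.card_pos.ne'
      omega

/-- **Type `L₃(4)`**: the sectional 2-rank of `G` is at most 4. -/
theorem Co3.rank_four (S : Sylow 2 G) (h : Co3 Q₁ Q₂ D x y z)
    (c : Ctx (S : Subgroup G) S0 D Q₁ Q₂) (hF : Nat.card F = 4) :
    Cfsg.SectionalPRankLE 2 4 G := by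
  have _ := h.charP
  have ha := h.amb c S.isPGroup'
  have hsq : ∀ s ∈ (S : Subgroup G), s * s ∈ S0 := by
    intro s hs
    obtain ⟨σ, k, l, h3, -, -⟩ := h.exists_sl c hs
    have h4 := SL.mul (c.n₁ s hs) h3 h3
    have h5 : σ.comp σ = RingHom.id F := RingHom.ext (sq_of_card_four hF σ)
    rw [h5] at h4
    exact c.mem_of_SL S.isPGroup' h.hx (mul_mem hs hs) h4
  rw [sectionalPRankLE_iff]
  intro X Y hXY
  obtain ⟨X', Y', hX', hsec, hc⟩ := exists_sylow_section S hXY
  have key : Nat.card X' ≤ 16 * Nat.card Y' := by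
    by_cases hX0 : X' ≤ S0
    · rcases h.section_S0 c S.isPGroup' ha hF hX0 hsec with h1 | ⟨i, h1, h2⟩ | ⟨h1, h2, -⟩
      · omega
      · have h3 : Nat.card (pr Q₁ Q₂ i : Subgroup G) = 16 := by
          cases i
          · show Nat.card Q₁ = 16
            rw [Ctx.card_eq c.D₁ h.hx, hF, h.card_D, hF]
          · show Nat.card Q₂ = 16
            rw [Ctx.card_eq c.D₂ h.hy, hF, h.card_D, hF]
        rw [h1, h3, h2]
      · have h3 := h.card_S0 c
        rw [hF, Ctx.card_eq c.D₁ h.hx, hF, h.card_D, hF] at h3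
        rw [h1, h2]
        omega
    · obtain ⟨f, hfX, hf0⟩ := SetLike.not_le_iff_exists.1 hX0
      have hfS := hX' hfX
      have hfF : Amb.Fld (S : Subgroup G) S0 f := ⟨hfS, hsq f hfS, hf0⟩
      -- index two
      have hidx : ∀ {Z : Subgroup G}, Z ≤ (S : Subgroup G) → ∀ g ∈ Z, g ∉ S0 →
          Nat.card Z = 2 * Nat.card (Z ⊓ S0 : Subgroup G) := by
        intro Z hZ g hg hg0
        have h1 : (Z ⊓ S0).relIndex Z = 2 := by
          rw [Subgroup.relIndex, Subgroup.index_eq_two_iff]
          refine ⟨⟨g, hg⟩, fun b => ?_⟩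
          by_cases hb : (b : G) ∈ S0
          · right
            refine ⟨Subgroup.mem_subgroupOf.2 (Subgroup.mem_inf.2 ⟨b.2, hb⟩), fun hc => ?_⟩
            exact hg0 ((S0.mul_mem_cancel_left hb).1 (Subgroup.mem_inf.1
              (Subgroup.mem_subgroupOf.1 hc)).2)
          · left
            refine ⟨Subgroup.mem_subgroupOf.2 (Subgroup.mem_inf.2 ⟨mul_mem b.2 hg,
              ha.cyc _ (hZ b.2) _ (hZ hg) (hsq _ (hZ b.2)) (hsq _ (hZ hg)) hb hg0⟩), fun hc => ?_⟩
            exact hb (Subgroup.mem_inf.1 (Subgroup.mem_subgroupOf.1 hc)).2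
        have h2 := relIndex_mul (inf_le_left : Z ⊓ S0 ≤ Z)
        rw [h1] at h2
        exact h2.symm
      have hX2 := hidx hX' f hfX hf0
      have hsec0 := hsec.inf S0
      rcases h.section_S0 c S.isPGroup' ha hF inf_le_right hsec0 with h1 | ⟨i, h1, h2⟩ | ⟨h1, h2, h2'⟩
      · have h3 : Nat.card (Y' ⊓ S0 : Subgroup G) ≤ Nat.card Y' :=
          Subgroup.card_le_of_le inf_le_left
        omega
      · -- `X ∩ S₀ = Q_i`, `Y ∩ S₀ = 1`
        have h3 : Nat.card (pr Q₁ Q₂ i : Subgroup G) = 16 := by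
          cases i
          · show Nat.card Q₁ = 16
            rw [Ctx.card_eq c.D₁ h.hx, hF, h.card_D, hF]
          · show Nat.card Q₂ = 16
            rw [Ctx.card_eq c.D₂ h.hy, hF, h.card_D, hF]
        by_cases hY : Nat.card Y' = 1
        · exfalso
          have hY' : Y' = ⊥ := Subgroup.card_eq_one.1 hY
          obtain ⟨d, hd, hfd⟩ := ha.exists_moveD hfF
          apply hfd
          have hdX : d ∈ X' := by
            have : d ∈ X' ⊓ S0 := by rw [h1]; exact ha.D_le i hd
            exact (Subgroup.mem_inf.1 this).1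
          have := hsec.comm f hfX d hdX
          rw [hY', Subgroup.mem_bot, mul_inv_eq_one] at this
          exact this
        · have h4 : Nat.card Y' ≠ 0 := Nat.card_pos.ne'
          rw [h1, h3] at hX2
          omega
      · -- `X ∩ S₀ = S₀`, `Y ∩ S₀ = D`
        have h3 := h.card_S0 c
        rw [hF, Ctx.card_eq c.D₁ h.hx, hF, h.card_D, hF] at h3
        have h4 : Nat.card (Y' ⊓ S0 : Subgroup G) ≤ Nat.card Y' :=
          Subgroup.card_le_of_le inf_le_left
        by_cases hY : Nat.card Y' = 4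
        · exfalso
          have h5 : Y' ⊓ S0 = Y' := Subgroup.eq_of_le_of_card_ge inf_le_left (by rw [hY, h2])
          have h6 : D = Y' := by
            rw [← h5]
            exact Subgroup.eq_of_le_of_card_ge h2' (by rw [h2, h.card_D, hF])
          obtain ⟨a, haQ, hfa⟩ := ha.exists_move hfF false
          apply hfa
          have haX : a ∈ X' := by
            have : a ∈ X' ⊓ S0 := by rw [h1]; exact ha.Q_le false haQ
            exact (Subgroup.mem_inf.1 this).1
          have := hsec.comm f hfX a haX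
          rw [← h6, ha.inv_eq haQ] at this
          exact this
        · have h5 : Nat.card X' ≤ 128 := by
            rw [h1] at hX2
            omega
          -- `card Y'` is a power of two `≥ 8`
          obtain ⟨n, hn⟩ := (S.isPGroup'.to_le (hsec.le.trans hX')).exists_card_eq
          have h6 : 3 ≤ n := by
            by_contra hlt
            have h8 : 2 ^ n ≤ 2 ^ 2 := Nat.pow_le_pow_right (by norm_num) (by omega)
            rw [← hn] at h8
            omega
          have h7 : 2 ^ 3 ≤ 2 ^ n := Nat.pow_le_pow_right (by norm_num) h6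
          rw [← hn] at h7
          omega
  have h4 : Nat.card X * Nat.card Y' ≤ (2 ^ 4 * Nat.card Y) * Nat.card Y' := by
    rw [hc]
    calc Nat.card X' * Nat.card Y ≤ (16 * Nat.card Y') * Nat.card Y :=
          Nat.mul_le_mul_right _ key
      _ = (2 ^ 4 * Nat.card Y) * Nat.card Y' := by ring
  exact Nat.le_of_mul_le_mul_right h4 Nat.card_pos

end Cfsg.Agent.Omega.CloseA
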