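import Mathlib

/-!
# Normal forms with four parameters

`NForm H n`: `H = n(F⁴)`, `n` injective with the multiplication of a Sylow 2-subgroup of `Sp₄(F)`.
`NForm.equiv`: two such groups are isomorphic.
`sect`: additive sections of maps from elementary abelian 2-groups.
-/

set_option autoImplicit false

namespace Cfsg.Agent.Omega.CloseA.IdFour

/-- `H` is the set of all `n a p b q`, with the multiplication of a Sylow 2-subgroup of `Sp₄(F)`. -/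
structure NForm {G : Type*} [Group G] {F : Type*} [Field F] (H : Subgroup G) (n : F → F → F → F → G) :
    Prop where
  mem : ∀ a p b q, n a p b q ∈ H
  ex : ∀ g ∈ H, ∃ a p b q, g = n a p b q
  inj : ∀ a p b q a' p' b' q', n a p b q = n a' p' b' q' → a = a' ∧ p = p' ∧ b = b' ∧ q = q'
  mul : ∀ a p b q a' p' b' q',
    n a p b q * n a' p' b' q' = n (a + a') (p + a' * a' * q + p') (b + a' * q + b') (q + q')

/-- Two groups with these normal forms are isomorphic. -/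
theorem NForm.equiv {G K : Type*} [Group G] [Group K] {F : Type*} [Field F] {H : Subgroup G}
    {H' : Subgroup K} {n : F → F → F → F → G} {n' : F → F → F → F → K} (h : NForm H n)
    (h' : NForm H' n') : Nonempty (↥H ≃* ↥H') := by
  choose! a p b q e using h.ex
  have ha : ∀ a₀ p₀ b₀ q₀, a (n a₀ p₀ b₀ q₀) = a₀ ∧ p (n a₀ p₀ b₀ q₀) = p₀ ∧
      b (n a₀ p₀ b₀ q₀) = b₀ ∧ q (n a₀ p₀ b₀ q₀) = q₀ := by
    intro a₀ p₀ b₀ q₀
    obtain ⟨h1, h2, h3, h4⟩ := h.inj _ _ _ _ _ _ _ _ (e _ (h.mem a₀ p₀ b₀ q₀))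
    exact ⟨h1.symm, h2.symm, h3.symm, h4.symm⟩
  let f : ↥H →* ↥H' := MonoidHom.mk' (fun g => ⟨n' (a g) (p g) (b g) (q g), h'.mem _ _ _ _⟩) (by
    rintro ⟨g, hg⟩ ⟨k, hk⟩
    apply Subtype.ext
    obtain ⟨a₀, p₀, b₀, q₀, rfl⟩ := h.ex g hg
    obtain ⟨a₁, p₁, b₁, q₁, rfl⟩ := h.ex k hk
    change n' (a (n a₀ p₀ b₀ q₀ * n a₁ p₁ b₁ q₁)) (p (n a₀ p₀ b₀ q₀ * n a₁ p₁ b₁ q₁))
      (b (n a₀ p₀ b₀ q₀ * n a₁ p₁ b₁ q₁)) (q (n a₀ p₀ b₀ q₀ * n a₁ p₁ b₁ q₁)) =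
      n' (a (n a₀ p₀ b₀ q₀)) (p (n a₀ p₀ b₀ q₀)) (b (n a₀ p₀ b₀ q₀)) (q (n a₀ p₀ b₀ q₀)) *
      n' (a (n a₁ p₁ b₁ q₁)) (p (n a₁ p₁ b₁ q₁)) (b (n a₁ p₁ b₁ q₁)) (q (n a₁ p₁ b₁ q₁))
    rw [h.mul]
    obtain ⟨h1, h2, h3, h4⟩ := ha a₀ p₀ b₀ q₀
    obtain ⟨k1, k2, k3, k4⟩ := ha a₁ p₁ b₁ q₁
    obtain ⟨m1, m2, m3, m4⟩ := ha (a₀ + a₁) (p₀ + a₁ * a₁ * q₀ + p₁) (b₀ + a₁ * q₀ + b₁) (q₀ + q₁)
    rw [h1, h2, h3, h4, k1, k2, k3, k4, m1, m2, m3, m4, h'.mul])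
  refine ⟨MulEquiv.ofBijective f ⟨?_, ?_⟩⟩
  · rintro ⟨g, hg⟩ ⟨k, hk⟩ hgk
    apply Subtype.ext
    have h1 : n' (a g) (p g) (b g) (q g) = n' (a k) (p k) (b k) (q k) := congrArg Subtype.val hgk
    obtain ⟨h2, h3, h4, h5⟩ := h'.inj _ _ _ _ _ _ _ _ h1
    change g = k
    rw [e g hg, e k hk, h2, h3, h4, h5]
  · rintro ⟨k, hk⟩
    obtain ⟨a₀, p₀, b₀, q₀, rfl⟩ := h'.ex k hk
    refine ⟨⟨n a₀ p₀ b₀ q₀, h.mem _ _ _ _⟩, Subtype.ext ?_⟩
    obtain ⟨h1, h2, h3, h4⟩ := ha a₀ p₀ b₀ q₀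
    change n' (a (n a₀ p₀ b₀ q₀)) (p (n a₀ p₀ b₀ q₀)) (b (n a₀ p₀ b₀ q₀)) (q (n a₀ p₀ b₀ q₀)) = _
    rw [h1, h2, h3, h4]

/-- Additive maps from an elementary abelian 2-group onto a field of characteristic 2 split. -/
theorem sect {G : Type*} [Group G] {F : Type*} [Field F] [CharP F 2] {Q : Subgroup G} {x : G → F}
    (sq : ∀ u ∈ Q, u * u = 1) (x_mul : ∀ u ∈ Q, ∀ v ∈ Q, x (u * v) = x u + x v)
    (x_surj : ∀ a, ∃ u ∈ Q, x u = a) :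
    ∃ s : F → G, (∀ a, s a ∈ Q) ∧ (∀ a, x (s a) = a) ∧ ∀ a b, s (a + b) = s a * s b := by
  have hcomm : ∀ u v : ↥Q, u * v = v * u := by
    intro u v
    have h1 : u * v * (u * v) = 1 := Subtype.ext (sq _ (mul_mem u.2 v.2))
    have h2 : u⁻¹ = u := inv_eq_of_mul_eq_one_left (Subtype.ext (sq _ u.2))
    have h3 : v⁻¹ = v := inv_eq_of_mul_eq_one_left (Subtype.ext (sq _ v.2))
    have h4 : u * v = (u * v)⁻¹ := eq_inv_of_mul_eq_one_left h1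
    rw [h4, mul_inv_rev, h2, h3]
  let _ : CommGroup ↥Q := { (inferInstance : Group ↥Q) with mul_comm := hcomm }
  let _ : Module (ZMod 2) (Additive ↥Q) := AddCommGroup.zmodModule (fun u => by
    rw [two_nsmul]
    exact Subtype.ext (sq _ (Additive.toMul u).2))
  let _ : Module (ZMod 2) F := AddCommGroup.zmodModule (fun u => by
    rw [two_nsmul]
    exact CharTwo.add_self_eq_zero u)
  let f : Additive ↥Q →+ F := AddMonoidHom.mk' (fun u => x (Additive.toMul u).1)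
    (fun u v => x_mul _ (Additive.toMul u).2 _ (Additive.toMul v).2)
  have hf : Function.Surjective (f.toZModLinearMap 2) := by
    intro a
    obtain ⟨u, hu, e⟩ := x_surj a
    exact ⟨Additive.ofMul ⟨u, hu⟩, e⟩
  obtain ⟨g, hg⟩ := (f.toZModLinearMap 2).exists_rightInverse_of_surjective
    (LinearMap.range_eq_top.2 hf)
  refine ⟨fun a => (Additive.toMul (g a)).1, fun a => (Additive.toMul (g a)).2, fun a => ?_,
    fun a b => ?_⟩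
  · exact LinearMap.congr_fun hg a
  · change (Additive.toMul (g (a + b))).1 = _
    rw [map_add]
    rfl

end Cfsg.Agent.Omega.CloseA.IdFour
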