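import Cfsg.Agent.Omega.CloseA.Coord
import Cfsg.Agent.Omega.CloseA.NForm
import Cfsg.Agent.StdRank2.B2Torus

/-!
# `Co4 ⟹ Q₁Q₂` is isomorphic to a Sylow 2-subgroup of `PSp₄(F)`

`nform`: the normal forms `s(a) d(b, p) t(q)` of `Q₁Q₂`.
`nform_std`: the normal forms of the positive part of a package of type `Sp₄(F)`.
`exists_sylow`: the isomorphism, `|F| > 2`.
-/

set_option autoImplicit false

namespace Cfsg.Agent.Omega.CloseA.IdFour

open Cfsg.Agent.Omega.CloseA

/-- The normal forms in `Q₁Q₂`. -/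
theorem nform {G : Type*} [Group G] {F : Type*} [Field F] [CharP F 2] {Q₁ Q₂ D C₁ C₂ : Subgroup G}
    {x y z z' : G → F} (h : Co4 Q₁ Q₂ D C₁ C₂ x y z z') :
    ∃ n : F → F → F → F → G, NForm (Q₁ ⊔ Q₂) n := by
  obtain ⟨s, s_mem, x_s, s_add⟩ := sect h.sq₁ h.x_mul h.x_surj
  obtain ⟨t, t_mem, y_t, t_add⟩ := sect h.sq₂ h.y_mul h.y_surj
  choose d d_mem z_d z'_d using h.z_surj
  have D₁ : ∀ {u}, u ∈ D → u ∈ Q₁ := fun hu => ((h.inf _).1 hu).1
  have D₂ : ∀ {u}, u ∈ D → u ∈ Q₂ := fun hu => ((h.inf _).1 hu).2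
  have comm : ∀ {Q : Subgroup G}, (∀ u ∈ Q, u * u = 1) → ∀ u ∈ Q, ∀ v ∈ Q, u * v = v * u := by
    intro Q sq u hu v hv
    have h1 := sq _ (mul_mem hu hv)
    have h2 : u⁻¹ = u := inv_eq_of_mul_eq_one_left (sq u hu)
    have h3 : v⁻¹ = v := inv_eq_of_mul_eq_one_left (sq v hv)
    have h4 : u * v = (u * v)⁻¹ := eq_inv_of_mul_eq_one_left h1
    rw [h4, mul_inv_rev, h2, h3]
  have z_one : z 1 = 0 := by
    have := h.z_mul 1 (one_mem _) 1 (one_mem _)
    rw [mul_one] at this
    exact left_eq_add.1 this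
  have z'_one : z' 1 = 0 := by
    have := h.z'_mul 1 (one_mem _) 1 (one_mem _)
    rw [mul_one] at this
    exact left_eq_add.1 this
  have sqD : ∀ u ∈ D, u * u = 1 := fun u hu => h.sq₁ u (D₁ hu)
  have D_eq : ∀ u ∈ D, ∀ v ∈ D, z u = z v → z' u = z' v → u = v := by
    intro u hu v hv e e'
    have h1 : u * v = 1 := by
      apply h.z_inj _ (mul_mem hu hv)
      · rw [h.z_mul u hu v hv, e, CharTwo.add_self_eq_zero]
      · rw [h.z'_mul u hu v hv, e', CharTwo.add_self_eq_zero]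
    rw [eq_inv_of_mul_eq_one_left h1]
    exact inv_eq_of_mul_eq_one_left (sqD v hv)
  have d_add : ∀ a a' b b', d (a + b) (a' + b') = d a a' * d b b' := by
    intro a a' b b'
    apply D_eq _ (d_mem _ _) _ (mul_mem (d_mem _ _) (d_mem _ _))
    · rw [z_d, h.z_mul _ (d_mem _ _) _ (d_mem _ _), z_d, z_d]
    · rw [z'_d, h.z'_mul _ (d_mem _ _) _ (d_mem _ _), z'_d, z'_d]
  have eq_d : ∀ u ∈ D, u = d (z u) (z' u) := fun u hu =>
    D_eq _ hu _ (d_mem _ _) (z_d _ _).symm (z'_d _ _).symm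
  have d_s : ∀ a b c, d a b * s c = s c * d a b := fun a b c =>
    comm h.sq₁ _ (D₁ (d_mem _ _)) _ (s_mem _)
  have d_t : ∀ a b c, d a b * t c = t c * d a b := fun a b c =>
    comm h.sq₂ _ (D₂ (d_mem _ _)) _ (t_mem _)
  have d_d : ∀ a b a' b', d a b * d a' b' = d a' b' * d a b := fun a b a' b' =>
    comm h.sq₂ _ (D₂ (d_mem _ _)) _ (D₂ (d_mem _ _))
  -- `t q * s a = s a * t q * d`
  have t_s : ∀ a q, t q * s a = s a * d (a * q) (a * a * q) * t q := by
    intro a q
    have h1 := h.mem _ (s_mem a) _ (t_mem q)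
    have h2 := h.com _ (s_mem a) _ (t_mem q)
    have h3 := h.com' _ (s_mem a) _ (t_mem q)
    rw [x_s, y_t] at h2 h3
    have h4 : s a * t q * (s a)⁻¹ * (t q)⁻¹ = d (a * q) (a * a * q) :=
      D_eq _ h1 _ (d_mem _ _) (h2.trans (z_d _ _).symm) (h3.trans (z'_d _ _).symm)
    have h5 : d (a * q) (a * a * q) * d (a * q) (a * a * q) = 1 := sqD _ (d_mem _ _)
    have h6 : s a * t q = d (a * q) (a * a * q) * (t q * s a) := by rw [← h4]; group
    calc t q * s a = d (a * q) (a * a * q) * d (a * q) (a * a * q) * (t q * s a) := by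
          rw [h5, one_mul]
      _ = d (a * q) (a * a * q) * (d (a * q) (a * a * q) * (t q * s a)) := by group
      _ = d (a * q) (a * a * q) * s a * t q := by rw [← h6]; group
      _ = _ := by rw [d_s]
  have s_zero : s 0 = 1 := by
    have := s_add 0 0
    rw [add_zero] at this
    exact left_eq_mul.1 this
  have t_zero : t 0 = 1 := by
    have := t_add 0 0
    rw [add_zero] at this
    exact left_eq_mul.1 this
  have d_zero : d 0 0 = 1 := by
    have := d_add 0 0 0 0
    rw [add_zero] at this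
    exact left_eq_mul.1 this
  have Q₁_eq : ∀ u ∈ Q₁, u = s (x u) * d (z ((s (x u))⁻¹ * u)) (z' ((s (x u))⁻¹ * u)) := by
    intro u hu
    have h1 : (s (x u))⁻¹ * u ∈ D := by
      rw [← h.x_ker _ (mul_mem (inv_mem (s_mem _)) hu)]
      have h2 : (s (x u))⁻¹ = s (x u) := inv_eq_of_mul_eq_one_left (h.sq₁ _ (s_mem _))
      rw [h2, h.x_mul _ (s_mem _) _ hu, x_s, CharTwo.add_self_eq_zero]
    rw [← eq_d _ h1]
    group
  have Q₂_eq : ∀ u ∈ Q₂, u = d (z (u * (t (y u))⁻¹)) (z' (u * (t (y u))⁻¹)) * t (y u) := by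
    intro u hu
    have h1 : u * (t (y u))⁻¹ ∈ D := by
      rw [← h.y_ker _ (mul_mem hu (inv_mem (t_mem _)))]
      have h2 : (t (y u))⁻¹ = t (y u) := inv_eq_of_mul_eq_one_left (h.sq₂ _ (t_mem _))
      rw [h2, h.y_mul _ hu _ (t_mem _), y_t, CharTwo.add_self_eq_zero]
    rw [← eq_d _ h1]
    group
  have mul : ∀ a p b q a' p' b' q',
      (s a * d b p * t q) * (s a' * d b' p' * t q') =
      s (a + a') * d (b + a' * q + b') (p + a' * a' * q + p') * t (q + q') := by
    intro a p b q a' p' b' q'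
    calc (s a * d b p * t q) * (s a' * d b' p' * t q')
        = s a * d b p * (t q * s a') * d b' p' * t q' := by group
      _ = s a * d b p * (s a' * d (a' * q) (a' * a' * q) * t q) * d b' p' * t q' := by rw [t_s]
      _ = s a * (d b p * s a') * d (a' * q) (a' * a' * q) * (t q * d b' p') * t q' := by group
      _ = s a * (s a' * d b p) * d (a' * q) (a' * a' * q) * (d b' p' * t q) * t q' := by
        rw [d_s, ← d_t]
      _ = (s a * s a') * (d b p * d (a' * q) (a' * a' * q) * d b' p') * (t q * t q') := by group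
      _ = _ := by rw [← s_add, ← t_add, ← d_add, ← d_add]
  have inj : ∀ a p b q, s a * d b p * t q = 1 → a = 0 ∧ p = 0 ∧ b = 0 ∧ q = 0 := by
    intro a p b q e
    have h1 : s a * d b p = (t q)⁻¹ := eq_inv_of_mul_eq_one_left e
    have h2 : s a * d b p ∈ D := by
      rw [h.inf]
      exact ⟨mul_mem (s_mem _) (D₁ (d_mem _ _)), h1 ▸ inv_mem (t_mem _)⟩
    have h3 : s a ∈ D := by
      have := mul_mem h2 (inv_mem (d_mem b p))
      rwa [mul_inv_cancel_right] at this
    have h4 : a = 0 := by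
      rw [← x_s a]
      exact (h.x_ker _ (s_mem _)).2 h3
    have h5 : t q ∈ D := by
      rw [h1] at h2
      exact inv_mem_iff.1 h2
    have h6 : q = 0 := by
      rw [← y_t q]
      exact (h.y_ker _ (t_mem _)).2 h5
    subst h4 h6
    rw [s_zero, t_zero, one_mul, mul_one] at e
    refine ⟨rfl, ?_, ?_, rfl⟩
    · rw [← z'_d b p, e, z'_one]
    · rw [← z_d b p, e, z_one]
  refine ⟨fun a p b q => s a * d b p * t q, fun a p b q => ?_, fun g hg => ?_, ?_, fun a p b q a' p' b' q' =>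
    mul a p b q a' p' b' q'⟩
  · exact mul_mem (mul_mem (Subgroup.mem_sup_left (s_mem _)) (Subgroup.mem_sup_left (D₁ (d_mem _ _))))
      (Subgroup.mem_sup_right (t_mem _))
  · rw [Subgroup.sup_eq_closure] at hg
    refine Subgroup.closure_induction_right
      (p := fun u _ => ∃ a p b q, u = s a * d b p * t q) ⟨0, 0, 0, 0, by simp [s_zero, t_zero, d_zero]⟩
      ?_ ?_ hg
    · rintro _ _ u hu ⟨a, p, b, q, rfl⟩
      rcases hu with hu | hu
      · rw [Q₁_eq u hu]
        have := mul a p b q (x u) (z' ((s (x u))⁻¹ * u)) (z ((s (x u))⁻¹ * u)) 0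
        rw [t_zero, mul_one] at this
        exact ⟨_, _, _, _, this⟩
      · rw [Q₂_eq u hu]
        have := mul a p b q 0 (z' (u * (t (y u))⁻¹)) (z (u * (t (y u))⁻¹)) (y u)
        rw [s_zero, one_mul] at this
        exact ⟨_, _, _, _, this⟩
    · rintro _ _ u hu ⟨a, p, b, q, rfl⟩
      rcases hu with hu | hu
      · have hu' : u⁻¹ ∈ Q₁ := inv_mem hu
        rw [Q₁_eq u⁻¹ hu']
        have := mul a p b q (x u⁻¹) (z' ((s (x u⁻¹))⁻¹ * u⁻¹)) (z ((s (x u⁻¹))⁻¹ * u⁻¹)) 0
        rw [t_zero, mul_one] at this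
        exact ⟨_, _, _, _, this⟩
      · have hu' : u⁻¹ ∈ Q₂ := inv_mem hu
        rw [Q₂_eq u⁻¹ hu']
        have := mul a p b q 0 (z' (u⁻¹ * (t (y u⁻¹))⁻¹)) (z (u⁻¹ * (t (y u⁻¹))⁻¹)) (y u⁻¹)
        rw [s_zero, one_mul] at this
        exact ⟨_, _, _, _, this⟩
  · intro a p b q a' p' b' q' e
    -- multiply by the inverse of the second
    have h1 := mul a' p' b' q' a' (p' + a' * a' * q') (b' + a' * q') q'
    have h2 := mul a p b q a' (p' + a' * a' * q') (b' + a' * q') q'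
    change s a * d b p * t q = s a' * d b' p' * t q' at e
    rw [e, h1] at h2
    have e1 : a' + a' = 0 := CharTwo.add_self_eq_zero a'
    have e2 : b' + a' * q' + (b' + a' * q') = 0 := CharTwo.add_self_eq_zero _
    have e3 : p' + a' * a' * q' + (p' + a' * a' * q') = 0 := CharTwo.add_self_eq_zero _
    have e4 : q' + q' = 0 := CharTwo.add_self_eq_zero q'
    rw [e1, e2, e3, e4, s_zero, t_zero, d_zero, one_mul, mul_one] at h2
    obtain ⟨k1, k2, k3, k4⟩ := inj _ _ _ _ h2.symm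
    have hc : (2 : F) = 0 := CharTwo.two_eq_zero
    have r1 : a = a' := by linear_combination k1 - a' * hc
    have r4 : q = q' := by linear_combination k4 - q' * hc
    subst r1 r4
    refine ⟨rfl, ?_, ?_, rfl⟩
    · linear_combination k2 - (p' + a * a * q) * hc
    · linear_combination k3 - (b' + a * q) * hc

section std

open Cfsg.Agent.TitsThree.B2Pkg Cfsg.Agent.TitsThree.StdData Cfsg.Agent.StdRank2.B2Std

variable {F : Type*} [Field F]

/-- the element of the parameter group -/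
def tt (c : F) : (stdSp F).T := ⟨(), c, trivial⟩

theorem tt_mul (a b : F) : tt a * tt b = tt (a + b) := by
  ext
  change a + b - 0 = a + b; ring

theorem tr_eq [CharP F 2] (a b : F) : (stdSp F).tr a b = 1 := by
  have h2 : (2 : F) = 0 := CharTwo.two_eq_zero
  ext
  change a * b - (-1) * a * b = 0
  linear_combination a * b * h2

/-- The normal forms of the positive part. -/
theorem nform_std {A : Type*} [Group A] [Finite F] [CharP F 2] (S : Std (stdSp F) A) :
    NForm S.U fun a p b q => nf S.m a (tt p) b (tt q) := by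
  have hc2 : (2 : F) = 0 := CharTwo.two_eq_zero
  refine ⟨fun a p b q => nf_mem _ _ _ _, fun g hg => ?_, fun a p b q a' p' b' q' e => ?_,
    fun a p b q a' p' b' q' => ?_⟩
  · obtain ⟨a, p, b, q, rfl⟩ := exists_nf S.rel hg
    exact ⟨a, p.c, b, q.c, rfl⟩
  · obtain ⟨h1, h2, h3, h4⟩ := S.nf_inj e
    exact ⟨h1, congrArg PQDatum.T.c h2, h3, congrArg PQDatum.T.c h4⟩
  · have h1 : (stdSp F).sc (-a') (tt q) = tt (a' * a' * q) := by
      ext
      change -a' * -a' * q = a' * a' * q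
      ring
    rw [mul_nf S.rel, tr_eq, inv_one, mul_one, h1, tt_mul, tt_mul, tt_mul]
    congr 1
    change b + (-1) * a' * q + 0 + b' = b + a' * q + b'
    linear_combination -(a' * q) * hc2

end std

open Cfsg.Agent.TitsThree.StdData Cfsg.Agent.StdRank2.B2Std in
/-- **`Q₁Q₂` is isomorphic to a Sylow 2-subgroup of `PSp₄(F)`.** -/
theorem exists_sylow {G : Type*} [Group G] {F : Type*} [Field F] [Finite F] [CharP F 2]
    (hF : 3 ≤ Nat.card F) {Q₁ Q₂ D C₁ C₂ : Subgroup G} {x y z z' : G → F}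
    (h : Co4 Q₁ Q₂ D C₁ C₂ x y z z') :
    ∃ P : Sylow 2 (Cfsg.PSp 2 F),
      Nonempty (↥(Q₁ ⊔ Q₂) ≃* ↥(P : Subgroup (Cfsg.PSp 2 F))) := by
  have := Fintype.ofFinite F
  have hs : IsSimpleGroup (Cfsg.PSp 2 F) :=
    Cfsg.Agent.S0270.result 2 le_rfl (fun _ => by rw [← Nat.card_eq_fintype_card]; exact hF)
  obtain ⟨S⟩ := Cfsg.Agent.StdRank2.B2Inst.exists_std_Sp hF
  have : Finite (stdSp F).T := Finite.of_injective (fun p => p.c) (fun p q h => by
    ext
    exact h)
  have hZ : Odd (Nat.card (Subgroup.center (Cfsg.PSp 2 F))) := by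
    have h1 : Subgroup.center (Cfsg.PSp 2 F) = ⊥ := by
      rcases (inferInstance : (Subgroup.center (Cfsg.PSp 2 F)).Normal).eq_bot_or_eq_top with h1 | h1
      · exact h1
      · exfalso
        have h2 := (nform_std S).mul 1 0 0 0 0 0 0 1
        have h3 := (nform_std S).mul 0 0 0 1 1 0 0 0
        have h4 : nf S.m 1 (tt 0) 0 (tt 0) ∈ Subgroup.center (Cfsg.PSp 2 F) := by
          rw [h1]
          exact Subgroup.mem_top _
        have h5 := Subgroup.mem_center_iff.1 h4 (nf S.m 0 (tt 0) 0 (tt 1))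
        have h6 := (nform_std S).inj _ _ _ _ _ _ _ _ (h2.symm.trans (h5.symm.trans h3))
        have h7 := h6.2.1
        simp at h7
    rw [h1, Subgroup.card_bot]
    exact odd_one
  obtain ⟨P, hP⟩ := Cfsg.Agent.StdRank2.B2Torus.Std.exists_sylow S
    Cfsg.Agent.StdRank2.B2Torus.scal_Sp hZ
  obtain ⟨n, hn⟩ := nform h
  refine ⟨P, ?_⟩
  rw [hP]
  exact hn.equiv (nform_std S)

end Cfsg.Agent.Omega.CloseA.IdFour
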