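import Mathlib
import Cfsg.Agent.Omega.CloseA.Coord

/-!
# Two elementary abelian groups `Q₁`, `Q₂` with `[Q₁,Q₂] ≤ D = Q₁ ∩ Q₂` and coordinates on `Qᵢ/D`

Sections of the coordinates; normal form of the elements of `Q₁Q₂`.
-/

set_option autoImplicit false

namespace Cfsg.Agent.Omega.CloseA

variable {G : Type*} [Group G]

theorem inv_of_sq {Q : Subgroup G} (sq : ∀ u ∈ Q, u * u = 1) {a : G} (ha : a ∈ Q) : a⁻¹ = a :=
  inv_eq_of_mul_eq_one_left (sq a ha)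

theorem comm_of_sq {Q : Subgroup G} (sq : ∀ u ∈ Q, u * u = 1) {a b : G} (ha : a ∈ Q) (hb : b ∈ Q) :
    a * b = b * a := by
  have h := inv_of_sq sq (mul_mem ha hb)
  rw [mul_inv_rev, inv_of_sq sq ha, inv_of_sq sq hb] at h
  exact h.symm

section sec

variable {F : Type*} [Field F] [CharP F 2]

/-- An additive map from an elementary abelian 2-group onto `F` has an additive section. -/
theorem exists_section (Q : Subgroup G) (sq : ∀ u ∈ Q, u * u = 1) (x : G → F)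
    (x_mul : ∀ u ∈ Q, ∀ v ∈ Q, x (u * v) = x u + x v) (x_surj : ∀ a, ∃ u ∈ Q, x u = a) :
    ∃ s : F → G, (∀ a, s a ∈ Q) ∧ (∀ a b, s (a + b) = s a * s b) ∧ ∀ a, x (s a) = a := by
  classical
  let _ : CommGroup Q := { (inferInstance : Group Q) with
    mul_comm := fun a b => Subtype.ext (comm_of_sq sq a.2 b.2) }
  let _ : Module (ZMod 2) (Additive Q) := AddCommGroup.zmodModule (n := 2) (by
    intro a
    rw [two_nsmul]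
    exact congrArg Additive.ofMul (Subtype.ext (sq _ (Additive.toMul a).2) :
      (Additive.toMul a) * (Additive.toMul a) = 1))
  let _ : Module (ZMod 2) F := AddCommGroup.zmodModule (n := 2) (by
    intro a
    rw [two_nsmul]
    exact CharTwo.add_self_eq_zero a)
  let f : Additive Q →+ F := AddMonoidHom.mk' (fun a => x (Additive.toMul a : Q))
    (fun a b => x_mul _ (Additive.toMul a).2 _ (Additive.toMul b).2)
  let g : Additive Q →ₗ[ZMod 2] F := AddMonoidHom.toZModLinearMap 2 f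
  have hg : ∀ a, g a = x (Additive.toMul a : Q) := fun a => rfl
  have hs : LinearMap.range g = ⊤ := by
    rw [LinearMap.range_eq_top]
    intro a
    obtain ⟨u, hu, rfl⟩ := x_surj a
    exact ⟨Additive.ofMul ⟨u, hu⟩, rfl⟩
  obtain ⟨s, hs⟩ := g.exists_rightInverse_of_surjective hs
  refine ⟨fun a => ((Additive.toMul (s a) : Q) : G), fun a => (Additive.toMul (s a)).2, ?_, ?_⟩
  · intro a b
    change ((Additive.toMul (s (a + b)) : Q) : G) = _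
    rw [map_add]
    rfl
  · intro a
    have h1 := congrArg (fun t => t a) hs
    exact h1

end sec

/-- The common part of `Co3` and `Co4`. -/
structure Pre {F : Type*} [Field F] (Q₁ Q₂ D : Subgroup G) (x y : G → F) : Prop where
  sq₁ : ∀ u ∈ Q₁, u * u = 1
  sq₂ : ∀ u ∈ Q₂, u * u = 1
  inf : ∀ u, u ∈ D ↔ u ∈ Q₁ ∧ u ∈ Q₂
  x_mul : ∀ u ∈ Q₁, ∀ v ∈ Q₁, x (u * v) = x u + x v
  x_surj : ∀ a, ∃ u ∈ Q₁, x u = a
  x_ker : ∀ u ∈ Q₁, x u = 0 ↔ u ∈ D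
  y_mul : ∀ u ∈ Q₂, ∀ v ∈ Q₂, y (u * v) = y u + y v
  y_surj : ∀ a, ∃ u ∈ Q₂, y u = a
  y_ker : ∀ u ∈ Q₂, y u = 0 ↔ u ∈ D
  mem : ∀ u ∈ Q₁, ∀ v ∈ Q₂, u * v * u⁻¹ * v⁻¹ ∈ D

variable {F : Type*} [Field F] {Q₁ Q₂ D C₁ C₂ : Subgroup G} {x y z z' : G → F}

theorem Co3.pre (h : Co3 Q₁ Q₂ D x y z) : Pre Q₁ Q₂ D x y :=
  ⟨h.sq₁, h.sq₂, h.inf, h.x_mul, h.x_surj, h.x_ker, h.y_mul, h.y_surj, h.y_ker, h.mem⟩

theorem Co4.pre (h : Co4 Q₁ Q₂ D C₁ C₂ x y z z') : Pre Q₁ Q₂ D x y :=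
  ⟨h.sq₁, h.sq₂, h.inf, h.x_mul, h.x_surj, h.x_ker, h.y_mul, h.y_surj, h.y_ker, h.mem⟩

namespace Pre

theorem D_le₁ (h : Pre Q₁ Q₂ D x y) {d : G} (hd : d ∈ D) : d ∈ Q₁ := ((h.inf d).1 hd).1

theorem D_le₂ (h : Pre Q₁ Q₂ D x y) {d : G} (hd : d ∈ D) : d ∈ Q₂ := ((h.inf d).1 hd).2

theorem D_eq (h : Pre Q₁ Q₂ D x y) : D = Q₁ ⊓ Q₂ := by
  ext d
  rw [h.inf, Subgroup.mem_inf]

/-- the other order of the commutator -/
theorem mem' (h : Pre Q₁ Q₂ D x y) {u v : G} (hu : u ∈ Q₁) (hv : v ∈ Q₂) : v * u * v⁻¹ * u⁻¹ ∈ D := by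
  have h1 := inv_mem (h.mem u hu v hv)
  have h2 : (u * v * u⁻¹ * v⁻¹)⁻¹ = v * u * v⁻¹ * u⁻¹ := by group
  rwa [h2] at h1

theorem comm' (h : Pre Q₁ Q₂ D x y) {u v : G} (hu : u ∈ Q₁) (hv : v ∈ Q₂) :
    v * u * v⁻¹ * u⁻¹ = u * v * u⁻¹ * v⁻¹ := by
  have h2 : (u * v * u⁻¹ * v⁻¹)⁻¹ = v * u * v⁻¹ * u⁻¹ := by group
  rw [← h2]
  exact inv_of_sq h.sq₁ (h.D_le₁ (h.mem u hu v hv))

/-- `Q₁Q₂ = Q₂Q₁`. -/
theorem swap (h : Pre Q₁ Q₂ D x y) {u v : G} (hu : u ∈ Q₁) (hv : v ∈ Q₂) :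
    u * v = v * (u * (u * v * u⁻¹ * v⁻¹)) := by
  have h1 := h.mem u hu v hv
  have h2 : (u * v * u⁻¹ * v⁻¹) * (v * u) = (v * u) * (u * v * u⁻¹ * v⁻¹) := by
    rw [← mul_assoc, comm_of_sq h.sq₂ (h.D_le₂ h1) hv, mul_assoc, comm_of_sq h.sq₁ (h.D_le₁ h1) hu,
      ← mul_assoc]
  rw [← mul_assoc, ← h2]
  group

theorem mem_sup (h : Pre Q₁ Q₂ D x y) {s : G} (hs : s ∈ Q₁ ⊔ Q₂) : ∃ v ∈ Q₂, ∃ u ∈ Q₁, v * u = s := by
  have hn : (Q₁ : Set G) ⊆ Subgroup.normalizer (Q₂ : Set G) := by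
    intro u hu
    rw [SetLike.mem_coe, Subgroup.mem_normalizer_iff]
    have key : ∀ a ∈ Q₁, ∀ b ∈ Q₂, a * b * a⁻¹ ∈ Q₂ := by
      intro a ha b hb
      have h1 := mul_mem (h.D_le₂ (h.mem a ha b hb)) hb
      have h2 : a * b * a⁻¹ * b⁻¹ * b = a * b * a⁻¹ := by group
      rwa [h2] at h1
    intro b
    refine ⟨fun hb => key u hu b hb, fun hb => ?_⟩
    have h1 := key u⁻¹ (inv_mem hu) _ hb
    have h2 : u⁻¹ * (u * b * u⁻¹) * u⁻¹⁻¹ = b := by group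
    rwa [h2] at h1
  have h1 : s ∈ ((Q₂ ⊔ Q₁ : Subgroup G) : Set G) := by rwa [sup_comm]
  rw [sup_comm, Subgroup.coe_mul_of_left_le_normalizer_right _ _ hn,
    Subgroup.set_mul_normalizer_comm _ _ hn] at h1
  obtain ⟨v, hv, u, hu, e⟩ := h1
  exact ⟨v, hv, u, hu, e⟩

theorem D_comm₁ (h : Pre Q₁ Q₂ D x y) {d u : G} (hd : d ∈ D) (hu : u ∈ Q₁) : d * u = u * d :=
  comm_of_sq h.sq₁ (h.D_le₁ hd) hu

theorem D_comm₂ (h : Pre Q₁ Q₂ D x y) {d u : G} (hd : d ∈ D) (hu : u ∈ Q₂) : d * u = u * d :=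
  comm_of_sq h.sq₂ (h.D_le₂ hd) hu

theorem sqD (h : Pre Q₁ Q₂ D x y) : ∀ u ∈ D, u * u = 1 := fun u hu => h.sq₁ u (h.D_le₁ hu)

theorem x_one (h : Pre Q₁ Q₂ D x y) : x 1 = 0 := (h.x_ker 1 (one_mem _)).2 (one_mem _)

theorem y_one (h : Pre Q₁ Q₂ D x y) : y 1 = 0 := (h.y_ker 1 (one_mem _)).2 (one_mem _)

theorem split₁ [CharP F 2] (h : Pre Q₁ Q₂ D x y) {sx : F → G} (hs : ∀ a, sx a ∈ Q₁)
    (hx : ∀ a, x (sx a) = a) {u : G} (hu : u ∈ Q₁) : ∃ d ∈ D, u = sx (x u) * d := by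
  refine ⟨(sx (x u))⁻¹ * u, ?_, by group⟩
  rw [inv_of_sq h.sq₁ (hs _), ← h.x_ker _ (mul_mem (hs _) hu), h.x_mul _ (hs _) _ hu, hx]
  exact CharTwo.add_self_eq_zero _

theorem split₂ [CharP F 2] (h : Pre Q₁ Q₂ D x y) {sy : F → G} (hs : ∀ a, sy a ∈ Q₂)
    (hy : ∀ a, y (sy a) = a) {u : G} (hu : u ∈ Q₂) : ∃ d ∈ D, u = sy (y u) * d := by
  refine ⟨(sy (y u))⁻¹ * u, ?_, by group⟩
  rw [inv_of_sq h.sq₂ (hs _), ← h.y_ker _ (mul_mem (hs _) hu), h.y_mul _ (hs _) _ hu, hy]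
  exact CharTwo.add_self_eq_zero _

end Pre

end Cfsg.Agent.Omega.CloseA
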