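import Mathlib
import Cfsg.Agent.Omega.CloseA.Pre
import Cfsg.Agent.TypeL3.Model

/-!
# `Co3`: `Q₁Q₂` is isomorphic to a Sylow 2-subgroup of `PSL₃(F)`
-/

set_option autoImplicit false

namespace Cfsg.Agent.Omega.CloseA

open Cfsg.Agent.SylowL.Lev Cfsg.Agent.SylowL.UT Cfsg.Agent.TypeL3

variable {G : Type*} [Group G] {F : Type*} [Field F] {Q₁ Q₂ D : Subgroup G} {x y z : G → F}

theorem N_el01 (a b c : F) : N (el a b c) 0 1 = a := by rw [N_el]; simp
theorem N_el12 (a b c : F) : N (el a b c) 1 2 = b := by rw [N_el]; simp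
theorem N_el02 (a b c : F) : N (el a b c) 0 2 = c := by rw [N_el]; simp

/-- **`Q₁Q₂` is unitriangular.** -/
theorem Co3.equiv_UT [CharP F 2] (h : Co3 Q₁ Q₂ D x y z) :
    Nonempty (↥(Q₁ ⊔ Q₂ : Subgroup G) ≃* UT 3 F) := by
  have hp := h.pre
  obtain ⟨sx, sx_mem, sx_add, hx⟩ := exists_section Q₁ h.sq₁ x h.x_mul h.x_surj
  obtain ⟨sy, sy_mem, sy_add, hy⟩ := exists_section Q₂ h.sq₂ y h.y_mul h.y_surj
  obtain ⟨sz, sz_mem, sz_add, hz⟩ := exists_section D hp.sqD z h.z_mul h.z_surj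
  have zinj : ∀ u ∈ D, ∀ v ∈ D, z u = z v → u = v := by
    intro u hu v hv huv
    have h1 : z (u * v) = 0 := by rw [h.z_mul u hu v hv, huv]; exact CharTwo.add_self_eq_zero _
    have h2 := h.z_inj _ (mul_mem hu hv) h1
    rw [mul_eq_one_iff_eq_inv, inv_of_sq hp.sqD hv] at h2
    exact h2
  have szz : ∀ d ∈ D, sz (z d) = d := fun d hd => zinj _ (sz_mem _) _ hd (hz _)
  have hcom : ∀ a b, sx a * sy b = sy b * (sx a * sz (a * b)) := by
    intro a b
    rw [hp.swap (sx_mem a) (sy_mem b)]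
    congr 2
    refine zinj _ (h.mem _ (sx_mem a) _ (sy_mem b)) _ (sz_mem _) ?_
    rw [h.com _ (sx_mem a) _ (sy_mem b), hx, hy, hz]
  let f : F → F → F → G := fun a b c => sy b * sx a * sz c
  have f_mul : ∀ a b c a' b' c', f a b c * f a' b' c' = f (a + a') (b + b') (c + c' + a * b') := by
    intro a b c a' b' c'
    change sy b * sx a * sz c * (sy b' * sx a' * sz c') = _
    calc sy b * sx a * sz c * (sy b' * sx a' * sz c')
        = sy b * sx a * (sz c * sy b') * sx a' * sz c' := by group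
      _ = sy b * sx a * (sy b' * sz c) * sx a' * sz c' := by rw [hp.D_comm₂ (sz_mem c) (sy_mem b')]
      _ = sy b * (sx a * sy b') * (sz c * sx a') * sz c' := by group
      _ = sy b * (sy b' * (sx a * sz (a * b'))) * (sx a' * sz c) * sz c' := by
          rw [hcom, hp.D_comm₁ (sz_mem c) (sx_mem a')]
      _ = (sy b * sy b') * sx a * (sz (a * b') * sx a') * (sz c * sz c') := by group
      _ = (sy b * sy b') * sx a * (sx a' * sz (a * b')) * (sz c * sz c') := by
          rw [hp.D_comm₁ (sz_mem (a * b')) (sx_mem a')]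
      _ = (sy b * sy b') * (sx a * sx a') * (sz (a * b') * (sz c * sz c')) := by group
      _ = f (a + a') (b + b') (c + c' + a * b') := by
          change _ = sy (b + b') * sx (a + a') * sz (c + c' + a * b')
          rw [← sy_add, ← sx_add, ← sz_add, ← sz_add, add_comm (c + c')]
  have sx0 : sx 0 = 1 := by
    have h1 := sx_add 0 0
    rw [add_zero] at h1
    exact mul_eq_left.1 h1.symm
  have sy0 : sy 0 = 1 := by
    have h1 := sy_add 0 0
    rw [add_zero] at h1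
    exact mul_eq_left.1 h1.symm
  have sz0 : sz 0 = 1 := by
    have h1 := sz_add 0 0
    rw [add_zero] at h1
    exact mul_eq_left.1 h1.symm
  have f_inj : ∀ a b c, f a b c = 1 → a = 0 ∧ b = 0 ∧ c = 0 := by
    intro a b c h1
    change sy b * sx a * sz c = 1 at h1
    have h2 : sy b ∈ D := by
      rw [h.inf]
      refine ⟨?_, sy_mem b⟩
      rw [mul_assoc, mul_eq_one_iff_eq_inv] at h1
      rw [h1]
      exact inv_mem (mul_mem (sx_mem a) (hp.D_le₁ (sz_mem c)))
    have hb : b = 0 := by rw [← hy b]; exact (h.y_ker _ (sy_mem b)).2 h2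
    rw [hb, sy0, one_mul] at h1
    have h3 : sx a ∈ D := by
      rw [mul_eq_one_iff_eq_inv] at h1
      rw [h1]
      exact inv_mem (sz_mem c)
    have ha : a = 0 := by rw [← hx a]; exact (h.x_ker _ (sx_mem a)).2 h3
    rw [ha, sx0, one_mul] at h1
    refine ⟨ha, hb, ?_⟩
    rw [← hz c, h1, ← sz0, hz]
  have f_mem : ∀ a b c, f a b c ∈ Q₁ ⊔ Q₂ := fun a b c =>
    mul_mem (mul_mem (Subgroup.mem_sup_right (sy_mem b)) (Subgroup.mem_sup_left (sx_mem a)))
      (Subgroup.mem_sup_left (hp.D_le₁ (sz_mem c)))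
  have f_surj : ∀ s ∈ Q₁ ⊔ Q₂, ∃ a b c, f a b c = s := by
    intro s hs
    obtain ⟨v, hv, u, hu, rfl⟩ := hp.mem_sup hs
    obtain ⟨d, hd, hd'⟩ := hp.split₁ sx_mem hx hu
    obtain ⟨e, he, he'⟩ := hp.split₂ sy_mem hy hv
    refine ⟨x u, y v, z (e * d), ?_⟩
    change sy (y v) * sx (x u) * sz (z (e * d)) = v * u
    rw [szz _ (mul_mem he hd)]
    calc sy (y v) * sx (x u) * (e * d) = sy (y v) * (sx (x u) * e) * d := by group
      _ = sy (y v) * (e * sx (x u)) * d := by rw [hp.D_comm₁ he (sx_mem _)]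
      _ = (sy (y v) * e) * (sx (x u) * d) := by group
      _ = v * u := by rw [← hd', ← he']
  let φ : UT 3 F →* ↥(Q₁ ⊔ Q₂ : Subgroup G) := MonoidHom.mk'
    (fun g => ⟨f (N g 0 1) (N g 1 2) (N g 0 2), f_mem _ _ _⟩) (by
      intro g g'
      obtain ⟨a, b, c, rfl⟩ := exists_el g
      obtain ⟨a', b', c', rfl⟩ := exists_el g'
      apply Subtype.ext
      change f _ _ _ = f _ _ _ * f _ _ _
      rw [el_mul]
      simp only [N_el01, N_el12, N_el02]
      rw [f_mul])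
  refine ⟨(MulEquiv.ofBijective φ ⟨?_, ?_⟩).symm⟩
  · rw [injective_iff_map_eq_one]
    intro g hg
    obtain ⟨a, b, c, rfl⟩ := exists_el g
    have h1 : f (N (el a b c) 0 1) (N (el a b c) 1 2) (N (el a b c) 0 2) = 1 := congrArg Subtype.val hg
    rw [N_el01, N_el12, N_el02] at h1
    obtain ⟨rfl, rfl, rfl⟩ := f_inj _ _ _ h1
    exact el_zero
  · rintro ⟨s, hs⟩
    obtain ⟨a, b, c, rfl⟩ := f_surj s hs
    refine ⟨el a b c, Subtype.ext ?_⟩
    change f (N (el a b c) 0 1) (N (el a b c) 1 2) (N (el a b c) 0 2) = _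
    rw [N_el01, N_el12, N_el02]

/-- **`Q₁Q₂` is isomorphic to the Sylow 2-subgroups of `PSL₃(F)`.** -/
theorem Co3.sylow [Finite F] [CharP F 2] (h : Co3 Q₁ Q₂ D x y z) :
    ∃ P : Sylow 2 (Matrix.ProjectiveSpecialLinearGroup (Fin 3) F), Nonempty (↥(Q₁ ⊔ Q₂ : Subgroup G) ≃*
      ↥(P : Subgroup (Matrix.ProjectiveSpecialLinearGroup (Fin 3) F))) := by
  classical
  have := Fintype.ofFinite F
  have : Fact (Nat.Prime 2) := ⟨Nat.prime_two⟩
  obtain ⟨e⟩ := h.equiv_UT
  obtain ⟨e'⟩ := Cfsg.Agent.SylowL.SylowPSL.sylow_equiv 2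
    (default : Sylow 2 (Matrix.ProjectiveSpecialLinearGroup (Fin 3) F))
  exact ⟨_, ⟨e.trans e'.symm⟩⟩

end Cfsg.Agent.Omega.CloseA
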