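import Mathlib
import Cfsg.Agent.Omega.CloseA.IdThree
import Cfsg.Agent.Omega.CloseA.IdFour
import Cfsg.Agent.Omega.Exits
import Cfsg.Agent.TypeL3.Main
import Cfsg.Agent.TypeSpFour.Main

/-!
# `Co3`, `Co4` for a Sylow 2-subgroup of a simple group: `L₃(F)`, `PSp₄(F)`

Conditional on S1169 (`H1169`), the first half of S1171 (`H1171`), S1296 (`H1296`): see `ClassificationK.SmallLieTwoFinal.{h1169,h1171,h1296}`.
`Co3.psl`, `Co4.psp`: `S = Q₁Q₂`, `|F| ≥ 4` ⟹ `G ≅ L₃(F)`, `PSp₄(F)`; `Co3.known`, `Co4.known`: `G` is known.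
-/

set_option autoImplicit false

namespace Cfsg.Agent.Omega.CloseA

open Cfsg Cfsg.Agent.TypeL3

universe u w v

section transport

variable {G : Type*} [Group G] {F : Type*} [Field F] {F' : Type*} [Field F'] {Q₁ Q₂ D C₁ C₂ : Subgroup G}
  {x y z z' : G → F}

/-- Change of the field by an isomorphism. -/
theorem Co3.map (h : Co3 Q₁ Q₂ D x y z) (e : F ≃+* F') :
    Co3 Q₁ Q₂ D (fun g => e (x g)) (fun g => e (y g)) (fun g => e (z g)) where
  sq₁ := h.sq₁
  sq₂ := h.sq₂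
  inf := h.inf
  x_mul := fun u hu v hv => by rw [h.x_mul u hu v hv, map_add]
  x_surj := fun a => by
    obtain ⟨u, hu, h1⟩ := h.x_surj (e.symm a)
    exact ⟨u, hu, by rw [h1, RingEquiv.apply_symm_apply]⟩
  x_ker := fun u hu => by rw [EmbeddingLike.map_eq_zero_iff]; exact h.x_ker u hu
  y_mul := fun u hu v hv => by rw [h.y_mul u hu v hv, map_add]
  y_surj := fun a => by
    obtain ⟨u, hu, h1⟩ := h.y_surj (e.symm a)
    exact ⟨u, hu, by rw [h1, RingEquiv.apply_symm_apply]⟩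
  y_ker := fun u hu => by rw [EmbeddingLike.map_eq_zero_iff]; exact h.y_ker u hu
  z_mul := fun u hu v hv => by rw [h.z_mul u hu v hv, map_add]
  z_surj := fun a => by
    obtain ⟨u, hu, h1⟩ := h.z_surj (e.symm a)
    exact ⟨u, hu, by rw [h1, RingEquiv.apply_symm_apply]⟩
  z_inj := fun u hu h1 => h.z_inj u hu (by rwa [EmbeddingLike.map_eq_zero_iff] at h1)
  mem := h.mem
  com := fun u hu v hv => by rw [h.com u hu v hv, map_mul]

/-- Change of the field by an isomorphism. -/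
theorem Co4.map (h : Co4 Q₁ Q₂ D C₁ C₂ x y z z') (e : F ≃+* F') :
    Co4 Q₁ Q₂ D C₁ C₂ (fun g => e (x g)) (fun g => e (y g)) (fun g => e (z g)) (fun g => e (z' g)) where
  sq₁ := h.sq₁
  sq₂ := h.sq₂
  inf := h.inf
  x_mul := fun u hu v hv => by rw [h.x_mul u hu v hv, map_add]
  x_surj := fun a => by
    obtain ⟨u, hu, h1⟩ := h.x_surj (e.symm a)
    exact ⟨u, hu, by rw [h1, RingEquiv.apply_symm_apply]⟩
  x_ker := fun u hu => by rw [EmbeddingLike.map_eq_zero_iff]; exact h.x_ker u hu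
  y_mul := fun u hu v hv => by rw [h.y_mul u hu v hv, map_add]
  y_surj := fun a => by
    obtain ⟨u, hu, h1⟩ := h.y_surj (e.symm a)
    exact ⟨u, hu, by rw [h1, RingEquiv.apply_symm_apply]⟩
  y_ker := fun u hu => by rw [EmbeddingLike.map_eq_zero_iff]; exact h.y_ker u hu
  z_mul := fun u hu v hv => by rw [h.z_mul u hu v hv, map_add]
  z'_mul := fun u hu v hv => by rw [h.z'_mul u hu v hv, map_add]
  z_surj := fun a a' => by
    obtain ⟨u, hu, h1, h2⟩ := h.z_surj (e.symm a) (e.symm a')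
    exact ⟨u, hu, by rw [h1, RingEquiv.apply_symm_apply], by rw [h2, RingEquiv.apply_symm_apply]⟩
  z_inj := fun u hu h1 h2 => h.z_inj u hu (by rwa [EmbeddingLike.map_eq_zero_iff] at h1)
    (by rwa [EmbeddingLike.map_eq_zero_iff] at h2)
  z_ker := fun u hu => by rw [EmbeddingLike.map_eq_zero_iff]; exact h.z_ker u hu
  z'_ker := fun u hu => by rw [EmbeddingLike.map_eq_zero_iff]; exact h.z'_ker u hu
  mem := h.mem
  com := fun u hu v hv => by rw [h.com u hu v hv, map_mul]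
  com' := fun u hu v hv => by rw [h.com' u hu v hv, map_mul, map_mul]

end transport

section main

variable {G : Type u} [Group G] [Finite G] [IsSimpleGroup G] {F : Type w} [Field F] [Finite F] [CharP F 2]
  {Q₁ Q₂ D C₁ C₂ : Subgroup G} {x y z z' : G → F}

theorem card_eq_pow (F : Type w) [Field F] [Finite F] [CharP F 2] : ∃ n : ℕ, Nat.card F = 2 ^ n := by
  have := Fintype.ofFinite F
  obtain ⟨n, -, hn⟩ := FiniteField.card F 2
  exact ⟨n, by rw [Nat.card_eq_fintype_card, hn]⟩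

theorem two_le_of_card {n : ℕ} (h : 4 ≤ 2 ^ n) : 2 ≤ n :=
  (Nat.pow_le_pow_iff_right (by norm_num : 1 < 2)).1 (show 2 ^ 2 ≤ 2 ^ n from h)

/-- **`L₃(F)`**, `|F| ≥ 4`. -/
theorem Co3.psl (h1169 : H1169.{u}) (h1171 : H1171.{u}) (h1296 : H1296.{u})
    (hq : 4 ≤ Nat.card F) (h : Co3 Q₁ Q₂ D x y z) (S : Sylow 2 G)
    (hS : (S : Subgroup G) = Q₁ ⊔ Q₂) : Nonempty (G ≃* Matrix.ProjectiveSpecialLinearGroup (Fin 3) F) := by
  have := Fintype.ofFinite F
  obtain ⟨n, hn⟩ := card_eq_pow F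
  obtain ⟨P, e⟩ := h.sylow
  refine Cfsg.Agent.TypeL3.Main.nonempty_psl_of_sylow h1169 h1171 h1296
    (r := n) (two_le_of_card (hn ▸ hq)) (by rw [← Nat.card_eq_fintype_card, hn]) S P ?_
  rw [hS]
  exact e

/-- **`PSp₄(F)`**, `|F| ≥ 4`. -/
theorem Co4.psp (h1169 : H1169.{u}) (h1171 : H1171.{u}) (h1296 : H1296.{u})
    (hq : 4 ≤ Nat.card F) (h : Co4 Q₁ Q₂ D C₁ C₂ x y z z') (S : Sylow 2 G)
    (hS : (S : Subgroup G) = Q₁ ⊔ Q₂) : Nonempty (G ≃* Cfsg.PSp 2 F) := by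
  have := Fintype.ofFinite F
  obtain ⟨n, hn⟩ := card_eq_pow F
  obtain ⟨P, e⟩ := IdFour.exists_sylow (by omega) h
  refine Cfsg.Agent.TypeSpFour.Main.nonempty_psp_of_sylow h1169 h1171 h1296
    (r := n) (two_le_of_card (hn ▸ hq)) (by rw [← Nat.card_eq_fintype_card, hn]) S P ?_
  rw [hS]
  exact e

/-- A copy of `F` in `Type`. -/
theorem exists_small (F : Type w) [Field F] [Finite F] [CharP F 2] :
    ∃ (F' : Type) (_ : Field F') (_ : Fintype F') (_ : CharP F' 2), Nonempty (F ≃+* F') ∧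
      Fintype.card F' = Nat.card F := by
  have : Fintype (Shrink.{0} F) := Fintype.ofFinite _
  let e : F ≃+* Shrink.{0} F := (Shrink.ringEquiv.{0} F).symm
  have hc : CharP (Shrink.{0} F) 2 := charP_of_injective_ringHom (f := e.toRingHom) e.injective 2
  exact ⟨Shrink.{0} F, inferInstance, this, hc, ⟨e⟩, by
    rw [← Nat.card_eq_fintype_card]; exact (Nat.card_congr e.toEquiv).symm⟩

/-- **Closing of type `L₃`.** -/
theorem Co3.known (h1169 : H1169.{u}) (h1171 : H1171.{u}) (h1296 : H1296.{u})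
    (hq : 4 ≤ Nat.card F) (h : Co3 Q₁ Q₂ D x y z) (S : Sylow 2 G)
    (hS : (S : Subgroup G) = Q₁ ⊔ Q₂) : IsKnownSimple' G := by
  obtain ⟨F', i, j, k, ⟨e⟩, hc⟩ := exists_small F
  refine Exits.known_l (le_refl 3) (F := F') ((h.map e).psl h1169 h1171 h1296 ?_ S hS)
  rw [Nat.card_eq_fintype_card, hc]
  exact hq

/-- **Closing of type `Sp₄`.** -/
theorem Co4.known (h1169 : H1169.{u}) (h1171 : H1171.{u}) (h1296 : H1296.{u})
    (hq : 4 ≤ Nat.card F) (h : Co4 Q₁ Q₂ D C₁ C₂ x y z z') (S : Sylow 2 G)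
    (hS : (S : Subgroup G) = Q₁ ⊔ Q₂) : IsKnownSimple' G := by
  obtain ⟨F', i, j, k, ⟨e⟩, hc⟩ := exists_small F
  refine Exits.known_sp4 (F := F') (by omega) ((h.map e).psp h1169 h1171 h1296 ?_ S hS)
  rw [Nat.card_eq_fintype_card, hc]
  exact hq

end main

end Cfsg.Agent.Omega.CloseA
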