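import Mathlib
import Cfsg.Agent.Omega.CloseA.End

/-!
# Field automorphisms in the closings of type `L₃(q)`, `Sp₄(q)`: the case `Sp₄(4)`
-/

set_option autoImplicit false

namespace Cfsg.Agent.Omega.CloseA

variable {G : Type*} [Group G]

theorem relIndex_mul {X Y : Subgroup G} (hXY : X ≤ Y) :
    X.relIndex Y * Nat.card X = Nat.card Y := by
  rw [Subgroup.relIndex, ← Nat.card_congr (Subgroup.subgroupOfEquivOfLe hXY).toEquiv]
  exact Subgroup.index_mul_card _

variable [Finite G]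

theorem relIndex_ne_zero' (X Y : Subgroup G) : X.relIndex Y ≠ 0 := by
  rw [Subgroup.relIndex]
  exact Subgroup.index_ne_zero_of_finite

theorem two_mul_le {X Y : Subgroup G} (hXY : X ≤ Y) {a : G} (ha : a ∈ Y) (haX : a ∉ X) :
    2 * Nat.card X ≤ Nat.card Y := by
  rw [← relIndex_mul hXY]
  refine Nat.mul_le_mul_right _ ?_
  have h1 := relIndex_ne_zero' X Y
  have h2 : X.relIndex Y ≠ 1 := fun h => haX ((Subgroup.relIndex_eq_one.1 h) ha)
  omega

theorem four_mul_le {X Y : Subgroup G} (hXY : X ≤ Y) (h2 : IsPGroup 2 Y) {a b : G} (ha : a ∈ Y)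
    (haX : a ∉ X) (hb : b ∈ Y) (hbX : b ∉ X) (habX : a * b ∉ X) :
    4 * Nat.card X ≤ Nat.card Y := by
  rw [← relIndex_mul hXY]
  refine Nat.mul_le_mul_right _ ?_
  have h1 := relIndex_ne_zero' X Y
  have h3 : X.relIndex Y ≠ 1 := fun h => haX ((Subgroup.relIndex_eq_one.1 h) ha)
  have h4 : X.relIndex Y ≠ 2 := by
    intro h
    rw [Subgroup.relIndex] at h
    have h9 := (Subgroup.mul_mem_iff_of_index_two h (a := ⟨a, ha⟩) (b := ⟨b, hb⟩)).2 (by
        rw [Subgroup.mem_subgroupOf, Subgroup.mem_subgroupOf]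
        exact iff_of_false haX hbX)
    exact habX (Subgroup.mem_subgroupOf.1 h9)
  obtain ⟨n, hn⟩ := h2.index (X.subgroupOf Y)
  rw [Subgroup.relIndex] at h3 h4 ⊢
  have h5 : n ≠ 0 := by
    rintro rfl
    exact h3 (by rw [hn]; norm_num)
  have h6 : n ≠ 1 := by
    rintro rfl
    exact h4 (by rw [hn]; norm_num)
  rw [hn]
  calc 4 = 2 ^ 2 := by norm_num
    _ ≤ 2 ^ n := Nat.pow_le_pow_right (by norm_num) (by omega)

theorem card_mul_le {A B S : Subgroup G} (hA : A ≤ S) (hB : B ≤ S)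
    (h : ∀ x ∈ A, x ∈ B → x = 1) : Nat.card A * Nat.card B ≤ Nat.card S := by
  rw [← Nat.card_prod]
  refine Nat.card_le_card_of_injective (fun p : A × B => (⟨p.1 * p.2,
    mul_mem (hA p.1.2) (hB p.2.2)⟩ : S)) ?_
  rintro ⟨a, b⟩ ⟨a', b'⟩ hab
  have h1 : (a : G) * b = a' * b' := congrArg Subtype.val hab
  have h2 : (a' : G)⁻¹ * a = b' * (b : G)⁻¹ := by
    rw [inv_mul_eq_iff_eq_mul, ← mul_assoc, ← h1, mul_assoc, mul_inv_cancel, mul_one]
  have h3 := h ((a' : G)⁻¹ * a) (mul_mem (inv_mem a'.2) a.2)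
    (by rw [h2]; exact mul_mem b'.2 (inv_mem b.2))
  have h4 : (a : G) = a' := by
    rw [inv_mul_eq_one] at h3
    exact h3.symm
  have h5 : (b : G) = b' := by
    rw [h4] at h1
    exact mul_left_cancel h1
  exact Prod.ext (Subtype.ext h4) (Subtype.ext h5)

variable {S : Sylow 2 G} {S0 D : Subgroup G} {Q : Bool → Subgroup G}

/-- The fixed points of `f` on `D`. -/
def CD (D : Subgroup G) (f : G) : Subgroup G := D ⊓ Subgroup.centralizer ({f} : Set G)

omit [Finite G] in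
theorem mem_CD {f d : G} : d ∈ CD D f ↔ d ∈ D ∧ d * f = f * d := by
  rw [CD, Subgroup.mem_inf, Subgroup.mem_centralizer_singleton_iff]

/-- `|C_{S₀}(y)| ≥ 4 |C_D(y)|`. -/
theorem card_E0 (h : Amb (S : Subgroup G) S0 D Q) {y : G} (hy : Amb.Fld (S : Subgroup G) S0 y)
    (hy1 : y * y = 1) : 4 * Nat.card (CD D y) ≤ Nat.card (E0 S0 y) := by
  obtain ⟨a, ha, haD, hya⟩ := h.exists_fix hy hy1 false
  obtain ⟨b, hb, hbD, hyb⟩ := h.exists_fix hy hy1 true
  have hE2 : IsPGroup 2 (E0 S0 y) := (S.isPGroup'.to_le h.S0_le).to_le inf_le_left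
  refine four_mul_le (a := a) (b := b) ?_ hE2 (mem_E0.2 ⟨h.Q_le _ ha, hya.symm⟩) ?_
    (mem_E0.2 ⟨h.Q_le _ hb, hyb.symm⟩) ?_ ?_
  · intro d hd
    rw [mem_CD] at hd
    exact mem_E0.2 ⟨h.D_le0 hd.1, hd.2⟩
  · exact fun hc => haD (mem_CD.1 hc).1
  · exact fun hc => hbD (mem_CD.1 hc).1
  · intro hc
    have h1 := (mem_CD.1 hc).1
    apply hbD
    have h2 : b ∈ Q false := ((Q false).mul_mem_cancel_left ha).1 (h.D_le false h1)
    exact h.memD (i := false) h2 hb

/-- `|O₂(C_G(u))| |C_{S₀}(y)| ≤ |S|`. -/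
theorem Ext.card_le {y k : G} {R R' : Subgroup G} (hE : Ext (S : Subgroup G) S0 D R y k R') :
    Nat.card R' * Nat.card (E0 S0 y) ≤ Nat.card (S : Subgroup G) := by
  have h1 : Nat.card ((E0 S0 y).map (MulAut.conj k).toMonoidHom) = Nat.card (E0 S0 y) :=
    (Nat.card_congr ((E0 S0 y).equivMapOfInjective (MulAut.conj k).toMonoidHom
        (MulAut.conj k).injective).toEquiv).symm
  rw [← h1]
  refine card_mul_le hE.le ?_ ?_
  · rintro _ ⟨x, hx, rfl⟩
    exact hE.fix x (mem_E0.1 hx).1 (mem_E0.1 hx).2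
  · rintro _ hx' ⟨x, hx, rfl⟩
    have h2 : x = 1 := hE.disj x ((hE.iff x).1 hx') (mem_E0.1 hx).1
    rw [h2]
    simp

/-- Numbers for `q = 4`. -/
structure Num (S S0 D : Subgroup G) (Q : Bool → Subgroup G) : Prop where
  cS : Nat.card S ≤ 512
  cQ : ∀ i, Nat.card (Q i) = 64
  cD : Nat.card D = 16
  cC : ∀ f, Amb.Fld S S0 f → Nat.card (CD D f) = 4

theorem Ext.card_le' (h : Amb (S : Subgroup G) S0 D Q) (hn : Num (S : Subgroup G) S0 D Q) {y k : G}
    {R R' : Subgroup G} (hE : Ext (S : Subgroup G) S0 D R y k R')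
    (hy : Amb.Fld (S : Subgroup G) S0 y) (hy1 : y * y = 1) : Nat.card R' ≤ 32 := by
  have h1 := hE.card_le
  have h2 := card_E0 h hy hy1
  rw [hn.cC y hy] at h2
  have h3 := hn.cS
  have h4 : Nat.card R' * 16 ≤ Nat.card R' * Nat.card (E0 S0 y) := Nat.mul_le_mul_left _ h2
  omega

/-- The case `R' ≰ S₀`. -/
theorem Ext.false_of_not_le (h : Amb (S : Subgroup G) S0 D Q) (hn : Num (S : Subgroup G) S0 D Q)
    {y k : G} {R R' : Subgroup G} (hE : Ext (S : Subgroup G) S0 D R y k R')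
    (hy : Amb.Fld (S : Subgroup G) S0 y) (hy1 : y * y = 1) (hR : ¬ R' ≤ S0) : False := by
  have h32 := hE.card_le' h hn hy hy1
  obtain ⟨f, hf, hF⟩ := exists_fld hE.le hR
  obtain ⟨a, ha, haD, hfa⟩ := h.fixQ f hF.mem hF.sq hF.not false
  obtain ⟨b, hb, hbD, hfb⟩ := h.fixQ f hF.mem hF.sq hF.not true
  obtain ⟨n, hnR, hnQ, hna⟩ := hE.exists_rep h hf hF ha hfa
  obtain ⟨m, hm, hmQ, hmb⟩ := hE.exists_rep h hf hF hb hfb
  have hnD : n ∉ D := fun hc => haD ((D.mul_mem_cancel_left hc).1 hna)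
  have hmD : m ∉ D := fun hc => hbD ((D.mul_mem_cancel_left hc).1 hmb)
  have hR2 : IsPGroup 2 R' := hE.ct.two
  -- `C_D(f) < R' ∩ D`
  have h1 : 2 * Nat.card (CD D f) ≤ Nat.card (R' ⊓ D : Subgroup G) := by
    obtain ⟨c, hc, hcf⟩ := h.exists_move hF true
    have hcomm : n * c * n⁻¹ * c⁻¹ ∈ R' := hE.comm_mem hnR (h.Q_le _ hc)
    have hcD : n * c * n⁻¹ * c⁻¹ ∈ D := h.comm_mem (i := false) hnQ hc
    refine two_mul_le (a := n * c * n⁻¹ * c⁻¹) ?_ (Subgroup.mem_inf.2 ⟨hcomm, hcD⟩) ?_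
    · intro d hd
      rw [mem_CD] at hd
      have h2 : f * d * f⁻¹ = d := by rw [← hd.2, mul_assoc, mul_inv_cancel, mul_one]
      obtain ⟨e, he, hed⟩ := h.frD f hF.mem hF.sq hF.not d hd.1 h2
      have h3 := hE.comm_mem hf (h.D_le0 he)
      rw [h.inv_eqD he, hed] at h3
      exact Subgroup.mem_inf.2 ⟨h3, hd.1⟩
    · intro hc'
      rw [mem_CD] at hc'
      have h2 : f * (n * c * n⁻¹ * c⁻¹) * f⁻¹ = n * c * n⁻¹ * c⁻¹ := by
        rw [← hc'.2, mul_assoc, mul_inv_cancel, mul_one]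
      -- `f n f⁻¹ = e n`, `e ∈ D`
      set e := f * n * f⁻¹ * n⁻¹ with he
      have heD : e ∈ D := by
        have h3 : e * (f * (n * a) * f⁻¹)⁻¹ = (n * a)⁻¹ * (a * (f * a * f⁻¹)⁻¹) := by
          have h4 : n⁻¹ * (f * (n * a) * f⁻¹)⁻¹ = (f * (n * a) * f⁻¹)⁻¹ * n⁻¹ :=
            h.comm (i := false) (inv_mem hnQ)
              (inv_mem (h.Qn _ f hF.mem _ (mul_mem hnQ ha)))
          have h5 : f * n * f⁻¹ * (f * (n * a) * f⁻¹)⁻¹ = (f * a * f⁻¹)⁻¹ := by
            have h6 : f * (n * a) * f⁻¹ = (f * a * f⁻¹) * (f * n * f⁻¹) := by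
              rw [h.comm (i := false) hnQ ha]; group
            rw [h6]; group
          calc e * (f * (n * a) * f⁻¹)⁻¹ = f * n * f⁻¹ * (n⁻¹ * (f * (n * a) * f⁻¹)⁻¹) := by
                rw [he]; group
            _ = (f * n * f⁻¹ * (f * (n * a) * f⁻¹)⁻¹) * n⁻¹ := by rw [h4]; group
            _ = (f * a * f⁻¹)⁻¹ * n⁻¹ := by rw [h5]
            _ = n⁻¹ * (f * a * f⁻¹)⁻¹ :=
                h.comm (i := false) (inv_mem (h.Qn _ f hF.mem _ ha)) (inv_mem hnQ)
            _ = (n * a)⁻¹ * (a * (f * a * f⁻¹)⁻¹) := by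
                rw [h.comm (i := false) hnQ ha]; group
        have h7 : a * (f * a * f⁻¹)⁻¹ ∈ D := by
          have h8 : a * (f * a * f⁻¹)⁻¹ = (f * a * f⁻¹ * a)⁻¹ := by
            rw [mul_inv_rev (f * a * f⁻¹) a, h.inv_eq ha]
          rw [h8]
          exact inv_mem hfa
        have h9 : e * (f * (n * a) * f⁻¹)⁻¹ ∈ D := by
          rw [h3]
          exact mul_mem (inv_mem hna) h7
        exact (D.mul_mem_cancel_right (inv_mem (h.Dn hF.mem hna))).1 h9
      have h3 : f * n * f⁻¹ = e * n := by rw [he]; group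
      have h4 : f * (n * c * n⁻¹ * c⁻¹) * f⁻¹ =
          n * (f * c * f⁻¹) * n⁻¹ * (f * c * f⁻¹)⁻¹ := by
        have hfc : f * c * f⁻¹ ∈ S0 := h.S0n hF.mem (h.Q_le _ hc)
        calc f * (n * c * n⁻¹ * c⁻¹) * f⁻¹ =
            (f * n * f⁻¹) * (f * c * f⁻¹) * (f * n * f⁻¹)⁻¹ * (f * c * f⁻¹)⁻¹ := by group
          _ = (e * n) * (f * c * f⁻¹) * (e * n)⁻¹ * (f * c * f⁻¹)⁻¹ := by rw [h3]
          _ = e * (n * (f * c * f⁻¹) * n⁻¹) * e⁻¹ * (f * c * f⁻¹)⁻¹ := by group
          _ = (n * (f * c * f⁻¹) * n⁻¹ * e) * e⁻¹ * (f * c * f⁻¹)⁻¹ := by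
              rw [h.central (mul_mem (mul_mem (h.Q_le _ hnQ) hfc) (inv_mem (h.Q_le _ hnQ))) heD]
          _ = _ := by group
      rw [h4] at h2
      -- `[n, f c f⁻¹] = [n, c]`, so `n` commutes with `c⁻¹ (f c f⁻¹)`
      have hfc : f * c * f⁻¹ ∈ Q true := h.Qn _ f hF.mem _ hc
      have h5 : n * (c⁻¹ * (f * c * f⁻¹)) = c⁻¹ * (f * c * f⁻¹) * n := by
        have h6 : n * (f * c * f⁻¹) * n⁻¹ = (n * c * n⁻¹ * c⁻¹) * (f * c * f⁻¹) := by
          rw [← h2]; group
        have h7 : n * c⁻¹ * n⁻¹ = (n * c * n⁻¹)⁻¹ := by group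
        have h8 : n * (c⁻¹ * (f * c * f⁻¹)) * n⁻¹ = c⁻¹ * (f * c * f⁻¹) := by
          calc n * (c⁻¹ * (f * c * f⁻¹)) * n⁻¹ = (n * c⁻¹ * n⁻¹) * (n * (f * c * f⁻¹) * n⁻¹) := by
                group
            _ = (n * c * n⁻¹)⁻¹ * ((n * c * n⁻¹ * c⁻¹) * (f * c * f⁻¹)) := by rw [h7, h6]
            _ = _ := by group
        rwa [mul_inv_eq_iff_eq_mul] at h8
      rcases h.cen n hnQ _ (mul_mem (inv_mem hc) hfc) h5 with h6 | h6
      · exact hnD h6
      · apply hcf
        rw [h.inv_eq hc, h.comm hc hfc] at h6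
        exact h6
  -- `4 |R' ∩ D| ≤ |R' ∩ S₀|`
  have h2 : 4 * Nat.card (R' ⊓ D : Subgroup G) ≤ Nat.card (R' ⊓ S0 : Subgroup G) := by
    refine four_mul_le (a := n) (b := m) (inf_le_inf_left _ h.D_le0) (hR2.to_le inf_le_left)
      (Subgroup.mem_inf.2 ⟨hnR, h.Q_le _ hnQ⟩) (fun hc => hnD (Subgroup.mem_inf.1 hc).2)
      (Subgroup.mem_inf.2 ⟨hm, h.Q_le _ hmQ⟩) (fun hc => hmD (Subgroup.mem_inf.1 hc).2) ?_
    intro hc
    have h3 := (Subgroup.mem_inf.1 hc).2
    apply hmD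
    have h4 : m ∈ Q false := ((Q false).mul_mem_cancel_left hnQ).1 (h.D_le false h3)
    exact h.memD (i := false) h4 hmQ
  have h3 : 2 * Nat.card (R' ⊓ S0 : Subgroup G) ≤ Nat.card R' :=
    two_mul_le inf_le_left hf fun hc => hF.not (Subgroup.mem_inf.1 hc).2
  rw [hn.cC f hF] at h1
  omega

/-- The case `R' ≤ S₀`. -/
theorem Ext.false_of_le (h : Amb (S : Subgroup G) S0 D Q) (hn : Num (S : Subgroup G) S0 D Q)
    {y k : G} {R R' : Subgroup G} (hE : Ext (S : Subgroup G) S0 D R y k R')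
    (hy : Amb.Fld (S : Subgroup G) S0 y) (hy1 : y * y = 1) (hR : R' ≤ S0) : False := by
  have h32 := hE.card_le' h hn hy hy1
  have hD : D ≤ R' := fun d hd =>
    hE.ct.cen d (hE.comm d (h.D_le0 hd)) fun r hr => (h.central (hR hr) hd).symm
  obtain ⟨a, haR, ha0, haD⟩ := hE.not_le
  -- the index of `D` in `R'` is two
  have hrel : D.relIndex R' = 2 := by
    have h1 := relIndex_mul hD
    rw [hn.cD] at h1
    have h2 := relIndex_ne_zero' D R'
    have h3 : D.relIndex R' ≠ 1 := fun hc => haD ((Subgroup.relIndex_eq_one.1 hc) haR)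
    omega
  have hdec : ∀ r ∈ R', r ∈ D ∨ ∃ d ∈ D, r = a * d := by
    intro r hr
    by_cases hrD : r ∈ D
    · exact Or.inl hrD
    · right
      rw [Subgroup.relIndex] at hrel
      have h9 := (Subgroup.mul_mem_iff_of_index_two hrel (a := (⟨a, haR⟩ : R')⁻¹)
        (b := ⟨r, hr⟩)).2 (by
          rw [inv_mem_iff, Subgroup.mem_subgroupOf, Subgroup.mem_subgroupOf]
          exact iff_of_false haD hrD)
      refine ⟨a⁻¹ * r, Subgroup.mem_subgroupOf.1 h9, by group⟩
  by_cases haa : a * a = 1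
  · -- `R' ≤ Q_i`
    obtain ⟨i, hi⟩ : ∃ i, a ∈ Q i := by
      rcases h.mem_or ha0 haa with h1 | h1
      · exact ⟨_, h1⟩
      · exact ⟨_, h1⟩
    have hRQ : R' ≤ Q i := by
      intro r hr
      rcases hdec r hr with h1 | ⟨d, hd, rfl⟩
      · exact h.D_le i h1
      · exact mul_mem hi (h.D_le i hd)
    have hQR : Q i ≤ R' := fun x hx =>
      hE.ct.cen x (hE.comm x (h.Q_le i hx)) fun r hr => h.comm hx (hRQ hr)
    have h1 := Subgroup.card_le_of_le hQR
    rw [hn.cQ i] at h1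
    omega
  · -- `D = {t ∈ R' : t² = 1}`
    have hDc : ∀ t ∈ R', t ∈ D ↔ t * t = 1 := by
      intro t ht
      refine ⟨fun hc => h.sq false t (h.D_le _ hc), fun hc => ?_⟩
      rcases hdec t ht with h1 | ⟨d, hd, rfl⟩
      · exact h1
      · exfalso
        apply haa
        have h2 : a * d = d * a := h.central ha0 hd
        calc a * a = a * (d * d) * a := by rw [h.sq false d (h.D_le _ hd), mul_one]
          _ = (a * d) * (d * a) := by group
          _ = 1 := by rw [← h2]; exact hc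
    set u := k * y * k⁻¹ with hu
    -- the group of `g ∈ C_G(u)` centralising `D` and `R' / D`
    let K : Subgroup G :=
      { carrier := {g | g * u = u * g ∧ (∀ d ∈ D, g * d = d * g) ∧ g * a * g⁻¹ * a⁻¹ ∈ D}
        one_mem' := ⟨by simp, fun d _ => by simp, by simp⟩
        mul_mem' := by
          rintro x y ⟨hx, hx', hx''⟩ ⟨hy, hy', hy''⟩
          refine ⟨?_, fun d hd => ?_, ?_⟩
          · rw [mul_assoc, hy, ← mul_assoc, hx, mul_assoc]
          · rw [mul_assoc, hy' d hd, ← mul_assoc, hx' d hd, mul_assoc]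
          · have e : x * y * a * (x * y)⁻¹ * a⁻¹ =
                x * (y * a * y⁻¹ * a⁻¹) * x⁻¹ * (x * a * x⁻¹ * a⁻¹) := by group
            rw [e]
            refine mul_mem ?_ hx''
            rw [hx' _ hy'', mul_assoc, mul_inv_cancel, mul_one]
            exact hy''
        inv_mem' := by
          rintro x ⟨hx, hx', hx''⟩
          refine ⟨?_, fun d hd => ?_, ?_⟩
          · calc x⁻¹ * u = x⁻¹ * (u * x) * x⁻¹ := by group
              _ = x⁻¹ * (x * u) * x⁻¹ := by rw [hx]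
              _ = u * x⁻¹ := by group
          · have := hx' d hd
            calc x⁻¹ * d = x⁻¹ * (d * x) * x⁻¹ := by group
              _ = x⁻¹ * (x * d) * x⁻¹ := by rw [this]
              _ = d * x⁻¹ := by group
          · have h1 := hx' _ hx''
            have e : x⁻¹ * a * x⁻¹⁻¹ * a⁻¹ = x⁻¹ * (x * a * x⁻¹ * a⁻¹)⁻¹ * x := by group
            have h2 : (x * a * x⁻¹ * a⁻¹)⁻¹ * x = x * (x * a * x⁻¹ * a⁻¹)⁻¹ :=
              (hx' _ (inv_mem hx'')).symm
            rw [e, mul_assoc, h2, ← mul_assoc, inv_mul_cancel, one_mul]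
            exact inv_mem hx'' }
    have hKmem : ∀ {g : G}, g ∈ K ↔ g * u = u * g ∧ (∀ d ∈ D, g * d = d * g) ∧
        g * a * g⁻¹ * a⁻¹ ∈ D := Iff.rfl
    have hKR : K ≤ R' := by
      refine hE.ct.max K (fun g hg => (hKmem.1 hg).1) ?_ ?_
      · intro g hg x hx
        obtain ⟨hx1, hx2, hx3⟩ := hKmem.1 hx
        replace hg : g * u = u * g := hg
        have hg' : g⁻¹ * u = u * g⁻¹ := by
          calc g⁻¹ * u = g⁻¹ * (u * g) * g⁻¹ := by group
            _ = g⁻¹ * (g * u) * g⁻¹ := by rw [hg]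
            _ = u * g⁻¹ := by group
        have hRn := hE.ct.nrm g hg
        have hRn' := hE.ct.nrm g⁻¹ hg'
        have hDn : ∀ {v : G}, v * u = u * v → ∀ d ∈ D, v * d * v⁻¹ ∈ D := by
          intro v hv d hd
          rw [hDc _ (hE.ct.nrm v hv d (hD hd))]
          calc v * d * v⁻¹ * (v * d * v⁻¹) = v * (d * d) * v⁻¹ := by group
            _ = 1 := by rw [h.sq false d (h.D_le _ hd)]; group
        refine hKmem.2 ⟨?_, ?_, ?_⟩
        · calc g * x * g⁻¹ * u = g * x * (g⁻¹ * u) := by group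
            _ = g * (x * u) * g⁻¹ := by rw [hg']; group
            _ = (g * u) * x * g⁻¹ := by rw [hx1]; group
            _ = _ := by rw [hg]; group
        · intro d hd
          have h1 := hDn hg' d hd
          rw [inv_inv] at h1
          have h2 := hx2 _ h1
          calc g * x * g⁻¹ * d = g * (x * (g⁻¹ * d * g)) * g⁻¹ := by group
            _ = g * ((g⁻¹ * d * g) * x) * g⁻¹ := by rw [h2]
            _ = _ := by group
        · -- `g⁻¹ a g = a d`
          have h1 := hRn' a haR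
          rw [inv_inv] at h1
          have h2 : g⁻¹ * a * g ∉ D := by
            intro hc
            apply haD
            have h3 := hDn hg _ hc
            have e : g * (g⁻¹ * a * g) * g⁻¹ = a := by group
            rwa [e] at h3
          rcases hdec _ h1 with h3 | ⟨d, hd, h3⟩
          · exact absurd h3 h2
          · have h4 : x * (g⁻¹ * a * g) * x⁻¹ * (g⁻¹ * a * g)⁻¹ = x * a * x⁻¹ * a⁻¹ := by
              rw [h3]
              have h5 := hx2 d hd
              calc x * (a * d) * x⁻¹ * (a * d)⁻¹ = x * a * (d * x⁻¹) * d⁻¹ * a⁻¹ := by group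
                _ = x * a * (x⁻¹ * d) * d⁻¹ * a⁻¹ := by
                    have h6 : d * x⁻¹ = x⁻¹ * d := by
                      calc d * x⁻¹ = x⁻¹ * (x * d) * x⁻¹ := by group
                        _ = x⁻¹ * (d * x) * x⁻¹ := by rw [h5]
                        _ = _ := by group
                    rw [h6]
                _ = _ := by group
            have e : g * x * g⁻¹ * a * (g * x * g⁻¹)⁻¹ * a⁻¹ =
                g * (x * (g⁻¹ * a * g) * x⁻¹ * (g⁻¹ * a * g)⁻¹) * g⁻¹ := by group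
            rw [e, h4]
            exact hDn hg _ hx3
      · -- `K` is a 2-group
        rintro ⟨g, hg⟩
        obtain ⟨hg1, hg2, hg3⟩ := hKmem.1 hg
        have h1 : g * g ∈ R' := by
          refine hE.ct.cen _ ?_ ?_
          · rw [mul_assoc, hg1, ← mul_assoc, hg1, mul_assoc]
          · -- `g²` centralises `a`
            set c := g * a * g⁻¹ * a⁻¹ with hc
            have h4 : g * a * g⁻¹ = c * a := by rw [hc]; group
            have h5 := hg2 _ hg3
            have h6 : g * g * a = a * (g * g) := by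
              have h7 : g * g * a * (g * g)⁻¹ = a := by
                calc g * g * a * (g * g)⁻¹ = g * (g * a * g⁻¹) * g⁻¹ := by group
                  _ = (g * c) * a * g⁻¹ := by rw [h4]; group
                  _ = c * (g * a * g⁻¹) := by rw [h5]; group
                  _ = (c * c) * a := by rw [h4]; group
                  _ = a := by rw [h.sq false c (h.D_le _ hg3), one_mul]
              rwa [mul_inv_eq_iff_eq_mul] at h7
            intro r hr
            rcases hdec r hr with h8 | ⟨d, hd, rfl⟩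
            · rw [mul_assoc, hg2 r h8, ← mul_assoc, hg2 r h8, mul_assoc]
            · have h9 : g * g * d = d * (g * g) := by
                rw [mul_assoc, hg2 d hd, ← mul_assoc, hg2 d hd, mul_assoc]
              rw [← mul_assoc, h6, mul_assoc, h9, ← mul_assoc]
        obtain ⟨n, hn'⟩ := hE.ct.two ⟨_, h1⟩
        refine ⟨n + 1, Subtype.ext ?_⟩
        show g ^ 2 ^ (n + 1) = 1
        have h2 : (g * g) ^ 2 ^ n = 1 := congrArg Subtype.val hn'
        rw [pow_succ', pow_mul, pow_two]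
        exact h2
    have h1 : S0 ≤ R' := by
      intro x hx
      refine hKR (hKmem.2 ⟨hE.comm x hx, fun d hd => h.central hx hd, h.comm_mem0 hx ha0⟩)
    have h2 := Subgroup.card_le_of_le ((h.Q_le false).trans h1)
    rw [hn.cQ false] at h2
    omega

/-- **Type `Sp₄(4)`: `S = S₀`.** -/
theorem close_four_four (h : Amb (S : Subgroup G) S0 D Q) {P L C : Bool → Subgroup G}
    (l : ∀ i, Lin (S : Subgroup G) S0 D (Q i) (P i) (L i) (C i))
    (hC : ∀ c, (∀ i, c ∈ C i) → c = 1) (hct : CTs (S : Subgroup G) S0)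
    (hn : Num (S : Subgroup G) S0 D Q) : (S : Subgroup G) = S0 := by
  by_contra hne
  have hn' : ¬ (S : Subgroup G) ≤ S0 := fun hc => hne (le_antisymm hc h.S0_le)
  obtain ⟨f, -, hF⟩ := exists_fld le_rfl hn'
  obtain ⟨y, hy, hy1⟩ := h.exists_inv hF
  obtain ⟨R, hR⟩ := hct y hy.mem hy.not hy1
  obtain ⟨k, R', hE⟩ := exists_ext h l hC hy hy1 hR
  by_cases hR' : R' ≤ S0
  · exact hE.false_of_le h hn hy hy1 hR'
  · exact hE.false_of_not_le h hn hy hy1 hR'

end Cfsg.Agent.Omega.CloseA
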