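import Mathlib

/-!
# Semilinear maps in the closings of type `L₃(q)`, `Sp₄(q)`

Field automorphisms `σ` of order two of a finite field of characteristic two, the maps `a ↦ c σ(a)` of
order two (`c σ(c) = 1`), coordinates `φ : V → F` of an abelian section and the maps induced by
conjugation.
-/

set_option autoImplicit false

namespace Cfsg.Agent.Omega.CloseA

section Alg

variable {F : Type*} [Field F]

/-- Involutory automorphisms of a finite field of characteristic two are unique. -/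
theorem invol_unique [Finite F] [CharP F 2] {σ τ : F →+* F} (hσ : ∀ a, σ (σ a) = a)
    (hτ : ∀ a, τ (τ a) = a) (h1 : ∃ a, σ a ≠ a) (h2 : ∃ a, τ a ≠ a) : σ = τ := by
  classical
  let _ : Algebra (ZMod 2) F := ZMod.algebra F 2
  have hb : ∀ {ρ : F →+* F}, (∀ a, ρ (ρ a) = a) → Function.Bijective ρ := fun {ρ} h =>
    ⟨ρ.injective, fun a => ⟨ρ a, h a⟩⟩
  let e : ∀ ρ : F →+* F, (∀ a, ρ (ρ a) = a) → (F ≃ₐ[ZMod 2] F) := fun ρ h =>
    AlgEquiv.ofRingEquiv (f := RingEquiv.ofBijective ρ (hb h)) (fun r =>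
      RingHom.congr_fun (RingHom.ext_zmod (ρ.comp (algebraMap (ZMod 2) F)) (algebraMap (ZMod 2) F)) r)
  have he : ∀ (ρ : F →+* F) (h : ∀ a, ρ (ρ a) = a) (a : F), e ρ h a = ρ a := fun _ _ _ => rfl
  have hord : ∀ (ρ : F →+* F) (h : ∀ a, ρ (ρ a) = a), (∃ a, ρ a ≠ a) → orderOf (e ρ h) = 2 := by
    intro ρ h hne
    refine orderOf_eq_prime ?_ ?_
    · ext a
      rw [pow_two, AlgEquiv.mul_apply, he ρ h, he ρ h]
      exact h a
    · intro hc
      obtain ⟨a, ha⟩ := hne
      apply ha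
      rw [← he ρ h, hc]
      rfl
  have _ : Fintype (F ≃ₐ[ZMod 2] F) := Fintype.ofFinite _
  have hcyc : IsCyclic (F ≃ₐ[ZMod 2] F) := inferInstance
  have hd : 2 ∣ Fintype.card (F ≃ₐ[ZMod 2] F) := by
    have h3 := orderOf_dvd_card (x := e σ hσ)
    have h4 := hord σ hσ h1
    exact (dvd_of_eq h4.symm).trans h3
  have hcard := IsCyclic.card_orderOf_eq_totient hd
  rw [Nat.totient_two, Finset.card_eq_one] at hcard
  obtain ⟨g, hg⟩ := hcard
  have m1 : e σ hσ ∈ Finset.univ.filter (fun a : F ≃ₐ[ZMod 2] F => orderOf a = 2) :=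
    Finset.mem_filter.2 ⟨Finset.mem_univ _, hord σ hσ h1⟩
  have m2 : e τ hτ ∈ Finset.univ.filter (fun a : F ≃ₐ[ZMod 2] F => orderOf a = 2) :=
    Finset.mem_filter.2 ⟨Finset.mem_univ _, hord τ hτ h2⟩
  rw [hg, Finset.mem_singleton] at m1 m2
  ext a
  rw [← he σ hσ, ← he τ hτ, m1, m2]

/-- In a field with four elements every automorphism has order at most two. -/
theorem sq_of_card_four [Finite F] [CharP F 2] (hF : Nat.card F = 4) (σ : F →+* F) (a : F) :
    σ (σ a) = a := by
  have key : ∀ t : F, t ≠ 0 → t ≠ 1 → t * t + t + 1 = 0 := by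
    intro t h0 h1
    have _ : Fintype F := Fintype.ofFinite F
    have h3 : t ^ 4 = t := by
      have := FiniteField.pow_card t
      rwa [← Nat.card_eq_fintype_card, hF] at this
    have h4 : t * (t - 1) * (t * t + t + 1) = 0 := by
      linear_combination h3
    rcases mul_eq_zero.1 h4 with h5 | h5
    · rcases mul_eq_zero.1 h5 with h6 | h6
      · exact absurd h6 h0
      · exact absurd (sub_eq_zero.1 h6) h1
    · exact h5
  by_cases h0 : a = 0
  · rw [h0, map_zero, map_zero]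
  by_cases h1 : a = 1
  · rw [h1, map_one, map_one]
  have h2 : σ a = a ∨ σ a = a + 1 := by
    have e1 := key a h0 h1
    have e2 : σ a * σ a + σ a + 1 = 0 := by
      rw [← map_mul, ← map_add, ← map_one σ, ← map_add, e1, map_zero]
    have h2 : (2 : F) = 0 := CharTwo.two_eq_zero
    have e3 : (σ a - a) * (σ a - (a + 1)) = 0 := by
      linear_combination e2 - e1 + (- σ a * a - σ a + a * a + a) * h2
    rcases mul_eq_zero.1 e3 with h5 | h5
    · exact Or.inl (sub_eq_zero.1 h5)
    · exact Or.inr (sub_eq_zero.1 h5)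
  rcases h2 with h3 | h3
  · rw [h3, h3]
  · rw [h3, map_add, map_one, h3, add_assoc, CharTwo.add_self_eq_zero, add_zero]

/-- The data of a semilinear map of order two. -/
structure Inv2 (σ : F →+* F) (c : F) : Prop where
  inv : ∀ a, σ (σ a) = a
  ne : ∃ a, σ a ≠ a
  c1 : c * σ c = 1

variable {σ : F →+* F} {c : F}

theorem Inv2.c0 (h : Inv2 σ c) : c ≠ 0 := by
  rintro rfl
  have := h.c1
  simp at this

theorem Inv2.sq (h : Inv2 σ c) (a : F) : c * σ (c * σ a) = a := by
  rw [map_mul, h.inv, ← mul_assoc, h.c1, one_mul]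

/-- Hilbert 90: fixed points are norms. -/
theorem Inv2.hilbert [CharP F 2] (h : Inv2 σ c) {a : F} (ha : c * σ a = a) :
    ∃ e, c * σ e + e = a := by
  obtain ⟨θ, hθ⟩ := h.ne
  have h1 : σ θ + θ ≠ 0 := by
    intro hc
    apply hθ
    rw [add_eq_zero_iff_eq_neg, CharTwo.neg_eq] at hc
    exact hc
  have h2 : σ (σ θ + θ) = σ θ + θ := by
    rw [map_add, h.inv, add_comm]
  refine ⟨θ / (σ θ + θ) * a, ?_⟩
  rw [map_mul, map_div₀, h2]
  have h3 : c * (σ θ / (σ θ + θ) * σ a) = σ θ / (σ θ + θ) * a := by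
    calc c * (σ θ / (σ θ + θ) * σ a) = σ θ / (σ θ + θ) * (c * σ a) := by ring
      _ = _ := by rw [ha]
  rw [h3]
  field_simp

/-- A nonzero fixed point. -/
theorem Inv2.exists_fix [CharP F 2] (h : Inv2 σ c) : ∃ a, a ≠ 0 ∧ c * σ a = a := by
  obtain ⟨b, hb⟩ : ∃ b, c * σ b ≠ b := by
    by_contra hc
    push Not at hc
    have h1 := hc 1
    rw [map_one, mul_one] at h1
    obtain ⟨θ, hθ⟩ := h.ne
    apply hθ
    have := hc θ
    rwa [h1, one_mul] at this
  refine ⟨c * σ b + b, ?_, ?_⟩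
  · intro h0
    apply hb
    rw [add_eq_zero_iff_eq_neg, CharTwo.neg_eq] at h0
    exact h0
  · rw [map_add, mul_add, h.sq, add_comm]

/-- A fixed element of `σ` different from `0, 1`. -/
theorem Inv2.exists_lam [Finite F] [CharP F 2] (h : Inv2 σ c) (hF : 4 < Nat.card F) :
    ∃ l, l ≠ 0 ∧ l ≠ 1 ∧ σ l = l := by
  by_contra hc
  push Not at hc
  have h2 : (2 : F) = 0 := CharTwo.two_eq_zero
  have key : ∀ t : F, t = 0 ∨ t = 1 ∨ t * t + t + 1 = 0 := by
    intro t
    have e1 : σ (σ t + t) = σ t + t := by rw [map_add, h.inv, add_comm]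
    have e2 : σ (σ t * t) = σ t * t := by rw [map_mul, h.inv, mul_comm]
    have a1 : σ t + t = 0 ∨ σ t + t = 1 := by
      by_contra hh
      push Not at hh
      exact hc _ hh.1 hh.2 e1
    have a2 : σ t * t = 0 ∨ σ t * t = 1 := by
      by_contra hh
      push Not at hh
      exact hc _ hh.1 hh.2 e2
    -- `t` is a root of `X² + (σt + t) X + σt t`
    have e3 : t * t + (σ t + t) * t + σ t * t = 0 := by
      linear_combination (t * t + σ t * t) * h2
    rcases a1 with a1 | a1 <;> rcases a2 with a2 | a2 <;> rw [a1, a2] at e3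
    · left
      have : t * t = 0 := by linear_combination e3
      exact mul_self_eq_zero.1 this
    · right; left
      have : (t - 1) * (t - 1) = 0 := by linear_combination e3 - t * h2
      exact sub_eq_zero.1 (mul_self_eq_zero.1 this)
    · have : t * (t - 1) = 0 := by linear_combination e3 - t * h2
      rcases mul_eq_zero.1 this with h5 | h5
      · exact Or.inl h5
      · exact Or.inr (Or.inl (sub_eq_zero.1 h5))
    · right; right
      linear_combination e3
  -- at most four elements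
  have _ : Fintype F := Fintype.ofFinite F
  classical
  obtain ⟨θ, hθ0⟩ : ∃ θ : F, θ * θ + θ + 1 = 0 := by
    obtain ⟨θ, hθ⟩ := h.ne
    refine ⟨θ, ?_⟩
    rcases key θ with h5 | h5 | h5
    · rw [h5, map_zero] at hθ; exact absurd rfl hθ
    · rw [h5, map_one] at hθ; exact absurd rfl hθ
    · exact h5
  have hall : (Finset.univ : Finset F) ⊆ {0, 1, θ, θ + 1} := by
    intro t _
    simp only [Finset.mem_insert, Finset.mem_singleton]
    rcases key t with h5 | h5 | h5
    · exact Or.inl h5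
    · exact Or.inr (Or.inl h5)
    · right; right
      have : (t - θ) * (t - (θ + 1)) = 0 := by
        linear_combination h5 - hθ0 + (- t * θ - t + θ * θ + θ) * h2
      rcases mul_eq_zero.1 this with h6 | h6
      · exact Or.inl (sub_eq_zero.1 h6)
      · exact Or.inr (sub_eq_zero.1 h6)
  have h6 := Finset.card_le_card hall
  rw [Finset.card_univ, ← Nat.card_eq_fintype_card] at h6
  have h7 := Finset.card_le_four (a := (0 : F)) (b := 1) (c := θ) (d := θ + 1)
  omega

/-- Two independent fixed points for `|F| > 4`. -/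
theorem Inv2.exists_big [Finite F] [CharP F 2] (h : Inv2 σ c) (hF : 4 < Nat.card F) :
    ∃ a b, a ≠ 0 ∧ b ≠ 0 ∧ a + b ≠ 0 ∧ c * σ a = a ∧ c * σ b = b := by
  obtain ⟨a, ha, hfa⟩ := h.exists_fix
  obtain ⟨l, hl0, hl1, hl⟩ := h.exists_lam hF
  refine ⟨a, l * a, ha, mul_ne_zero hl0 ha, ?_, hfa, ?_⟩
  · intro hc
    apply hl1
    have h1 : (l - 1) * a = 0 := by
      have h2 : (2 : F) = 0 := CharTwo.two_eq_zero
      linear_combination hc - a * h2
    rcases mul_eq_zero.1 h1 with h5 | h5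
    · exact sub_eq_zero.1 h5
    · exact absurd h5 ha
  · rw [map_mul, hl]
    calc c * (l * σ a) = l * (c * σ a) := by ring
      _ = _ := by rw [hfa]

/-- The number of fixed points for `|F| = 4`. -/
theorem Inv2.card_fix [Finite F] [CharP F 2] (h : Inv2 σ c) (hF : Nat.card F = 4) :
    Nat.card {a : F // c * σ a = a} = 2 := by
  have _ : Fintype F := Fintype.ofFinite F
  -- the additive map `a ↦ c σ(a) + a`
  let T : F →+ F := AddMonoidHom.mk' (fun a => c * σ a + a) fun a b => by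
    rw [map_add]; ring
  have h1 : T.ker = T.range := by
    ext a
    rw [AddMonoidHom.mem_ker, AddMonoidHom.mem_range]
    constructor
    · intro ha
      have ha' : c * σ a + a = 0 := ha
      rw [add_eq_zero_iff_eq_neg, CharTwo.neg_eq] at ha'
      obtain ⟨e, he⟩ := h.hilbert ha'
      exact ⟨e, he⟩
    · rintro ⟨e, rfl⟩
      show c * σ (c * σ e + e) + (c * σ e + e) = 0
      rw [map_add, mul_add, h.sq]
      have h2 : (2 : F) = 0 := CharTwo.two_eq_zero
      linear_combination (e + c * σ e) * h2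
  have h2 : Nat.card T.ker * Nat.card T.range = Nat.card F := by
    rw [← AddSubgroup.index_ker]
    exact T.ker.card_mul_index
  rw [← h1, hF] at h2
  have h3 : Nat.card T.ker = 2 := by nlinarith
  rw [← h3]
  refine Nat.card_congr (Equiv.subtypeEquivRight fun a => ?_)
  rw [AddMonoidHom.mem_ker]
  show c * σ a = a ↔ c * σ a + a = 0
  rw [add_eq_zero_iff_eq_neg, CharTwo.neg_eq]

/-- `C(ab) = A(a) B(b)` forces semilinearity. -/
theorem exists_semi {A B C : F →+ F} (hA : A 1 ≠ 0) (hB : B 1 ≠ 0)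
    (h : ∀ a b, C (a * b) = A a * B b) :
    ∃ σ : F →+* F, (∀ a, A a = A 1 * σ a) ∧ (∀ a, B a = B 1 * σ a) ∧
      ∀ a, C a = A 1 * B 1 * σ a := by
  have hCA : ∀ a, C a = A a * B 1 := fun a => by
    have := h a 1
    rwa [mul_one] at this
  have hCB : ∀ a, C a = A 1 * B a := fun a => by
    have := h 1 a
    rwa [one_mul] at this
  let σ : F →+* F :=
    { toFun := fun a => (A 1)⁻¹ * A a
      map_one' := inv_mul_cancel₀ hA
      map_zero' := by simp
      map_add' := fun a b => by rw [map_add, mul_add]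
      map_mul' := fun a b => by
        have h1 : A (a * b) * B 1 = A a * B b := by rw [← hCA, h]
        have h2 : A 1 * B b = A b * B 1 := by rw [← hCA, ← hCB]
        have h3 : A (a * b) * (A 1 * B 1) = A a * A b * B 1 := by
          calc A (a * b) * (A 1 * B 1) = A 1 * (A (a * b) * B 1) := by ring
            _ = A a * (A 1 * B b) := by rw [h1]; ring
            _ = _ := by rw [h2]; ring
        have h4 : A (a * b) * A 1 = A a * A b := by
          apply mul_right_cancel₀ hB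
          rw [← h3]; ring
        field_simp
        linear_combination h4 }
  have hσ : ∀ a, σ a = (A 1)⁻¹ * A a := fun _ => rfl
  refine ⟨σ, fun a => by rw [hσ]; field_simp, fun a => ?_, fun a => ?_⟩
  · rw [hσ]
    have h2 : A 1 * B a = A a * B 1 := by rw [← hCA, ← hCB]
    field_simp
    linear_combination h2
  · rw [hσ, hCA]
    field_simp

end Alg

section Sect

variable {G : Type*} [Group G] {F : Type*} [Field F]

/-- A coordinate `φ : V → F` with kernel `W`. -/
structure Crd (V W : Subgroup G) (φ : G → F) : Prop where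
  mul : ∀ u ∈ V, ∀ v ∈ V, φ (u * v) = φ u + φ v
  surj : ∀ a, ∃ u ∈ V, φ u = a
  ker : ∀ u ∈ V, φ u = 0 ↔ u ∈ W

variable {V W : Subgroup G} {φ : G → F}

theorem Crd.one (h : Crd V W φ) : φ 1 = 0 := by
  have := h.mul 1 (one_mem _) 1 (one_mem _)
  rw [one_mul] at this
  simpa using this

theorem Crd.inv (h : Crd V W φ) {u : G} (hu : u ∈ V) : φ u⁻¹ = - φ u := by
  have := h.mul u hu u⁻¹ (inv_mem hu)
  rw [mul_inv_cancel, h.one] at this
  linear_combination - this

theorem Crd.eq_iff (h : Crd V W φ) {u v : G} (hu : u ∈ V) (hv : v ∈ V) :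
    φ u = φ v ↔ u * v⁻¹ ∈ W := by
  rw [← h.ker _ (mul_mem hu (inv_mem hv)), h.mul _ hu _ (inv_mem hv), h.inv hv]
  constructor
  · intro e; rw [e]; ring
  · intro e; linear_combination e

/-- `φ(sus⁻¹) = c σ(φ(u))`. -/
def SL (V : Subgroup G) (φ : G → F) (s : G) (c : F) (σ : F →+* F) : Prop :=
  ∀ u ∈ V, φ (s * u * s⁻¹) = c * σ (φ u)

/-- Conjugation induces an additive map. -/
theorem Crd.exists_push (h : Crd V W φ) {s : G} (hV : ∀ u ∈ V, s * u * s⁻¹ ∈ V)
    (hW : ∀ u ∈ W, s * u * s⁻¹ ∈ W) : ∃ A : F →+ F, ∀ u ∈ V, φ (s * u * s⁻¹) = A (φ u) := by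
  choose f hf hφ using h.surj
  have key : ∀ u ∈ V, ∀ v ∈ V, φ u = φ v → φ (s * u * s⁻¹) = φ (s * v * s⁻¹) := by
    intro u hu v hv huv
    rw [h.eq_iff hu hv] at huv
    rw [h.eq_iff (hV u hu) (hV v hv)]
    have := hW _ huv
    have e : s * u * s⁻¹ * (s * v * s⁻¹)⁻¹ = s * (u * v⁻¹) * s⁻¹ := by group
    rwa [e]
  refine ⟨AddMonoidHom.mk' (fun a => φ (s * f a * s⁻¹)) fun a b => ?_, fun u hu => ?_⟩
  · show φ (s * f (a + b) * s⁻¹) = φ (s * f a * s⁻¹) + φ (s * f b * s⁻¹)
    rw [← h.mul _ (hV _ (hf a)) _ (hV _ (hf b))]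
    have e : s * f a * s⁻¹ * (s * f b * s⁻¹) = s * (f a * f b) * s⁻¹ := by group
    rw [e]
    refine key _ (hf _) _ (mul_mem (hf _) (hf _)) ?_
    rw [h.mul _ (hf a) _ (hf b), hφ, hφ, hφ]
  · exact key u hu _ (hf _) (hφ _).symm

theorem Crd.push_ne (h : Crd V W φ) {s : G} (hV : ∀ u ∈ V, s * u * s⁻¹ ∈ V)
    (hW' : ∀ u, s * u * s⁻¹ ∈ W → u ∈ W) {A : F →+ F}
    (hA : ∀ u ∈ V, φ (s * u * s⁻¹) = A (φ u)) : A 1 ≠ 0 := by
  intro h0
  obtain ⟨u, hu, hu1⟩ := h.surj 1
  rw [← hu1, ← hA u hu, h.ker _ (hV u hu)] at h0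
  have h2 := hW' u h0
  rw [← h.ker u hu, hu1] at h2
  exact one_ne_zero h2

theorem SL.mul {s t : G} {c d : F} {σ τ : F →+* F} (ht : ∀ u ∈ V, t * u * t⁻¹ ∈ V)
    (h1 : SL V φ s c σ) (h2 : SL V φ t d τ) : SL V φ (s * t) (c * σ d) (σ.comp τ) := by
  intro u hu
  have e : s * t * u * (s * t)⁻¹ = s * (t * u * t⁻¹) * s⁻¹ := by group
  rw [e, h1 _ (ht u hu), h2 u hu, map_mul, RingHom.comp_apply]
  ring

theorem SL.uniq (h : Crd V W φ) {s : G} {c d : F} {σ τ : F →+* F} 
    (h1 : SL V φ s c σ) (h2 : SL V φ s d τ) (hc : c ≠ 0) : c = d ∧ σ = τ := by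
  have h3 : ∀ a, c * σ a = d * τ a := by
    intro a
    obtain ⟨u, hu, rfl⟩ := h.surj a
    rw [← h1 u hu, ← h2 u hu]
  have h4 : c = d := by
    have := h3 1
    rwa [map_one, map_one, mul_one, mul_one] at this
  refine ⟨h4, RingHom.ext fun a => ?_⟩
  have := h3 a
  rw [← h4] at this
  exact mul_left_cancel₀ hc this

end Sect

end Cfsg.Agent.Omega.CloseA
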