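import Mathlib
import Cfsg.Agent.Omega.CloseA.Semi
import Cfsg.Agent.Omega.CloseA.Four

/-!
# Closings of type `L₃(q)`, `Sp₄(q)`: from the coordinates `Co3`, `Co4` to `Amb`
-/

set_option autoImplicit false

namespace Cfsg.Agent.Omega.CloseA

variable {G : Type*} [Group G]

/-- A pair as a function on `Bool`. -/
def pr {α : Type*} (a b : α) : Bool → α
  | false => a
  | true => b

@[simp] theorem pr_false {α : Type*} (a b : α) : pr a b false = a := rfl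
@[simp] theorem pr_true {α : Type*} (a b : α) : pr a b true = b := rfl

/-- `S` normalises `Q₁`, `Q₂`; `S₀ = Q₁Q₂`; elements of `S` trivial on `Q_i / D` lie in `S₀`. -/
structure Ctx (S S0 D Q₁ Q₂ : Subgroup G) : Prop where
  le₁ : Q₁ ≤ S
  le₂ : Q₂ ≤ S
  n₁ : ∀ s ∈ S, ∀ a ∈ Q₁, s * a * s⁻¹ ∈ Q₁
  n₂ : ∀ s ∈ S, ∀ a ∈ Q₂, s * a * s⁻¹ ∈ Q₂
  sq₁ : ∀ u ∈ Q₁, u * u = 1
  sq₂ : ∀ u ∈ Q₂, u * u = 1
  inf : ∀ u, u ∈ D ↔ u ∈ Q₁ ∧ u ∈ Q₂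
  sup : ∀ g, g ∈ S0 ↔ ∃ a ∈ Q₁, ∃ b ∈ Q₂, g = a * b
  faith₁ : ∀ s ∈ S, (∀ a ∈ Q₁, s * a * s⁻¹ * a ∈ D) → s ∈ S0
  faith₂ : ∀ s ∈ S, (∀ a ∈ Q₂, s * a * s⁻¹ * a ∈ D) → s ∈ S0

namespace Ctx

variable {S S0 D Q₁ Q₂ : Subgroup G} {F : Type*} [Field F] {x y : G → F}

theorem D₁ (c : Ctx S S0 D Q₁ Q₂) : D ≤ Q₁ := fun u hu => ((c.inf u).1 hu).1

theorem D₂ (c : Ctx S S0 D Q₁ Q₂) : D ≤ Q₂ := fun u hu => ((c.inf u).1 hu).2

theorem nD (c : Ctx S S0 D Q₁ Q₂) {s d : G} (hs : s ∈ S) (hd : d ∈ D) : s * d * s⁻¹ ∈ D :=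
  (c.inf _).2 ⟨c.n₁ s hs d (c.D₁ hd), c.n₂ s hs d (c.D₂ hd)⟩

theorem nD' (c : Ctx S S0 D Q₁ Q₂) {s d : G} (hs : s ∈ S) (hd : s * d * s⁻¹ ∈ D) : d ∈ D := by
  have := c.nD (inv_mem hs) hd
  have e : s⁻¹ * (s * d * s⁻¹) * s⁻¹⁻¹ = d := by group
  rwa [e] at this

theorem le0 (c : Ctx S S0 D Q₁ Q₂) : S0 ≤ S := by
  intro g hg
  obtain ⟨a, ha, b, hb, rfl⟩ := (c.sup g).1 hg
  exact mul_mem (c.le₁ ha) (c.le₂ hb)

theorem inv₁ (c : Ctx S S0 D Q₁ Q₂) {u : G} (hu : u ∈ Q₁) : u⁻¹ = u :=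
  inv_eq_of_mul_eq_one_right (c.sq₁ u hu)

theorem inv₂ (c : Ctx S S0 D Q₁ Q₂) {u : G} (hu : u ∈ Q₂) : u⁻¹ = u :=
  inv_eq_of_mul_eq_one_right (c.sq₂ u hu)

theorem comm₁ (c : Ctx S S0 D Q₁ Q₂) {u v : G} (hu : u ∈ Q₁) (hv : v ∈ Q₁) : u * v = v * u := by
  have h1 := c.inv₁ (mul_mem hu hv)
  rw [mul_inv_rev, c.inv₁ hu, c.inv₁ hv] at h1
  exact h1.symm

theorem comm₂ (c : Ctx S S0 D Q₁ Q₂) {u v : G} (hu : u ∈ Q₂) (hv : v ∈ Q₂) : u * v = v * u := by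
  have h1 := c.inv₂ (mul_mem hu hv)
  rw [mul_inv_rev, c.inv₂ hu, c.inv₂ hv] at h1
  exact h1.symm

/-- `[Q₁, Q₂] ≤ D`. -/
theorem cm (c : Ctx S S0 D Q₁ Q₂) {u v : G} (hu : u ∈ Q₁) (hv : v ∈ Q₂) :
    u * v * u⁻¹ * v⁻¹ ∈ D := by
  rw [c.inf]
  constructor
  · have e : u * v * u⁻¹ * v⁻¹ = u * (v * u⁻¹ * v⁻¹) := by group
    rw [e]
    exact mul_mem hu (c.n₁ v (c.le₂ hv) _ (inv_mem hu))
  · exact mul_mem (c.n₂ u (c.le₁ hu) _ hv) (inv_mem hv)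

/-- `S₀` is trivial on `Q₁ / D` and `Q₂ / D`. -/
theorem triv₁ (c : Ctx S S0 D Q₁ Q₂) {g u : G} (hg : g ∈ S0) (hu : u ∈ Q₁) :
    g * u * g⁻¹ * u⁻¹ ∈ D := by
  obtain ⟨a, ha, b, hb, rfl⟩ := (c.sup g).1 hg
  have h1 : b * u * b⁻¹ * u⁻¹ ∈ D := by
    have e : b * u * b⁻¹ * u⁻¹ = (u * b * u⁻¹ * b⁻¹)⁻¹ := by group
    rw [e]
    exact inv_mem (c.cm hu hb)
  have e : a * b * u * (a * b)⁻¹ * u⁻¹ = a * (b * u * b⁻¹ * u⁻¹) * a⁻¹ * (a * u * a⁻¹ * u⁻¹) := by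
    group
  have e2 : a * u * a⁻¹ * u⁻¹ = 1 := by rw [c.comm₁ ha hu]; group
  rw [e, e2, mul_one]
  exact c.nD (c.le₁ ha) h1

theorem triv₂ (c : Ctx S S0 D Q₁ Q₂) {g u : G} (hg : g ∈ S0) (hu : u ∈ Q₂) :
    g * u * g⁻¹ * u⁻¹ ∈ D := by
  obtain ⟨a, ha, b, hb, rfl⟩ := (c.sup g).1 hg
  have h1 : a * u * a⁻¹ * u⁻¹ ∈ D := c.cm ha hu
  have e : a * b * u * (a * b)⁻¹ * u⁻¹ = a * (b * u * b⁻¹ * u⁻¹) * a⁻¹ * (a * u * a⁻¹ * u⁻¹) := by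
    group
  have e2 : b * u * b⁻¹ * u⁻¹ = 1 := by rw [c.comm₂ hb hu]; group
  rw [e, e2, mul_one, mul_inv_cancel, one_mul]
  exact h1

/-- Elements of `S` acting linearly on `Q₁ / D` lie in `S₀`. -/
theorem mem_of_SL [CharP F 2] (c : Ctx S S0 D Q₁ Q₂) (h2 : IsPGroup 2 S) (hx : Crd Q₁ D x)
    {s : G} (hs : s ∈ S) {k : F} (h : SL Q₁ x s k (RingHom.id F)) : s ∈ S0 := by
  have hpow : ∀ n : ℕ, SL Q₁ x (s ^ n) (k ^ n) (RingHom.id F) := by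
    intro n
    induction n with
    | zero => intro u _; simp
    | succ n ih =>
      have h3 := SL.mul (c.n₁ s hs) ih h
      rw [pow_succ, pow_succ]
      exact h3
  obtain ⟨n, hn⟩ := h2 ⟨s, hs⟩
  have hn' : s ^ 2 ^ n = 1 := congrArg Subtype.val hn
  have h4 := hpow (2 ^ n)
  rw [hn'] at h4
  obtain ⟨u, hu, hu1⟩ := hx.surj 1
  have h5 := h4 u hu
  rw [one_mul, inv_one, mul_one, hu1, map_one, mul_one] at h5
  have h6 : k = 1 := by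
    have h7 : (k - 1) ^ 2 ^ n = 0 := by
      rw [sub_pow_char_pow, one_pow, ← h5, sub_self]
    exact sub_eq_zero.1 (pow_eq_zero_iff (by positivity) |>.1 h7)
  refine c.faith₁ s hs fun a ha => ?_
  have h8 : x (s * a * s⁻¹) = x a := by rw [h a ha, h6, one_mul]; rfl
  rw [hx.eq_iff (c.n₁ s hs a ha) ha, c.inv₁ ha] at h8
  exact h8

/-- The field automorphism of an element of `S - S₀` with square in `S₀`. -/
theorem inv2₁ [CharP F 2] (c : Ctx S S0 D Q₁ Q₂) (h2 : IsPGroup 2 S) (hx : Crd Q₁ D x)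
    {f : G} (hf : Amb.Fld S S0 f) {k : F} {σ : F →+* F} (h : SL Q₁ x f k σ) : Inv2 σ k := by
  have h3 := SL.mul (c.n₁ f hf.mem) h h
  have h4 : SL Q₁ x (f * f) 1 (RingHom.id F) := by
    intro u hu
    have h5 := c.triv₁ hf.sq hu
    rw [← hx.eq_iff (c.n₁ _ (c.le0 hf.sq) u hu) hu] at h5
    rw [h5, one_mul]
    rfl
  obtain ⟨h5, h6⟩ := SL.uniq hx h4 h3 one_ne_zero
  refine ⟨fun a => ?_, ?_, h5.symm⟩
  · have := RingHom.congr_fun h6 a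
    exact this.symm
  · by_contra hc
    push Not at hc
    have h7 : σ = RingHom.id F := RingHom.ext hc
    rw [h7] at h
    exact hf.not (c.mem_of_SL h2 hx hf.mem h)

theorem inv2₂ [CharP F 2] (c : Ctx S S0 D Q₁ Q₂) (hy : Crd Q₂ D y)
    {f : G} (hf : Amb.Fld S S0 f) {k k' : F} {σ : F →+* F} (h : SL Q₂ y f k σ)
    (h1 : Inv2 σ k') : Inv2 σ k := by
  have h3 := SL.mul (c.n₂ f hf.mem) h h
  have h4 : SL Q₂ y (f * f) 1 (RingHom.id F) := by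
    intro u hu
    have h5 := c.triv₂ hf.sq hu
    rw [← hy.eq_iff (c.n₂ _ (c.le0 hf.sq) u hu) hu] at h5
    rw [h5, one_mul]
    rfl
  obtain ⟨h5, -⟩ := SL.uniq hy h4 h3 one_ne_zero
  exact ⟨h1.inv, h1.ne, h5.symm⟩

/-- Freeness of `Q / D`. -/
theorem free {V : Subgroup G} {φ : G → F} [CharP F 2] (hφ : Crd V D φ) {f : G} {k : F} {σ : F →+* F}
    (hn : ∀ u ∈ V, f * u * f⁻¹ ∈ V) (h : SL V φ f k σ) (hi : Inv2 σ k) {a : G} (ha : a ∈ V)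
    (hfa : f * a * f⁻¹ * a ∈ D) : ∃ e ∈ V, f * e * f⁻¹ * e * a ∈ D := by
  rw [← hφ.ker _ (mul_mem (hn a ha) ha), hφ.mul _ (hn a ha) _ ha, h a ha] at hfa
  rw [add_eq_zero_iff_eq_neg, CharTwo.neg_eq] at hfa
  obtain ⟨t, ht⟩ := hi.hilbert hfa
  obtain ⟨e, he, rfl⟩ := hφ.surj t
  refine ⟨e, he, ?_⟩
  rw [← hφ.ker _ (mul_mem (mul_mem (hn e he) he) ha), hφ.mul _ (mul_mem (hn e he) he) _ ha,
    hφ.mul _ (hn e he) _ he, h e he, ht, CharTwo.add_self_eq_zero]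

theorem fixed {V : Subgroup G} {φ : G → F} [CharP F 2] (hφ : Crd V D φ) {f : G} {k : F}
    {σ : F →+* F} (hn : ∀ u ∈ V, f * u * f⁻¹ ∈ V) (h : SL V φ f k σ) {a : G} (ha : a ∈ V) :
    f * a * f⁻¹ * a ∈ D ↔ k * σ (φ a) = φ a := by
  rw [← hφ.ker _ (mul_mem (hn a ha) ha), hφ.mul _ (hn a ha) _ ha, h a ha,
    add_eq_zero_iff_eq_neg, CharTwo.neg_eq]

theorem card_eq [Finite G] {V : Subgroup G} {φ : G → F} (hDV : D ≤ V) (hφ : Crd V D φ) :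
    Nat.card V = Nat.card F * Nat.card D := by
  let ψ : V →* Multiplicative F :=
    { toFun := fun u => Multiplicative.ofAdd (φ u)
      map_one' := by
        change Multiplicative.ofAdd (φ ((1 : V) : G)) = 1
        rw [Subgroup.coe_one, hφ.one]; rfl
      map_mul' := fun u v => by
        change Multiplicative.ofAdd (φ ((u : G) * v)) = _
        rw [hφ.mul u u.2 v v.2]; rfl }
  have h1 : D.subgroupOf V = ψ.ker := by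
    ext u
    rw [Subgroup.mem_subgroupOf, ← hφ.ker u u.2, MonoidHom.mem_ker]
    exact Iff.rfl
  have h2 : ψ.range = ⊤ := by
    rw [MonoidHom.range_eq_top]
    intro a
    obtain ⟨u, hu, h⟩ := hφ.surj a.toAdd
    exact ⟨⟨u, hu⟩, congrArg Multiplicative.ofAdd h⟩
  have h3 := relIndex_mul hDV
  rw [Subgroup.relIndex, h1, Subgroup.index_ker, h2, Subgroup.card_top] at h3
  exact h3.symm

/-- Assembly of `Amb`. -/
theorem amb [Finite G] [Finite F] [CharP F 2] (c : Ctx S S0 D Q₁ Q₂) (h2 : IsPGroup 2 S)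
    (hx : Crd Q₁ D x) (hy : Crd Q₂ D y)
    (sl : ∀ s ∈ S, ∃ (σ : F →+* F) (k l : F), SL Q₁ x s k σ ∧ SL Q₂ y s l σ)
    (cen : ∀ a ∈ Q₁, ∀ b ∈ Q₂, a * b = b * a → a ∈ D ∨ b ∈ D)
    (frD : ∀ f, Amb.Fld S S0 f → ∀ d ∈ D, f * d * f⁻¹ = d → ∃ e ∈ D, f * e * f⁻¹ * e = d) :
    Amb S S0 D (pr Q₁ Q₂) where
  QS := by rintro (_ | _); exacts [c.le₁, c.le₂]
  Qn := by rintro (_ | _); exacts [c.n₁, c.n₂]
  sq := by rintro (_ | _); exacts [c.sq₁, c.sq₂]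
  inf u := by
    rw [c.inf]
    constructor
    · rintro ⟨h3, h4⟩ (_ | _)
      exacts [h3, h4]
    · intro h; exact ⟨h false, h true⟩
  sup := c.sup
  cen := cen
  faith := by rintro (_ | _); exacts [c.faith₁, c.faith₂]
  cyc := by
    intro s hs t ht hss htt hs0 ht0
    obtain ⟨σ, k, -, h3, -⟩ := sl s hs
    obtain ⟨τ, l, -, h4, -⟩ := sl t ht
    have hi := c.inv2₁ h2 hx ⟨hs, hss, hs0⟩ h3
    have hi' := c.inv2₁ h2 hx ⟨ht, htt, ht0⟩ h4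
    have h5 : σ = τ := invol_unique hi.inv hi'.inv hi.ne hi'.ne
    subst h5
    have h6 := SL.mul (c.n₁ t ht) h3 h4
    have h7 : σ.comp σ = RingHom.id F := RingHom.ext hi.inv
    rw [h7] at h6
    exact c.mem_of_SL h2 hx (mul_mem hs ht) h6
  frD f h3 h4 h5 := frD f ⟨h3, h4, h5⟩
  frQ := by
    intro f h3 h4 h5 i
    have hF : Amb.Fld S S0 f := ⟨h3, h4, h5⟩
    obtain ⟨σ, k, l, hk, hl⟩ := sl f h3
    have hi := c.inv2₁ h2 hx hF hk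
    have hi' := c.inv2₂ hy hF hl hi
    cases i
    · exact fun a ha hfa => free hx (c.n₁ f h3) hk hi ha hfa
    · exact fun a ha hfa => free hy (c.n₂ f h3) hl hi' ha hfa
  fixQ := by
    intro f h3 h4 h5 i
    have hF : Amb.Fld S S0 f := ⟨h3, h4, h5⟩
    obtain ⟨σ, k, l, hk, hl⟩ := sl f h3
    have hi := c.inv2₁ h2 hx hF hk
    have hi' := c.inv2₂ hy hF hl hi
    cases i
    · obtain ⟨a, ha, hfa⟩ := hi.exists_fix
      obtain ⟨u, hu, rfl⟩ := hx.surj a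
      exact ⟨u, hu, fun hc => ha ((hx.ker u hu).2 hc), (fixed hx (c.n₁ f h3) hk hu).2 hfa⟩
    · obtain ⟨a, ha, hfa⟩ := hi'.exists_fix
      obtain ⟨u, hu, rfl⟩ := hy.surj a
      exact ⟨u, hu, fun hc => ha ((hy.ker u hu).2 hc), (fixed hy (c.n₂ f h3) hl hu).2 hfa⟩
  card := by
    show Nat.card Q₁ = Nat.card Q₂
    rw [card_eq c.D₁ hx, card_eq c.D₂ hy]

/-- `Big` for `|F| > 4`. -/
theorem big [Finite F] [CharP F 2] (c : Ctx S S0 D Q₁ Q₂) (h2 : IsPGroup 2 S)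
    (hx : Crd Q₁ D x) (hy : Crd Q₂ D y)
    (sl : ∀ s ∈ S, ∃ (σ : F →+* F) (k l : F), SL Q₁ x s k σ ∧ SL Q₂ y s l σ)
    (hF : 4 < Nat.card F) : Big S S0 D (pr Q₁ Q₂) := by
  intro f hf i
  obtain ⟨σ, k, l, hk, hl⟩ := sl f hf.mem
  have hi := c.inv2₁ h2 hx hf hk
  have hi' := c.inv2₂ hy hf hl hi
  cases i
  · obtain ⟨a, b, ha, hb, hab, hfa, hfb⟩ := hi.exists_big hF
    obtain ⟨u, hu, rfl⟩ := hx.surj a
    obtain ⟨v, hv, rfl⟩ := hx.surj b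
    refine ⟨u, hu, v, hv, (fixed hx (c.n₁ f hf.mem) hk hu).2 hfa,
      (fixed hx (c.n₁ f hf.mem) hk hv).2 hfb, fun hc => ha ((hx.ker u hu).2 hc),
      fun hc => hb ((hx.ker v hv).2 hc), fun hc => hab ?_⟩
    rw [← hx.mul u hu v hv]
    exact (hx.ker _ (mul_mem hu hv)).2 hc
  · obtain ⟨a, b, ha, hb, hab, hfa, hfb⟩ := hi'.exists_big hF
    obtain ⟨u, hu, rfl⟩ := hy.surj a
    obtain ⟨v, hv, rfl⟩ := hy.surj b
    refine ⟨u, hu, v, hv, (fixed hy (c.n₂ f hf.mem) hl hu).2 hfa,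
      (fixed hy (c.n₂ f hf.mem) hl hv).2 hfb, fun hc => ha ((hy.ker u hu).2 hc),
      fun hc => hb ((hy.ker v hv).2 hc), fun hc => hab ?_⟩
    rw [← hy.mul u hu v hv]
    exact (hy.ker _ (mul_mem hu hv)).2 hc

end Ctx

end Cfsg.Agent.Omega.CloseA
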