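import Mathlib
import Cfsg.Agent.Omega.CloseA.CoAmb

/-!
# Closings of type `L₃(q)`, `Sp₄(q)`: there are no field automorphisms in `S`

`close3` : type `L₃(F)`: `S = S₀` or `|F| = 4`;  `close4` : type `Sp₄(F)`: `S = S₀`.
-/

set_option autoImplicit false

namespace Cfsg.Agent.Omega.CloseA

variable {G : Type*} [Group G] {F : Type*} [Field F]

theorem Inv2.four_le [Finite F] {σ : F →+* F} {c : F} (h : Inv2 σ c) : 4 ≤ Nat.card F := by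
  have _ : Fintype F := Fintype.ofFinite F
  classical
  obtain ⟨a, ha⟩ := h.ne
  have a0 : a ≠ 0 := by rintro rfl; simp at ha
  have a1 : a ≠ 1 := by rintro rfl; simp at ha
  have s0 : σ a ≠ 0 := fun hc => a0 (by rw [← h.inv a, hc, map_zero])
  have s1 : σ a ≠ 1 := fun hc => a1 (by rw [← h.inv a, hc, map_one])
  have h1 : ({0, 1, a, σ a} : Finset F).card = 4 := by
    rw [Finset.card_insert_of_notMem, Finset.card_insert_of_notMem, Finset.card_insert_of_notMem,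
      Finset.card_singleton]
    · rw [Finset.mem_singleton]; exact ha.symm
    · simp only [Finset.mem_insert, Finset.mem_singleton, not_or]; exact ⟨a1.symm, s1.symm⟩
    · simp only [Finset.mem_insert, Finset.mem_singleton, not_or]
      exact ⟨zero_ne_one, a0.symm, s0.symm⟩
  rw [Nat.card_eq_fintype_card, ← h1]
  exact Finset.card_le_univ _

section Three

variable {S S0 D Q₁ Q₂ : Subgroup G} {x y z : G → F}

theorem Co3.charP (h : Co3 Q₁ Q₂ D x y z) : CharP F 2 := by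
  obtain ⟨u, hu, hu1⟩ := h.x_surj 1
  have h1 := h.x_mul u hu u hu
  have h2 := h.x_mul 1 (one_mem _) 1 (one_mem _)
  rw [one_mul] at h2
  have h3 : x 1 = 0 := by linear_combination - h2
  rw [h.sq₁ u hu, h3, hu1] at h1
  exact CharTwo.of_one_ne_zero_of_two_eq_zero one_ne_zero (by linear_combination - h1)

theorem Co3.hx (h : Co3 Q₁ Q₂ D x y z) : Crd Q₁ D x := ⟨h.x_mul, h.x_surj, h.x_ker⟩

theorem Co3.hy (h : Co3 Q₁ Q₂ D x y z) : Crd Q₂ D y := ⟨h.y_mul, h.y_surj, h.y_ker⟩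

theorem Co3.hz (h : Co3 Q₁ Q₂ D x y z) : Crd D ⊥ z := by
  refine ⟨h.z_mul, h.z_surj, fun u hu => ⟨fun h0 => Subgroup.mem_bot.2 (h.z_inj u hu h0), ?_⟩⟩
  intro h0
  rw [Subgroup.mem_bot.1 h0]
  have h2 := h.z_mul 1 (one_mem _) 1 (one_mem _)
  rw [one_mul] at h2
  linear_combination - h2

theorem Co3.cen (h : Co3 Q₁ Q₂ D x y z) {a b : G} (ha : a ∈ Q₁) (hb : b ∈ Q₂)
    (hab : a * b = b * a) : a ∈ D ∨ b ∈ D := by
  have h1 := h.com a ha b hb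
  have e : a * b * a⁻¹ * b⁻¹ = 1 := by rw [hab]; group
  rw [e, h.hz.one] at h1
  rcases mul_eq_zero.1 h1.symm with h2 | h2
  · exact Or.inl ((h.x_ker a ha).1 h2)
  · exact Or.inr ((h.y_ker b hb).1 h2)

/-- The action of `S`. -/
theorem Co3.exists_sl (h : Co3 Q₁ Q₂ D x y z) (c : Ctx S S0 D Q₁ Q₂) {s : G} (hs : s ∈ S) :
    ∃ (σ : F →+* F) (k l : F), SL Q₁ x s k σ ∧ SL Q₂ y s l σ ∧ SL D z s (k * l) σ := by
  obtain ⟨A, hA⟩ := h.hx.exists_push (c.n₁ s hs) fun u hu => c.nD hs hu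
  obtain ⟨B, hB⟩ := h.hy.exists_push (c.n₂ s hs) fun u hu => c.nD hs hu
  obtain ⟨C, hC⟩ := h.hz.exists_push (s := s) (fun u hu => c.nD hs hu) (fun u hu => by
    rw [Subgroup.mem_bot.1 hu]; simp)
  have hA1 := h.hx.push_ne (c.n₁ s hs) (fun u hu => c.nD' hs hu) hA
  have hB1 := h.hy.push_ne (c.n₂ s hs) (fun u hu => c.nD' hs hu) hB
  obtain ⟨σ, h1, h2, h3⟩ := exists_semi (A := A) (B := B) (C := C) hA1 hB1 fun a b => by
    obtain ⟨u, hu, rfl⟩ := h.x_surj a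
    obtain ⟨v, hv, rfl⟩ := h.y_surj b
    rw [← h.com u hu v hv, ← hC _ (h.mem u hu v hv), ← hA u hu, ← hB v hv,
      ← h.com _ (c.n₁ s hs u hu) _ (c.n₂ s hs v hv)]
    congr 1
    group
  exact ⟨σ, A 1, B 1, fun u hu => by rw [hA u hu, h1], fun u hu => by rw [hB u hu, h2],
    fun u hu => by rw [hC u hu, h3]⟩

theorem Inv2.mul {σ : F →+* F} {k l : F} (h : Inv2 σ k) (h' : Inv2 σ l) : Inv2 σ (k * l) :=
  ⟨h.inv, h.ne, by
    rw [map_mul]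
    calc k * l * (σ k * σ l) = (k * σ k) * (l * σ l) := by ring
      _ = 1 := by rw [h.c1, h'.c1, one_mul]⟩

theorem Co3.amb [Finite G] [Finite F] (h : Co3 Q₁ Q₂ D x y z) (c : Ctx S S0 D Q₁ Q₂)
    (h2 : IsPGroup 2 S) : Amb S S0 D (pr Q₁ Q₂) := by
  have _ := h.charP
  refine c.amb h2 h.hx h.hy ?_ (fun a ha b hb hab => h.cen ha hb hab) ?_
  · intro s hs
    obtain ⟨σ, k, l, h3, h4, -⟩ := h.exists_sl c hs
    exact ⟨σ, k, l, h3, h4⟩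
  · intro f hf d hd hfd
    obtain ⟨σ, k, l, h3, h4, h5⟩ := h.exists_sl c hf.mem
    have hi := c.inv2₁ h2 h.hx hf h3
    have hi' := hi.mul (c.inv2₂ h.hy hf h4 hi)
    have h6 : k * l * σ (z d) = z d := by rw [← h5 d hd, hfd]
    obtain ⟨t, ht⟩ := hi'.hilbert h6
    obtain ⟨e, he, rfl⟩ := h.z_surj t
    refine ⟨e, he, ?_⟩
    have hfe := c.nD hf.mem he
    have h7 : z (f * e * f⁻¹ * e) = z d := by
      rw [h.z_mul _ hfe _ he, h5 e he, ht]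
    rw [h.hz.eq_iff (mul_mem hfe he) hd] at h7
    exact mul_inv_eq_one.1 (Subgroup.mem_bot.1 h7)

theorem Co3.sur (h : Co3 Q₁ Q₂ D x y z) (c : Ctx S S0 D Q₁ Q₂) (i : Bool) {a d : G}
    (ha : a ∈ pr Q₁ Q₂ i) (haD : a ∉ D) (hd : d ∈ D) :
    ∃ b ∈ pr Q₁ Q₂ (!i), a * b * a⁻¹ * b⁻¹ = d := by
  have key : ∀ u ∈ Q₁, ∀ v ∈ Q₂, x u * y v = z d → u * v * u⁻¹ * v⁻¹ = d := by
    intro u hu v hv huv
    rw [← h.com u hu v hv, h.hz.eq_iff (h.mem u hu v hv) hd] at huv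
    exact mul_inv_eq_one.1 (Subgroup.mem_bot.1 huv)
  cases i
  · have hx : x a ≠ 0 := fun h0 => haD ((h.x_ker a ha).1 h0)
    obtain ⟨v, hv, hv'⟩ := h.y_surj (z d / x a)
    refine ⟨v, hv, key a ha v hv ?_⟩
    rw [hv']
    field_simp
  · have hy : y a ≠ 0 := fun h0 => haD ((h.y_ker a ha).1 h0)
    obtain ⟨u, hu, hu'⟩ := h.x_surj (z d / y a)
    refine ⟨u, hu, ?_⟩
    have h1 := key u hu a ha (by rw [hu']; field_simp)
    have e : a * u * a⁻¹ * u⁻¹ = (u * a * u⁻¹ * a⁻¹)⁻¹ := by group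
    rw [e, h1, c.inv₁ (c.D₁ hd)]

/-- **Type `L₃(F)`**: `S = S₀` or `|F| = 4`. -/
theorem close3 [Finite G] [Finite F] (S : Sylow 2 G) {P₁ P₂ L₁ L₂ : Subgroup G}
    (h : Co3 Q₁ Q₂ D x y z) (c : Ctx (S : Subgroup G) S0 D Q₁ Q₂)
    (l₁ : Lin (S : Subgroup G) S0 D Q₁ P₁ L₁ ⊥) (l₂ : Lin (S : Subgroup G) S0 D Q₂ P₂ L₂ ⊥)
    (hct : CTs (S : Subgroup G) S0) : (S : Subgroup G) = S0 ∨ Nat.card F = 4 := by
  by_contra hc
  push Not at hc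
  have _ := h.charP
  have ha := h.amb c S.isPGroup'
  have hn : ¬ (S : Subgroup G) ≤ S0 := fun hle => hc.1 (le_antisymm hle c.le0)
  obtain ⟨f, -, hF⟩ := exists_fld le_rfl hn
  obtain ⟨σ, k, l, h3, -, -⟩ := h.exists_sl c hF.mem
  have h4 := (c.inv2₁ S.isPGroup' h.hx hF h3).four_le
  have h5 : 4 < Nat.card F := lt_of_le_of_ne h4 (Ne.symm hc.2)
  have hb := c.big S.isPGroup' h.hx h.hy (fun s hs => by
    obtain ⟨σ, k, l, h3, h4, -⟩ := h.exists_sl c hs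
    exact ⟨σ, k, l, h3, h4⟩) h5
  refine hc.1 (close_three (P := pr P₁ P₂) (L := pr L₁ L₂) (C := fun _ => ⊥) ha ?_ ?_ hct hb ?_)
  · rintro (_ | _)
    · exact l₁
    · exact l₂
  · exact fun c hc => Subgroup.mem_bot.1 (hc false)
  · exact fun i a ha haD d hd => h.sur c i ha haD hd

end Three

section Four

variable {S S0 D Q₁ Q₂ C₁ C₂ : Subgroup G} {x y z z' : G → F}

theorem Co4.charP (h : Co4 Q₁ Q₂ D C₁ C₂ x y z z') : CharP F 2 := by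
  obtain ⟨u, hu, hu1⟩ := h.x_surj 1
  have h1 := h.x_mul u hu u hu
  have h2 := h.x_mul 1 (one_mem _) 1 (one_mem _)
  rw [one_mul] at h2
  have h3 : x 1 = 0 := by linear_combination - h2
  rw [h.sq₁ u hu, h3, hu1] at h1
  exact CharTwo.of_one_ne_zero_of_two_eq_zero one_ne_zero (by linear_combination - h1)

theorem Co4.hx (h : Co4 Q₁ Q₂ D C₁ C₂ x y z z') : Crd Q₁ D x := ⟨h.x_mul, h.x_surj, h.x_ker⟩

theorem Co4.hy (h : Co4 Q₁ Q₂ D C₁ C₂ x y z z') : Crd Q₂ D y := ⟨h.y_mul, h.y_surj, h.y_ker⟩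

theorem Co4.hz (h : Co4 Q₁ Q₂ D C₁ C₂ x y z z') : Crd D C₁ z :=
  ⟨h.z_mul, fun a => by
    obtain ⟨u, hu, h1, -⟩ := h.z_surj a 0
    exact ⟨u, hu, h1⟩, h.z_ker⟩

theorem Co4.hz' (h : Co4 Q₁ Q₂ D C₁ C₂ x y z z') : Crd D C₂ z' :=
  ⟨h.z'_mul, fun a => by
    obtain ⟨u, hu, -, h1⟩ := h.z_surj 0 a
    exact ⟨u, hu, h1⟩, h.z'_ker⟩

theorem Co4.ext (h : Co4 Q₁ Q₂ D C₁ C₂ x y z z') {u v : G} (hu : u ∈ D) (hv : v ∈ D)
    (h1 : z u = z v) (h2 : z' u = z' v) : u = v := by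
  have h3 : z (u * v⁻¹) = 0 := by
    rw [h.hz.mul _ hu _ (inv_mem hv), h.hz.inv hv, h1, add_neg_cancel]
  have h4 : z' (u * v⁻¹) = 0 := by
    rw [h.hz'.mul _ hu _ (inv_mem hv), h.hz'.inv hv, h2, add_neg_cancel]
  exact mul_inv_eq_one.1 (h.z_inj _ (mul_mem hu (inv_mem hv)) h3 h4)

theorem Co4.cen (h : Co4 Q₁ Q₂ D C₁ C₂ x y z z') {a b : G} (ha : a ∈ Q₁) (hb : b ∈ Q₂)
    (hab : a * b = b * a) : a ∈ D ∨ b ∈ D := by
  have h1 := h.com a ha b hb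
  have e : a * b * a⁻¹ * b⁻¹ = 1 := by rw [hab]; group
  rw [e, h.hz.one] at h1
  rcases mul_eq_zero.1 h1.symm with h2 | h2
  · exact Or.inl ((h.x_ker a ha).1 h2)
  · exact Or.inr ((h.y_ker b hb).1 h2)

/-- The action of `S`. -/
theorem Co4.exists_sl (h : Co4 Q₁ Q₂ D C₁ C₂ x y z z') (c : Ctx S S0 D Q₁ Q₂)
    (hC₁ : ∀ s ∈ S, ∀ u ∈ C₁, s * u * s⁻¹ ∈ C₁) (hC₂ : ∀ s ∈ S, ∀ u ∈ C₂, s * u * s⁻¹ ∈ C₂)
    {s : G} (hs : s ∈ S) :
    ∃ (σ : F →+* F) (k l : F), SL Q₁ x s k σ ∧ SL Q₂ y s l σ ∧ SL D z s (k * l) σ ∧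
      SL D z' s (k * k * l) σ := by
  obtain ⟨A, hA⟩ := h.hx.exists_push (c.n₁ s hs) fun u hu => c.nD hs hu
  obtain ⟨B, hB⟩ := h.hy.exists_push (c.n₂ s hs) fun u hu => c.nD hs hu
  obtain ⟨C, hC⟩ := h.hz.exists_push (s := s) (fun u hu => c.nD hs hu) (hC₁ s hs)
  obtain ⟨C', hC'⟩ := h.hz'.exists_push (s := s) (fun u hu => c.nD hs hu) (hC₂ s hs)
  have hA1 := h.hx.push_ne (c.n₁ s hs) (fun u hu => c.nD' hs hu) hA
  have hB1 := h.hy.push_ne (c.n₂ s hs) (fun u hu => c.nD' hs hu) hB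
  have hcm : ∀ u v : G, s * (u * v * u⁻¹ * v⁻¹) * s⁻¹ =
      (s * u * s⁻¹) * (s * v * s⁻¹) * (s * u * s⁻¹)⁻¹ * (s * v * s⁻¹)⁻¹ := fun u v => by group
  obtain ⟨σ, h1, h2, h3⟩ := exists_semi (A := A) (B := B) (C := C) hA1 hB1 fun a b => by
    obtain ⟨u, hu, rfl⟩ := h.x_surj a
    obtain ⟨v, hv, rfl⟩ := h.y_surj b
    rw [← h.com u hu v hv, ← hC _ (h.mem u hu v hv), ← hA u hu, ← hB v hv,
      ← h.com _ (c.n₁ s hs u hu) _ (c.n₂ s hs v hv), hcm]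
  have h4 : ∀ b, C' b = A 1 * A 1 * B 1 * σ b := by
    intro b
    obtain ⟨u, hu, hu1⟩ := h.x_surj 1
    obtain ⟨v, hv, rfl⟩ := h.y_surj b
    have h5 : z' (u * v * u⁻¹ * v⁻¹) = y v := by rw [h.com' u hu v hv, hu1]; ring
    rw [← h5, ← hC' _ (h.mem u hu v hv), hcm,
      h.com' _ (c.n₁ s hs u hu) _ (c.n₂ s hs v hv), hA u hu, hB v hv, hu1, h2, h5]
    ring
  exact ⟨σ, A 1, B 1, fun u hu => by rw [hA u hu, h1], fun u hu => by rw [hB u hu, h2],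
    fun u hu => by rw [hC u hu, h3], fun u hu => by rw [hC' u hu, h4]⟩

theorem Co4.amb [Finite G] [Finite F] (h : Co4 Q₁ Q₂ D C₁ C₂ x y z z') (c : Ctx S S0 D Q₁ Q₂)
    (hC₁ : ∀ s ∈ S, ∀ u ∈ C₁, s * u * s⁻¹ ∈ C₁) (hC₂ : ∀ s ∈ S, ∀ u ∈ C₂, s * u * s⁻¹ ∈ C₂)
    (h2 : IsPGroup 2 S) : Amb S S0 D (pr Q₁ Q₂) := by
  have _ := h.charP
  refine c.amb h2 h.hx h.hy ?_ (fun a ha b hb hab => h.cen ha hb hab) ?_
  · intro s hs
    obtain ⟨σ, k, l, h3, h4, -, -⟩ := h.exists_sl c hC₁ hC₂ hs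
    exact ⟨σ, k, l, h3, h4⟩
  · intro f hf d hd hfd
    obtain ⟨σ, k, l, h3, h4, h5, h5'⟩ := h.exists_sl c hC₁ hC₂ hf.mem
    have hi := c.inv2₁ h2 h.hx hf h3
    have hi₂ := c.inv2₂ h.hy hf h4 hi
    have hi' := hi.mul hi₂
    have hi'' := (hi.mul hi).mul hi₂
    have h6 : k * l * σ (z d) = z d := by rw [← h5 d hd, hfd]
    have h6' : k * k * l * σ (z' d) = z' d := by rw [← h5' d hd, hfd]
    obtain ⟨t, ht⟩ := hi'.hilbert h6
    obtain ⟨t', ht'⟩ := hi''.hilbert h6'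
    obtain ⟨e, he, rfl, rfl⟩ := h.z_surj t t'
    refine ⟨e, he, ?_⟩
    have hfe := c.nD hf.mem he
    refine h.ext (mul_mem hfe he) hd ?_ ?_
    · rw [h.z_mul _ hfe _ he, h5 e he, ht]
    · rw [h.z'_mul _ hfe _ he, h5' e he, ht']

/-- `[a, Q₂][b, Q₂] = D` for independent `a, b ∈ Q₁`. -/
theorem Co4.sp (h : Co4 Q₁ Q₂ D C₁ C₂ x y z z') {a b : G} (ha : a ∈ Q₁)
    (hb : b ∈ Q₁) (haD : a ∉ D) (hbD : b ∉ D) (habD : a * b ∉ D) {d : G} (hd : d ∈ D) :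
    ∃ v ∈ Q₂, ∃ w ∈ Q₂, (a * v * a⁻¹ * v⁻¹) * (b * w * b⁻¹ * w⁻¹) = d := by
  have hα : x a ≠ 0 := fun h0 => haD ((h.x_ker a ha).1 h0)
  have hβ : x b ≠ 0 := fun h0 => hbD ((h.x_ker b hb).1 h0)
  have hαβ : x a + x b ≠ 0 := by
    rw [← h.x_mul a ha b hb]
    exact fun h0 => habD ((h.x_ker _ (mul_mem ha hb)).1 h0)
  have _ := h.charP
  have h2 : (2 : F) = 0 := CharTwo.two_eq_zero
  obtain ⟨v, hv, hv'⟩ := h.y_surj ((x b * z d + z' d) / (x a * (x a + x b)))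
  obtain ⟨w, hw, hw'⟩ := h.y_surj ((x a * z d + z' d) / (x b * (x a + x b)))
  refine ⟨v, hv, w, hw, h.ext (mul_mem (h.mem a ha v hv) (h.mem b hb w hw)) hd ?_ ?_⟩
  · rw [h.z_mul _ (h.mem a ha v hv) _ (h.mem b hb w hw), h.com a ha v hv, h.com b hb w hw, hv', hw']
    field_simp
    linear_combination z' d * h2
  · rw [h.z'_mul _ (h.mem a ha v hv) _ (h.mem b hb w hw), h.com' a ha v hv, h.com' b hb w hw,
      hv', hw']
    field_simp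
    linear_combination (x a * x b * z d) * h2

/-- The numbers for `|F| = 4`. -/
theorem Co4.num [Finite G] [Finite F] (h : Co4 Q₁ Q₂ D C₁ C₂ x y z z') (c : Ctx S S0 D Q₁ Q₂)
    (hC₁ : ∀ s ∈ S, ∀ u ∈ C₁, s * u * s⁻¹ ∈ C₁) (hC₂ : ∀ s ∈ S, ∀ u ∈ C₂, s * u * s⁻¹ ∈ C₂)
    (h2 : IsPGroup 2 S) (hF : Nat.card F = 4) : Num S S0 D (pr Q₁ Q₂) := by
  have _ := h.charP
  have hcD : Nat.card D = 16 := by
    have h1 : Nat.card D = Nat.card (F × F) := by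
      refine Nat.card_congr (Equiv.ofBijective (fun d : D => ((z d, z' d) : F × F)) ⟨?_, ?_⟩)
      · intro d e hde
        exact Subtype.ext (h.ext d.2 e.2 (Prod.ext_iff.1 hde).1 (Prod.ext_iff.1 hde).2)
      · rintro ⟨a, b⟩
        obtain ⟨u, hu, h1, h2⟩ := h.z_surj a b
        exact ⟨⟨u, hu⟩, Prod.ext h1 h2⟩
    rw [h1, Nat.card_prod, hF]
  have hc1 : Nat.card Q₁ = 64 := by rw [Ctx.card_eq c.D₁ h.hx, hF, hcD]
  have hc2 : Nat.card Q₂ = 64 := by rw [Ctx.card_eq c.D₂ h.hy, hF, hcD]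
  have hc0 : Nat.card S0 ≤ 256 := by
    choose v hv hvy using h.y_surj
    have h1 : Nat.card S0 ≤ Nat.card (Q₁ × F) := by
      refine Nat.card_le_card_of_surjective (fun p : Q₁ × F => (⟨p.1 * v p.2, ?_⟩ : S0)) ?_
      · exact (c.sup _).2 ⟨p.1, p.1.2, v p.2, hv _, rfl⟩
      · rintro ⟨g, hg⟩
        obtain ⟨a, ha, b, hb, rfl⟩ := (c.sup g).1 hg
        have h3 : b * (v (y b))⁻¹ ∈ D := by
          rw [← h.hy.eq_iff hb (hv _), hvy]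
        refine ⟨(⟨a * (b * (v (y b))⁻¹), mul_mem ha (c.D₁ h3)⟩, y b), Subtype.ext ?_⟩
        show a * (b * (v (y b))⁻¹) * v (y b) = a * b
        group
    rw [Nat.card_prod, hc1, hF] at h1
    exact h1
  have ha := h.amb c hC₁ hC₂ h2
  have hsq : ∀ s ∈ S, s * s ∈ S0 := by
    intro s hs
    obtain ⟨σ, k, l, h3, -, -, -⟩ := h.exists_sl c hC₁ hC₂ hs
    have h4 := SL.mul (c.n₁ s hs) h3 h3
    have h5 : σ.comp σ = RingHom.id F := RingHom.ext (sq_of_card_four hF σ)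
    rw [h5] at h4
    exact c.mem_of_SL h2 h.hx (mul_mem hs hs) h4
  refine ⟨?_, ?_, hcD, ?_⟩
  · by_cases hS : S ≤ S0
    · exact (Subgroup.card_le_of_le hS).trans (hc0.trans (by norm_num))
    · obtain ⟨f, hf, hf0⟩ := SetLike.not_le_iff_exists.1 hS
      have h1 : S0.relIndex S = 2 := by
        rw [Subgroup.relIndex, Subgroup.index_eq_two_iff]
        refine ⟨⟨f, hf⟩, fun b => ?_⟩
        by_cases hb : (b : G) ∈ S0
        · right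
          refine ⟨Subgroup.mem_subgroupOf.2 hb, fun hc => ?_⟩
          exact hf0 ((S0.mul_mem_cancel_left hb).1 (Subgroup.mem_subgroupOf.1 hc))
        · left
          refine ⟨Subgroup.mem_subgroupOf.2 (ha.cyc _ b.2 _ hf (hsq _ b.2) (hsq _ hf) hb hf0),
            fun hc => hb (Subgroup.mem_subgroupOf.1 hc)⟩
      have h3 := relIndex_mul c.le0
      rw [h1] at h3
      omega
  · rintro (_ | _)
    exacts [hc1, hc2]
  · intro f hf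
    obtain ⟨σ, k, l, h3, h4, h5, h5'⟩ := h.exists_sl c hC₁ hC₂ hf.mem
    have hi := c.inv2₁ h2 h.hx hf h3
    have hi₂ := c.inv2₂ h.hy hf h4 hi
    have hi' := hi.mul hi₂
    have hi'' := (hi.mul hi).mul hi₂
    have h6 : Nat.card (CD D f) = Nat.card ({a : F // k * l * σ a = a} ×
        {a : F // k * k * l * σ a = a}) := by
      refine Nat.card_congr (Equiv.ofBijective (fun d : CD D f =>
        ((⟨z d, ?_⟩, ⟨z' d, ?_⟩) : {a : F // k * l * σ a = a} ×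
        {a : F // k * k * l * σ a = a})) ⟨?_, ?_⟩)
      · have hd := mem_CD.1 d.2
        rw [← h5 _ hd.1, ← hd.2, mul_assoc, mul_inv_cancel, mul_one]
      · have hd := mem_CD.1 d.2
        rw [← h5' _ hd.1, ← hd.2, mul_assoc, mul_inv_cancel, mul_one]
      · intro d e hde
        have h7 := Prod.ext_iff.1 hde
        have h8 : z d = z e := congrArg Subtype.val h7.1
        have h9 : z' d = z' e := congrArg Subtype.val h7.2
        exact Subtype.ext (h.ext (mem_CD.1 d.2).1 (mem_CD.1 e.2).1 h8 h9)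
      · rintro ⟨⟨a, ha⟩, ⟨b, hb⟩⟩
        obtain ⟨u, hu, h7, h8⟩ := h.z_surj a b
        have h9 : f * u * f⁻¹ = u := by
          refine h.ext (c.nD hf.mem hu) hu ?_ ?_
          · rw [h5 u hu, h7, ha]
          · rw [h5' u hu, h8, hb]
        refine ⟨⟨u, mem_CD.2 ⟨hu, ?_⟩⟩, Prod.ext (Subtype.ext h7) (Subtype.ext h8)⟩
        rw [mul_inv_eq_iff_eq_mul] at h9
        exact h9.symm
    rw [h6, Nat.card_prod, hi'.card_fix hF, hi''.card_fix hF]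

/-- **Type `Sp₄(F)`**: `S = S₀`. -/
theorem close4 [Finite G] [Finite F] (S : Sylow 2 G) {P₁ P₂ L₁ L₂ : Subgroup G}
    (h : Co4 Q₁ Q₂ D C₁ C₂ x y z z') (c : Ctx (S : Subgroup G) S0 D Q₁ Q₂)
    (l₁ : Lin (S : Subgroup G) S0 D Q₁ P₁ L₁ C₁) (l₂ : Lin (S : Subgroup G) S0 D Q₂ P₂ L₂ C₂)
    (hct : CTs (S : Subgroup G) S0) : (S : Subgroup G) = S0 := by
  by_contra hc
  have _ := h.charP
  have hC₁ : ∀ s ∈ (S : Subgroup G), ∀ u ∈ C₁, s * u * s⁻¹ ∈ C₁ := fun s hs => l₁.PC s (l₁.SP hs)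
  have hC₂ : ∀ s ∈ (S : Subgroup G), ∀ u ∈ C₂, s * u * s⁻¹ ∈ C₂ := fun s hs => l₂.PC s (l₂.SP hs)
  have ha := h.amb c hC₁ hC₂ S.isPGroup'
  have hn : ¬ (S : Subgroup G) ≤ S0 := fun hle => hc (le_antisymm hle c.le0)
  obtain ⟨f, -, hF⟩ := exists_fld le_rfl hn
  obtain ⟨σ, k, l, h3, -, -, -⟩ := h.exists_sl c hC₁ hC₂ hF.mem
  have h4 := (c.inv2₁ S.isPGroup' h.hx hF h3).four_le
  have hl : ∀ i, Lin (S : Subgroup G) S0 D (pr Q₁ Q₂ i) (pr P₁ P₂ i) (pr L₁ L₂ i) (pr C₁ C₂ i) := by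
    rintro (_ | _)
    · exact l₁
    · exact l₂
  have hCC : ∀ c, (∀ i, c ∈ pr C₁ C₂ i) → c = 1 := by
    intro c hc
    have h5 : c ∈ C₁ := hc false
    have h6 : c ∈ C₂ := hc true
    have h7 := l₁.CD h5
    exact h.z_inj c h7 ((h.z_ker c h7).2 h5) ((h.z'_ker c h7).2 h6)
  rcases Nat.lt_or_ge 4 (Nat.card F) with h5 | h5
  · have hb := c.big S.isPGroup' h.hx h.hy (fun s hs => by
      obtain ⟨σ, k, l, h3, h4, -, -⟩ := h.exists_sl c hC₁ hC₂ hs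
      exact ⟨σ, k, l, h3, h4⟩) h5
    exact hc (close_four ha hl hCC hct hb fun a ha b hb haD hbD habD d hd =>
      h.sp ha hb haD hbD habD hd)
  · exact hc (close_four_four ha hl hCC hct (h.num c hC₁ hC₂ S.isPGroup' (le_antisymm h5 h4)))

end Four

end Cfsg.Agent.Omega.CloseA
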