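import Cfsg.Agent.Omega.CloseA.Final
import Cfsg.Agent.Omega.CloseA.CharTwo
import Cfsg.Agent.Omega.CloseA.Exc
import Cfsg.Agent.Omega.FFOne.Exit
import Cfsg.Agent.Omega.Frame

/-!
# A mutual pair of natural modules, `q ≥ 4`: `G` is known

`Mut.known` : `FFOne.Mut` with natural modules (`NatTwo`, `QuadOver`) over a Sylow 2-subgroup `S` of a group of
characteristic 2 type and of sectional 2-rank at least 5, `|F₁| > 2`: `G` is known (`L₃(q)`, `Sp₄(q)`; the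
exceptional case `|F₁| = 4`, `S ≠ Q₁Q₂` has sectional rank at most 4: `Co3.rank_four`).
-/

set_option autoImplicit false

open Subgroup

namespace Cfsg.Agent.Omega.FFOne.Mut

open Cfsg Cfsg.Agent.Omega.NatPair Cfsg.Agent.Omega.CloseA Cfsg.Agent.TypeL3

universe u

variable {G : Type u} [Group G] {P₁ P₂ Q₁ Q₂ V₁ V₂ D₁ D₂ : Subgroup G} {a : ℕ} {F₁ F₂ : Type} [Field F₁] [Field F₂]
  {e₁ : G → Fin 2 → F₁} {w₁ : Fin 2 → F₁} {e₂ : G → Fin 2 → F₂} {w₂ : Fin 2 → F₂}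

theorem four_le {F : Type} [Field F] [Finite F] [CharP F 2] (hF : 2 < Nat.card F) : 4 ≤ Nat.card F := by
  obtain ⟨n, hn⟩ := card_eq_pow F
  rw [hn] at hF ⊢
  have h1 : 2 ≤ n := by
    by_contra hcon
    have : 2 ^ n ≤ 2 ^ 1 := Nat.pow_le_pow_right (by norm_num) (by omega)
    omega
  calc 4 = 2 ^ 2 := by norm_num
    _ ≤ 2 ^ n := Nat.pow_le_pow_right (by norm_num) h1

/-- **FF-1, CASE A, natural modules, `q ≥ 4`: `G` is known.** -/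
theorem known [Finite G] [Finite F₁] [Finite F₂] (hG : Frame.Ctx G) (h1169 : H1169.{u}) (h1171 : H1171.{u})
    (h1296 : H1296.{u}) {S : Sylow 2 G} (h : Mut P₁ P₂ S Q₁ Q₂ V₁ V₂ a)
    (hcen₁ : ∀ g : G, (∀ u ∈ Q₁, g * u = u * g) → g ∈ Q₁) (hcen₂ : ∀ g : G, (∀ u ∈ Q₂, g * u = u * g) → g ∈ Q₂)
    (n₁ : NatTwo P₁ V₁ D₁ e₁) (q₁ : QuadOver V₁ V₂ e₁ w₁) (DV₁ : D₁ ≤ V₁) (Dn₁ : ∀ p ∈ P₁, ∀ d ∈ D₁, p * d * p⁻¹ ∈ D₁)
    (n₂ : NatTwo P₂ V₂ D₂ e₂) (q₂ : QuadOver V₂ V₁ e₂ w₂) (DV₂ : D₂ ≤ V₂) (Dn₂ : ∀ p ∈ P₂, ∀ d ∈ D₂, p * d * p⁻¹ ∈ D₂)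
    (hF : 2 < Nat.card F₁) : IsKnownSimple' G := by
  have := hG.simple
  rcases h.exit hcen₁ hcen₂ n₁ q₁ DV₁ Dn₁ n₂ q₂ DV₂ Dn₂ hF (CTs_of hG.char2 _ _) with
    ⟨X, Y, Z, h1, hS⟩ | ⟨X, Y, Z, Z', h1, hS⟩
  · have := h1.charP
    rcases hS with hS | h4
    · exact h1.known h1169 h1171 h1296 (four_le hF) S hS
    · exact absurd (h1.rank_four S h.ctx h4) hG.rank
  · have := h1.charP
    exact h1.known h1169 h1171 h1296 (four_le hF) S hS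

end Cfsg.Agent.Omega.FFOne.Mut
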